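import Cfsg.Agent.UDec18.Setup

/-!
Stabiliser of a decomposition in coordinates (helper18).
-/

set_option autoImplicit false
set_option linter.unusedSectionVars false

namespace Cfsg.Agent.UDec18

open Matrix Cfsg.Agent.MaxSub Cfsg.Agent.HermStab
open Finset (univ)

variable {F : Type*} [Field F] [Fintype F] {n q t k : ℕ}
variable {σ : F ≃+* F} {f : (Fin n → F) → (Fin n → F) → F}
variable {D : Fin t → Submodule F (Fin n → F)} {U : GL (Fin n) F} {blk : Fin n → Fin t}

local notation:73 g:74 " ◆ " x:73 => (Units.val g) *ᵥ x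

theorem keeps_of_stab (hU : ∀ j x, x ∈ D j ↔ ∀ a, blk a ≠ j → ((U⁻¹ : GL (Fin n) F) ◆ x) a = 0)
    {g : GL (Fin n) F} (hg : g ∈ Geo.decompositionStabilizer D) : Keeps blk (U⁻¹ * g * U) := by
  obtain ⟨π, hπ⟩ := hg
  refine ⟨π, fun a b hab => by_contra fun hne => hab ?_⟩
  have h1 : U ◆ e a ∈ D (blk a) := (hU _ _).mpr fun c hc => by
    rw [inv_mulVec_mulVec]; simp [e, show c ≠ a from fun h => hc (h ▸ rfl)]
  have h2 : g ◆ U ◆ e a ∈ D (π (blk a)) := by
    rw [← hπ]; exact ⟨_, h1, Matrix.toLin'_apply _ _⟩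
  rw [ap_mul, ap_mul]
  exact (hU _ _).mp h2 b hne

theorem stab_of_keeps (hU : ∀ j x, x ∈ D j ↔ ∀ a, blk a ≠ j → ((U⁻¹ : GL (Fin n) F) ◆ x) a = 0)
    (hk : 0 < k) (hcard : ∀ j, Nat.card {i // blk i = j} = k)
    (hfr : ∀ j, Module.finrank F (D j) = k)
    {g : GL (Fin n) F} (hg : Keeps blk (U⁻¹ * g * U)) : g ∈ Geo.decompositionStabilizer D := by
  classical
  obtain ⟨π, hπ⟩ := hg
  set h := U⁻¹ * g * U with hh
  have hsurj : Function.Surjective π := by
    intro j
    obtain ⟨b, hb⟩ : ∃ b, blk b = j := by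
      have : Nonempty {i // blk i = j} := (Nat.card_pos_iff.mp (by rw [hcard]; exact hk)).1
      exact ⟨this.some.1, this.some.2⟩
    by_contra hne
    have h1 : (h ◆ ((h⁻¹ : GL (Fin n) F) ◆ e b)) b = 1 := by rw [mulVec_inv_mulVec]; simp [e]
    rw [ap_eq_sum, Finset.sum_apply, Finset.sum_eq_zero fun a _ => ?_] at h1
    · exact zero_ne_one h1
    have : (h ◆ e a) b = 0 := not_not.mp fun h' => hne ⟨blk a, by rw [← hπ a b h', hb]⟩
    rw [Pi.smul_apply, this, smul_zero]
  refine ⟨Equiv.ofBijective π ⟨Finite.injective_iff_surjective.mpr hsurj, hsurj⟩, fun i => ?_⟩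
  have hle : (D i).map (Matrix.toLin' (g : Matrix (Fin n) (Fin n) F)) ≤ D (π i) := by
    rintro y ⟨x, hx, rfl⟩
    refine (hU _ _).mpr fun b hb => ?_
    rw [Matrix.toLin'_apply, show ((U⁻¹ : GL (Fin n) F) ◆ g ◆ x) =
      h ◆ ((U⁻¹ : GL (Fin n) F) ◆ x) by rw [hh, ap_mul, ap_mul, mulVec_inv_mulVec],
      ap_eq_sum, Finset.sum_apply]
    refine Finset.sum_eq_zero fun a _ => ?_
    by_cases ha : blk a = i
    · have : (h ◆ e a) b = 0 := not_not.mp fun h' => hb (by rw [hπ a b h', ha])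
      rw [Pi.smul_apply, this, smul_zero]
    · rw [(hU _ _).mp hx a ha, zero_smul]; rfl
  refine Submodule.eq_of_le_of_finrank_eq hle ?_
  show _ = Module.finrank F (D (π i))
  rw [hfr]
  rw [← (Submodule.equivMapOfInjective _ (fun x y e => mulVec_injective g (by
    simpa [Matrix.toLin'_apply] using e)) (D i)).finrank_eq, hfr]

theorem keeps_id (hinj : Function.Injective blk) (hs : Function.Surjective blk)
    {h : GL (Fin n) F} : Keeps blk h ↔ Mono h := by
  constructor
  · rintro ⟨π, hπ⟩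
    refine ⟨fun a => (hs (π (blk a))).choose, fun a b hab => hinj ?_⟩
    exact (hπ a b hab).trans ((hs (π (blk a))).choose_spec).symm
  · rintro ⟨π, hπ⟩
    refine ⟨fun j => blk (π (hs j).choose), fun a b hab => ?_⟩
    have : (hs (blk a)).choose = a := hinj (hs (blk a)).choose_spec
    show blk b = blk (π (hs (blk a)).choose)
    rw [this]
    exact congrArg blk (hπ a b hab)

theorem blk_bijective (hcard : ∀ j, Nat.card {i // blk i = j} = 1) : Function.Bijective blk := by
  refine ⟨fun a b hab => ?_, fun j => ?_⟩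
  · have : Subsingleton {i // blk i = blk b} := (Nat.card_eq_one_iff_unique.mp (hcard _)).1
    exact congrArg Subtype.val (Subsingleton.elim (⟨a, hab⟩ : {i // blk i = blk b}) ⟨b, rfl⟩)
  · have : Nonempty {i // blk i = j} := (Nat.card_eq_one_iff_unique.mp (hcard j)).2
    exact ⟨this.some.1, this.some.2⟩

variable (S : Std q σ f)
include S

theorem exists_not_keeps (hn : 4 ≤ n) (hk : 0 < k) (ht : 2 ≤ t)
    (hcard : ∀ j, Nat.card {i // blk i = j} = k) : ∃ h ∈ su f, ¬ Keeps blk h := by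
  classical
  obtain ⟨c, hc0, hc⟩ := exists_skew S.uf
  obtain ⟨ξ, hξ⟩ := S.exists_norm (r := (-1 : F)) (by simp)
  have hξ0 : ξ ≠ 0 := fun h => by simp [h] at hξ
  by_cases h1 : k = 1
  · have hinj := (blk_bijective (h1 ▸ hcard)).1
    let a : Fin 4 → Fin n := fun i => ⟨i, by omega⟩
    have ha : ∀ i j, i ≠ j → a i ≠ a j := fun i j h e => h (Fin.ext (by simpa [a] using e))
    set v := two (a 0) 1 (a 1) ξ + two (a 2) 1 (a 3) ξ with hv
    have hiso : f v v = 0 := by
      have d1 := S.two_iso (ha 0 1 (by decide)) (a := (1 : F)) (b := ξ) (by rw [map_one, hξ]; ring)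
      have d2 := S.two_iso (ha 2 3 (by decide)) (a := (1 : F)) (b := ξ) (by rw [map_one, hξ]; ring)
      have d3 : f (two (a 0) 1 (a 1) ξ) (two (a 2) 1 (a 3) ξ) = 0 := by
        rw [S.f_two, two_apply (ha 0 1 (by decide)), two_apply (ha 0 1 (by decide))]
        simp [ha 2 0 (by decide), ha 2 1 (by decide), ha 3 0 (by decide), ha 3 1 (by decide)]
      have d4 := hswap_zero S.uf d3
      set p := two (a 0) 1 (a 1) ξ
      set r := two (a 2) 1 (a 3) ξ
      rw [hv, S.uf.add_left, show ∀ x, f x (p + r) = f x p + f x r from fun x => hadd_right S.uf x p r,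
        show ∀ x, f x (p + r) = f x p + f x r from fun x => hadd_right S.uf x p r, d1, d2, d3, d4]
      simp
    refine ⟨ut f v c, ut_mem_su S.uf hiso hc, fun ⟨π, hπ⟩ => ?_⟩
    have him : ∀ j, j ≠ 0 → (ut f v c ◆ e (a 0)) (a j) = c * v (a j) := fun j hj => by
      rw [ut_mulVec S.uf hiso, S.e_f]
      simp [hv, two, e, ha j 0 hj, (ha j 0 hj).symm, ha 0 1 (by decide), ha 0 2 (by decide),
        ha 0 3 (by decide)]
      ring
    have e1 := hπ (a 0) (a 1) (by
      rw [him 1 (by decide)]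
      simp [hv, two, e, ha 1 0 (by decide), ha 1 2 (by decide), ha 1 3 (by decide), hc0, hξ0])
    have e2 := hπ (a 0) (a 2) (by
      rw [him 2 (by decide)]
      simp [hv, two, e, ha 2 0 (by decide), ha 2 1 (by decide), ha 2 3 (by decide), hc0])
    exact ha 1 2 (by decide) (hinj (e1.trans e2.symm))
  · have hne : ∀ j, ∃ a b, blk a = j ∧ blk b = j ∧ a ≠ b := fun j => by
      have : 1 < Nat.card {i // blk i = j} := by rw [hcard]; omega
      rw [Nat.card_eq_fintype_card] at this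
      obtain ⟨⟨a, ha⟩, ⟨b, hb⟩, hab⟩ := Fintype.one_lt_card_iff.mp this
      exact ⟨a, b, ha, hb, fun h => hab (Subtype.ext h)⟩
    obtain ⟨a₁, a₂, h₁, h₂, h12⟩ := hne ⟨0, by omega⟩
    obtain ⟨b₁, -, hb₁, -, -⟩ := hne ⟨1, by omega⟩
    have hab : a₁ ≠ b₁ := fun h => by rw [h, hb₁] at h₁; simp at h₁
    have hab' : a₂ ≠ b₁ := fun h => by rw [h, hb₁] at h₂; simp at h₂
    set v := two a₁ 1 b₁ ξ with hv
    have hiso : f v v = 0 := S.two_iso hab (by rw [map_one, hξ]; ring)
    refine ⟨ut f v c, ut_mem_su S.uf hiso hc, fun ⟨π, hπ⟩ => ?_⟩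
    have e1 := hπ a₁ b₁ (by
      rw [ut_mulVec S.uf hiso, S.e_f]
      simp [hv, two, e, hab, hab.symm, hc0, hξ0])
    have e2 := hπ a₂ a₂ (by
      rw [ut_mulVec S.uf hiso, S.e_f]
      simp [hv, two, e, hab', h12.symm])
    rw [h₁, hb₁] at e1
    rw [h₂] at e2
    rw [← e2] at e1
    simp at e1

omit S in
/-- Unitary decomposition stabilisers are maximal in the special unitary group (`n = 4` allowed
for `q ≠ 2`). -/
theorem decomposition_isMaximalIn_ge_four (hF : Fintype.card F = q ^ 2) (hn : 4 ≤ n)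
    (hn5 : q = 2 → 5 ≤ n)
    (hlines : k = 1 → 10 ≤ n ∨ n = 6 ∧ 3 ≤ q)
    (hD : Geo.IsNondegenerateMDecomposition (hermForm n F q) k D) (hex : ¬ (k = 2 ∧ q = 2)) :
    Geo.IsMaximalIn (GU n F q ⊓ Geo.specialLinear (Fin n) F)
      (Geo.decompositionStabilizer D ⊓ (GU n F q ⊓ Geo.specialLinear (Fin n) F)) := by
  classical
  obtain ⟨σ, hσ, hf⟩ := exists_setup (n := n) hF
  have S : Std q σ (hermForm n F q) := ⟨hf, hF, hσ, fun x y => by simp [hermForm, hσ]⟩
  obtain ⟨U, blk, hUi, hcard, hU⟩ := exists_coords S hD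
  have hk := hD.decomp.pos
  have conj_su : ∀ {W h : GL (Fin n) F}, W ∈ isom (hermForm n F q) → h ∈ su (hermForm n F q) →
      W * h * W⁻¹ ∈ su (hermForm n F q) := fun {W h} hW hh =>
    ⟨(mul_mem (mul_mem hW hh.1) (inv_mem hW) : W * h * W⁻¹ ∈ isom (hermForm n F q)),
      (mem_special_iff S).mpr (by
      rw [Units.val_mul, Units.val_mul, Matrix.det_units_conj]
      exact (mem_special_iff S).mp hh.2)⟩
  have conj_su' : ∀ {h : GL (Fin n) F}, h ∈ su (hermForm n F q) →
      U⁻¹ * h * U ∈ su (hermForm n F q) := fun hh => by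
    simpa using conj_su (inv_mem hUi) hh
  rw [← su_eq]
  refine isMaximalIn_of inf_le_right ?_ fun M hHM hMG g hg hgH => ?_
  · obtain ⟨h, hh, hnk⟩ := exists_not_keeps S (by omega) hk hD.decomp.two_le hcard
    refine ⟨U * h * U⁻¹, conj_su hUi hh, fun hx => hnk ?_⟩
    have := keeps_of_stab hU hx.1
    simpa [mul_assoc] using this
  · set M' : Subgroup (GL (Fin n) F) := M.comap (MulAut.conj U).toMonoidHom with hM'
    have memM' : ∀ h, h ∈ M' ↔ U * h * U⁻¹ ∈ M := fun h => Iff.rfl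
    have hM'G : M' ≤ su (hermForm n F q) := fun h hh => by
      simpa [mul_assoc] using conj_su' (hMG ((memM' h).mp hh))
    have hH : ∀ h ∈ su (hermForm n F q), Keeps blk h → h ∈ M' := fun h hh hkp =>
      (memM' h).mpr (hHM ⟨stab_of_keeps hU hk hcard hD.decomp.finrank_eq
        (by simpa [mul_assoc] using hkp), conj_su hUi hh⟩)
    have hg' : U⁻¹ * g * U ∈ M' := (memM' _).mpr (by simpa [mul_assoc] using hg)
    have hgn : ¬ Keeps blk (U⁻¹ * g * U) := fun h =>
      hgH ⟨stab_of_keeps hU hk hcard hD.decomp.finrank_eq h, hMG hg⟩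
    have hcent : ∀ v, hermForm n F q v v = 0 → Centre σ (hermForm n F q) M' v := by
      by_cases h1 : k = 1
      · obtain ⟨hinj, hs⟩ := blk_bijective (h1 ▸ hcard)
        exact centre_of_lines S (hlines h1) (fun h hh hm => hH h hh ((keeps_id hinj hs).mpr hm)) hM'G hg'
          fun hm => hgn ((keeps_id hinj hs).mpr hm)
      · exact centre_of_blocks S hn5 (by omega) hcard hex hH hM'G hg' hgn
    refine le_of_centres hF hσ hf (by omega) fun v hv => ?_
    have hw : hermForm n F q ((U⁻¹ : GL (Fin n) F) ◆ v) ((U⁻¹ : GL (Fin n) F) ◆ v) = 0 :=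
      (mem_isom.mp (inv_mem hUi) v v).trans hv
    obtain ⟨-, hC⟩ := hcent _ hw
    refine ⟨hv, fun c hc => ?_⟩
    have e : ut (hermForm n F q) v c =
        U * ut (hermForm n F q) ((U⁻¹ : GL (Fin n) F) ◆ v) c * U⁻¹ := gl_ext fun x => by
      rw [ap_mul, ap_mul, ut_mulVec hf hv, ut_mulVec hf hw, mulVec_add, mulVec_smul,
        mulVec_inv_mulVec, mulVec_inv_mulVec, mem_isom.mp (inv_mem hUi)]
    rw [e]
    exact (memM' _).mp (hC c hc)

omit S in
/-- Unitary decomposition stabilisers are maximal in the special unitary group. -/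
theorem decomposition_isMaximalIn_of (hF : Fintype.card F = q ^ 2) (hn : 5 ≤ n)
    (hlines : k = 1 → 10 ≤ n ∨ n = 6 ∧ 3 ≤ q)
    (hD : Geo.IsNondegenerateMDecomposition (hermForm n F q) k D) (hex : ¬ (k = 2 ∧ q = 2)) :
    Geo.IsMaximalIn (GU n F q ⊓ Geo.specialLinear (Fin n) F)
      (Geo.decompositionStabilizer D ⊓ (GU n F q ⊓ Geo.specialLinear (Fin n) F)) :=
  decomposition_isMaximalIn_ge_four hF (by omega) (fun _ => hn) hlines hD hex

omit S in
/-- Unitary decomposition stabilisers are maximal in the special unitary group, `n ≥ 10`. -/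
theorem decomposition_isMaximalIn (hF : Fintype.card F = q ^ 2) (hn : 10 ≤ n)
    (hD : Geo.IsNondegenerateMDecomposition (hermForm n F q) k D) (hex : ¬ (k = 2 ∧ q = 2)) :
    Geo.IsMaximalIn (GU n F q ⊓ Geo.specialLinear (Fin n) F)
      (Geo.decompositionStabilizer D ⊓ (GU n F q ⊓ Geo.specialLinear (Fin n) F)) :=
  decomposition_isMaximalIn_of hF (by omega) (fun _ => Or.inl hn) hD hex

end Cfsg.Agent.UDec18
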