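import Cfsg.Agent.UDec18.Basic

/-!
Centres of all two-coordinate isotropic vectors (plus four-coordinate ones over `GF(4)`) give all
centres (helper18).
-/

set_option autoImplicit false
set_option linter.unusedSectionVars false

namespace Cfsg.Agent.UDec18

open Matrix Cfsg.Agent.MaxSub Cfsg.Agent.HermStab
open Finset (univ)

variable {F : Type*} [Field F] [Fintype F] {n q : ℕ}
variable {σ : F ≃+* F} {f : (Fin n → F) → (Fin n → F) → F} {M : Subgroup (GL (Fin n) F)}

local notation:73 g:74 " ◆ " x:73 => (Units.val g) *ᵥ x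

/-- The support of a vector. -/
noncomputable def sp (v : Fin n → F) : Finset (Fin n) := by
  classical exact univ.filter fun i => v i ≠ 0

@[simp] theorem mem_sp {v : Fin n → F} {i : Fin n} : i ∈ sp v ↔ v i ≠ 0 := by simp [sp]

theorem eq_two {v : Fin n → F} {a b : Fin n} (hab : a ≠ b)
    (h : ∀ i, i ≠ a → i ≠ b → v i = 0) : v = two a (v a) b (v b) := by
  funext i
  rw [two_apply hab]
  by_cases h1 : i = a
  · simp [h1]
  · by_cases h2 : i = b
    · simp [h1, h2, hab.symm]
    · simp [h1, h2, h i h1 h2]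

/-- Every isotropic two-coordinate vector is a centre. -/
def Roots (σ : F ≃+* F) (f : (Fin n → F) → (Fin n → F) → F) (M : Subgroup (GL (Fin n) F)) : Prop :=
  ∀ (a b : Fin n) (α β : F), a ≠ b → α * σ α + β * σ β = 0 → Centre σ f M (two a α b β)

variable (S : Std q σ f)
include S

theorem centre_back {v : Fin n → F} {k : GL (Fin n) F} (hk : k ∈ M) (hki : k ∈ isom f)
    (h : Centre σ f M (k ◆ v)) : Centre σ f M v := by
  have := centre_map S.uf h (inv_mem hk) (inv_mem hki)
  rwa [inv_mulVec_mulVec] at this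

/-- A move by a root transvection. -/
theorem root_move (hR : Roots σ f M) {a b : Fin n} (hab : a ≠ b) {ξ c : F}
    (hξ : ξ * σ ξ = -1) (hc : c + σ c = 0) (v : Fin n → F) :
    ∃ k ∈ M, k ∈ isom f ∧ (∀ i, i ≠ a → i ≠ b → (k ◆ v) i = v i) ∧
      (k ◆ v) a = v a + c * (v a + σ ξ * v b) ∧
      (k ◆ v) b = v b + c * (v a + σ ξ * v b) * ξ := by
  have hu := hR a b 1 ξ hab (by rw [map_one, mul_one, hξ, add_neg_cancel])
  refine ⟨_, hu.2 c hc, ut_mem_isom S.uf hu.1 hc, fun i hia hib => ?_, ?_, ?_⟩ <;>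
    rw [ut_mulVec S.uf hu.1, Pi.add_apply, Pi.smul_apply, two_apply hab, S.f_two, map_one, one_mul,
      smul_eq_mul]
  · simp [hia, hib]
  · simp
  · simp [hab.symm]

/-- The two norms of a pair change without changing their sum. -/
theorem norm_pair {v w : Fin n → F} {a b : Fin n} (hab : a ≠ b) (h : f w w = f v v)
    (he : ∀ i, i ≠ a → i ≠ b → w i = v i) :
    w a * σ (w a) + w b * σ (w b) = v a * σ (v a) + v b * σ (v b) := by
  classical
  rw [S.self_sum, S.self_sum, ← Finset.sum_sdiff (Finset.subset_univ {a, b}),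
    ← Finset.sum_sdiff (Finset.subset_univ {a, b}), Finset.sum_pair hab, Finset.sum_pair hab] at h
  have e : ∑ i ∈ univ \ {a, b}, w i * σ (w i) = ∑ i ∈ univ \ {a, b}, v i * σ (v i) :=
    Finset.sum_congr rfl fun i hi => by
      simp only [Finset.mem_sdiff, Finset.mem_insert, Finset.mem_singleton, not_or] at hi
      rw [he i hi.2.1 hi.2.2]
  rw [e] at h
  exact add_left_cancel h

/-- A pair with skew square root of the norm ratio merges. -/
theorem merge (hR : Roots σ f M) {v : Fin n → F} {a b : Fin n} (hab : a ≠ b) (ha : v a ≠ 0)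
    {c : F} (hc : c + σ c = 0) (hc0 : c ≠ 0)
    (h : c ^ 2 * (v a * σ (v a) + v b * σ (v b)) = v b * σ (v b)) :
    ∃ k ∈ M, k ∈ isom f ∧ (∀ i, i ≠ a → i ≠ b → (k ◆ v) i = v i) ∧ (k ◆ v) b = 0 := by
  set ξ := -(v b * (1 - c)) / (c * v a) with hξ
  have hσc : σ c = -c := eq_neg_of_add_eq_zero_right hc
  have hN : ξ * σ ξ = -1 := by
    have ha' : σ (v a) ≠ 0 := (map_ne_zero σ).mpr ha
    rw [hξ, map_div₀, map_neg, map_mul, map_mul, map_sub, map_one, hσc]
    field_simp
    linear_combination h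
  obtain ⟨k, hk, hki, he, -, hb⟩ := root_move S hR hab hN hc v
  refine ⟨k, hk, hki, he, ?_⟩
  rw [hb]
  have e : c * ξ * v a = -(v b * (1 - c)) := by rw [hξ]; field_simp
  linear_combination e + c * v b * hN

theorem sp_card_lt {v w : Fin n → F} {b : Fin n} (hb : v b ≠ 0) (hb' : w b = 0)
    (h : ∀ i, v i = 0 → w i = 0) : (sp w).card < (sp v).card :=
  Finset.card_lt_card ⟨fun i hi => mem_sp.mpr fun h0 => mem_sp.mp hi (h i h0),
    fun hsub => mem_sp.mp (hsub (mem_sp.mpr hb)) hb'⟩

/-- Some root moves strictly shorten a vector with three non-zero coordinates. -/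
theorem shorten (h3 : 3 ≤ q) (hR : Roots σ f M) {v : Fin n → F} {a b l : Fin n}
    (hab : a ≠ b) (hal : a ≠ l) (hbl : b ≠ l) (ha : v a ≠ 0) (hb : v b ≠ 0) (hl : v l ≠ 0) :
    ∃ k ∈ M, k ∈ isom f ∧ (sp (k ◆ v)).card < (sp v).card := by
  classical
  have hx : ∀ i, v i ≠ 0 → v i * σ (v i) ≠ 0 := fun i hi => mul_ne_zero hi ((map_ne_zero σ).mpr hi)
  have keep : ∀ {w : Fin n → F} {p r : Fin n}, v p ≠ 0 → v r ≠ 0 →
      (∀ i, i ≠ p → i ≠ r → w i = v i) → ∀ i, v i = 0 → w i = 0 := by
    intro w p r hp hr he i hi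
    rw [he i (fun h => hp (h ▸ hi)) (fun h => hr (h ▸ hi)), hi]
  have circ_shift : ∀ {ξ₀ : F}, ξ₀ * σ ξ₀ = -1 → ∀ ζ ∈ S.circ, (ξ₀ * σ ζ) * σ (ξ₀ * σ ζ) = -1 :=
    fun {ξ₀} hξ₀ ζ hζ => by
      rw [map_mul, S.inv]; linear_combination (ζ * σ ζ) * hξ₀ - S.mem_circ.mp hζ
  obtain ⟨ξ₀, hξ₀⟩ := S.exists_norm (r := (-1 : F)) (by simp)
  have hξ₀0 : ξ₀ ≠ 0 := fun h => by simp [h] at hξ₀
  obtain ⟨c₀, hc₀, hc₀'⟩ := exists_skew S.uf
  have hσc₀ : σ c₀ = -c₀ := eq_neg_of_add_eq_zero_right hc₀'
  by_cases h2 : (2 : F) = 0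
  · -- characteristic two
    have : CharP F 2 := CharTwo.of_one_ne_zero_of_two_eq_zero one_ne_zero h2
    have hsq : ∀ r : F, σ r = r → r ≠ 0 → ∃ c : F, c + σ c = 0 ∧ c ≠ 0 ∧ c ^ 2 = r := by
      intro r hr hr0
      obtain ⟨c, hc⟩ := FiniteField.isSquare_of_char_two (F := F) (ringChar.eq F 2) r
      refine ⟨c, ?_, fun h => hr0 (by rw [hc, h, mul_zero]), by rw [hc, sq]⟩
      have : σ c = c := by
        rw [hc, map_mul, ← sub_eq_zero, mul_self_sub_mul_self, CharTwo.sub_eq_add, ← sq] at hr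
        simpa [CharTwo.add_eq_iff_eq_add] using pow_eq_zero_iff two_ne_zero |>.mp hr
      rw [this, CharTwo.add_self_eq_zero]
    have pair : ∀ {w : Fin n → F} {p r : Fin n}, p ≠ r → w p ≠ 0 → w r ≠ 0 →
        w p * σ (w p) + w r * σ (w r) ≠ 0 →
        ∃ k ∈ M, k ∈ isom f ∧ (∀ i, i ≠ p → i ≠ r → (k ◆ w) i = w i) ∧ (k ◆ w) r = 0 := by
      intro w p r hpr hp hr hs
      obtain ⟨c, hc, hc0, hc2⟩ := hsq (w r * σ (w r) / (w p * σ (w p) + w r * σ (w r)))
        (by rw [map_div₀, map_add, S.norm_real, S.norm_real])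
        (div_ne_zero (mul_ne_zero hr ((map_ne_zero σ).mpr hr)) hs)
      exact merge S hR hpr hp hc hc0 (by rw [hc2, div_mul_cancel₀ _ hs])
    by_cases hab' : v a * σ (v a) + v b * σ (v b) = 0
    swap
    · obtain ⟨k, hk, hki, he, hb'⟩ := pair hab ha hb hab'
      exact ⟨k, hk, hki, sp_card_lt S hb hb' (keep ha hb he)⟩
    by_cases hal' : v a * σ (v a) + v l * σ (v l) = 0
    swap
    · obtain ⟨k, hk, hki, he, hl'⟩ := pair hal ha hl hal'
      exact ⟨k, hk, hki, sp_card_lt S hl hl' (keep ha hl he)⟩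
    -- all norms equal: change the norm at `a`
    obtain ⟨c, hcR, hc1⟩ := Finset.exists_mem_notMem_of_card_lt_card
      (s := ({0, 1} : Finset F)) (t := S.reals) (Finset.card_le_two.trans_lt (by
        rw [S.card_reals]; omega))
    simp only [Finset.mem_insert, Finset.mem_singleton, not_or] at hc1
    have hσc := S.mem_reals.mp hcR
    have hc : c + σ c = 0 := by rw [hσc, CharTwo.add_self_eq_zero]
    set A := v a * (1 + c)
    set B := c * σ ξ₀ * v b
    have hA : A ≠ 0 := mul_ne_zero ha fun h => hc1.2 (CharTwo.add_eq_zero.mp h).symm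
    have hB : B ≠ 0 := mul_ne_zero (mul_ne_zero hc1.1 ((map_ne_zero σ).mpr hξ₀0)) hb
    have hcard := S.card_le_two_image (mul_ne_zero ((map_ne_zero σ).mpr hA) hB)
      (A * σ A + B * σ B) S.circ subset_rfl
    rw [S.card_circ] at hcard
    obtain ⟨y, hy, hyn⟩ := Finset.exists_mem_notMem_of_card_lt_card
      (s := ({v a * σ (v a)} : Finset F)) (t := S.circ.image fun ξ =>
        σ A * B * ξ + σ (σ A * B * ξ) + (A * σ A + B * σ B)) (by
        rw [Finset.card_singleton]; omega)
    rw [Finset.mem_singleton] at hyn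
    obtain ⟨ζ, hζ, rfl⟩ := Finset.mem_image.mp hy
    obtain ⟨k, hk, hki, he, hka, -⟩ := root_move S hR hab (circ_shift hξ₀ ζ hζ) hc v
    have hkaN : (k ◆ v) a * σ ((k ◆ v) a) ≠ v a * σ (v a) := by
      have e : (k ◆ v) a = A + B * ζ := by
        rw [hka, map_mul, S.inv]; simp only [A, B]; ring
      rw [e, S.two_term_norm A B ζ (S.mem_circ.mp hζ)]
      exact hyn
    by_cases hk0 : (k ◆ v) a = 0
    · exact ⟨k, hk, hki, sp_card_lt S ha hk0 (keep ha hb he)⟩
    have hkl : (k ◆ v) l = v l := he l hal.symm hbl.symm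
    obtain ⟨k', hk', hki', he', hl'⟩ := pair (w := k ◆ v) hal hk0 (hkl.symm ▸ hl) (by
      rw [hkl]
      intro h
      exact hkaN (add_right_cancel (h.trans hal'.symm)))
    refine ⟨k' * k, mul_mem hk' hk, mul_mem hki' hki, ?_⟩
    rw [ap_mul]
    refine sp_card_lt S hl hl' fun i hi => ?_
    rw [he' i (fun h => ha (h ▸ hi)) (fun h => hl (h ▸ hi))]
    exact keep ha hb he i hi
  · -- odd characteristic
    obtain ⟨p, r, hpr, hp, hr, hs⟩ : ∃ p r, p ≠ r ∧ v p ≠ 0 ∧ v r ≠ 0 ∧
        v p * σ (v p) + v r * σ (v r) ≠ 0 := by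
      by_cases h1 : v a * σ (v a) + v b * σ (v b) = 0
      · by_cases h3 : v a * σ (v a) + v l * σ (v l) = 0
        · refine ⟨b, l, hbl, hb, hl, fun h4 => mul_ne_zero h2 (hx a ha) ?_⟩
          linear_combination h1 + h3 - h4
        · exact ⟨a, l, hal, ha, hl, h3⟩
      · exact ⟨a, b, hab, ha, hb, h1⟩
    set s := v p * σ (v p) + v r * σ (v r) with hs'
    have hσs : σ s = s := by rw [hs', map_add, S.norm_real, S.norm_real]
    set A := v p * (1 + c₀)
    set B := c₀ * σ ξ₀ * v r
    have hA : A ≠ 0 := mul_ne_zero hp fun h => S.not_real_of_skew h2 hc₀' hc₀ (by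
      rw [eq_neg_of_add_eq_zero_right h, map_neg, map_one])
    have hB : B ≠ 0 := mul_ne_zero (mul_ne_zero hc₀ ((map_ne_zero σ).mpr hξ₀0)) hr
    have hCr : σ (A * σ A + B * σ B) = A * σ A + B * σ B := by
      rw [map_add, S.norm_real, S.norm_real]
    have hcard := S.card_le_two_image (mul_ne_zero ((map_ne_zero σ).mpr hA) hB)
      (A * σ A + B * σ B) S.circ subset_rfl
    rw [S.card_circ] at hcard
    set Y := S.circ.image fun ξ => σ A * B * ξ + σ (σ A * B * ξ) + (A * σ A + B * σ B)
    have hY : Y ⊆ S.reals := fun y hy => by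
      obtain ⟨ξ, -, rfl⟩ := Finset.mem_image.mp hy
      exact S.image_real hCr ξ
    set R0 := S.reals.filter fun y => y ≠ 0
    set Sq := R0.image fun y => s * y ^ 2
    have hSq : 2 * Sq.card ≤ R0.card := by
      refine Finset.mul_card_image_le_card R0 2 fun b hb => ?_
      obtain ⟨y, hy, rfl⟩ := Finset.mem_image.mp hb
      have hy' := Finset.mem_filter.mp hy
      refine (Finset.card_pair (a := y) (b := -y) fun h => hy'.2 ?_).symm.le.trans
        (Finset.card_le_card fun z hz => ?_)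
      · exact (mul_eq_zero.mp (show (2 : F) * y = 0 by linear_combination h)).resolve_left h2
      · rcases Finset.mem_insert.mp hz with rfl | hz
        · exact Finset.mem_filter.mpr ⟨hy, rfl⟩
        · rw [Finset.mem_singleton] at hz
          subst hz
          refine Finset.mem_filter.mpr ⟨Finset.mem_filter.mpr ⟨?_, by simpa using hy'.2⟩, by rw [neg_sq]⟩
          rw [S.mem_reals, map_neg, S.mem_reals.mp hy'.1]
    have hR0 : R0.card + 1 ≤ q := by
      rw [← S.card_reals]
      refine Finset.card_lt_card ⟨Finset.filter_subset _ _, fun h => ?_⟩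
      have := Finset.mem_filter.mp (h (S.mem_reals.mpr (map_zero σ)))
      exact this.2 rfl
    set G := insert s (S.reals \ Sq)
    have hsSq : s ∈ Sq := Finset.mem_image.mpr
      ⟨1, Finset.mem_filter.mpr ⟨S.mem_reals.mpr (map_one σ), one_ne_zero⟩, by simp⟩
    have hGc : G.card = (S.reals \ Sq).card + 1 :=
      Finset.card_insert_of_notMem fun h => (Finset.mem_sdiff.mp h).2 hsSq
    have hsd := Finset.le_card_sdiff Sq S.reals
    rw [S.card_reals] at hsd
    obtain ⟨y, hyY, hyG⟩ := exists_mem_mem_of_card S hY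
      (show G ⊆ S.reals from Finset.insert_subset (S.mem_reals.mpr hσs) Finset.sdiff_subset) (by
        rw [S.card_reals]; omega)
    have hyr := S.mem_reals.mp (hY hyY)
    obtain ⟨ζ, hζ, hζy⟩ := Finset.mem_image.mp hyY
    obtain ⟨k, hk, hki, he, hka, -⟩ := root_move S hR hpr (circ_shift hξ₀ ζ hζ) hc₀' v
    have hNp : (k ◆ v) p * σ ((k ◆ v) p) = y := by
      have e : (k ◆ v) p = A + B * ζ := by
        rw [hka, map_mul, S.inv]; simp only [A, B]; ring
      rw [e, S.two_term_norm A B ζ (S.mem_circ.mp hζ), hζy]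
    have hsum := norm_pair S hpr (mem_isom.mp hki v v) he
    rw [← hs', hNp] at hsum
    have zero_of : ∀ x : F, x * σ x = 0 → x = 0 := fun x h =>
      (mul_eq_zero.mp h).elim id fun h' => (map_eq_zero σ).mp h'
    by_cases hp0 : (k ◆ v) p = 0
    · exact ⟨k, hk, hki, sp_card_lt S hp hp0 (keep hp hr he)⟩
    by_cases hr0 : (k ◆ v) r = 0
    · exact ⟨k, hk, hki, sp_card_lt S hr hr0 (keep hp hr he)⟩
    have hy0 : y ≠ 0 := fun h => hp0 (zero_of _ (hNp.trans h))
    rcases Finset.mem_insert.mp hyG with hys | hyS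
    · exact absurd (zero_of _ (by linear_combination hsum - hys)) hr0
    obtain ⟨c, hc⟩ : IsSquare (y / s) := by
      rw [FiniteField.isSquare_iff (fun h => h2 (by
        have := ringChar.of_eq h
        exact_mod_cast CharP.cast_eq_zero F 2)) (div_ne_zero hy0 hs)]
      have hr' : (y / s) ^ q = y / s := by rw [← S.pow, map_div₀, hyr, hσs]
      have h1 : (y / s) ^ (q - 1) = 1 := by
        rw [Unitary.pow_q_sub_one S.card (div_ne_zero hy0 hs), hr',
          div_self (div_ne_zero hy0 hs)]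
      obtain ⟨j, hj⟩ : q - 1 ∣ Fintype.card F / 2 := by
        rw [S.card]
        have hq2 : q % 2 = 1 := by
          by_contra hq
          refine h2 ?_
          obtain ⟨p', k', hp', -, hchar, hqp⟩ := Unitary.exists_prime_pow S.card
          rw [hqp] at hq
          obtain rfl : 2 = p' := (Nat.prime_dvd_prime_iff_eq Nat.prime_two hp').mp
            (Nat.prime_two.dvd_of_dvd_pow (Nat.dvd_of_mod_eq_zero (by omega : (p' ^ k') % 2 = 0)))
          exact_mod_cast CharP.cast_eq_zero F 2
        obtain ⟨m, hm⟩ : ∃ m, q = 2 * m + 1 := ⟨q / 2, by omega⟩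
        refine ⟨m + 1, ?_⟩
        subst hm
        rw [Nat.add_sub_cancel]
        apply Nat.div_eq_of_lt_le <;> ring_nf <;> omega
      rw [hj, pow_mul, h1, one_pow]
    have hcnr : σ c ≠ c := fun h => (Finset.mem_sdiff.mp hyS).2 (Finset.mem_image.mpr
      ⟨c, Finset.mem_filter.mpr ⟨S.mem_reals.mpr h, fun h0 => by
        rw [h0, mul_zero] at hc; exact div_ne_zero hy0 hs hc⟩, by rw [sq, ← hc, mul_div_cancel₀ _ hs]⟩)
    have hcs : c + σ c = 0 := by
      have h1 : σ c * σ c = c * c := by rw [← map_mul, ← hc, map_div₀, hyr, hσs]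
      rcases mul_eq_zero.mp (show (c + σ c) * (c - σ c) = 0 by linear_combination -h1) with h | h
      · exact h
      · exact absurd (sub_eq_zero.mp h).symm hcnr
    obtain ⟨k', hk', hki', he', hp'⟩ := merge S hR (v := k ◆ v) hpr.symm hr0 hcs
      (fun h => hcnr (by simp [h])) (by
        rw [hNp, add_comm ((k ◆ v) r * σ ((k ◆ v) r)) y, hsum, sq, ← hc, div_mul_cancel₀ _ hs])
    refine ⟨k' * k, mul_mem hk' hk, mul_mem hki' hki, ?_⟩
    rw [ap_mul]
    refine sp_card_lt S hp hp' fun i hi => ?_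
    rw [he' i (fun h => hr (h ▸ hi)) (fun h => hp (h ▸ hi))]
    exact keep hp hr he i hi

theorem two_char (h2 : q = 2) : (2 : F) = 0 := by
  have := FiniteField.cast_card_eq_zero (K := F)
  rw [S.card, h2] at this
  exact mul_self_eq_zero.mp (by push_cast at this; linear_combination this)

theorem norm_two (h2 : q = 2) {x : F} (hx : x ≠ 0) : x * σ x = 1 := by
  have h := FiniteField.pow_card_sub_one_eq_one x hx
  rw [S.card, h2] at h
  rw [S.norm_eq, h2]
  exact h

/-- Over `GF(4)` the four-coordinate centres shorten longer vectors. -/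
theorem shorten_two (h2 : q = 2) (h4 : ∀ u, f u u = 0 → (sp u).card = 4 → Centre σ f M u)
    {v : Fin n → F} (hv : 5 ≤ (sp v).card) :
    ∃ k ∈ M, k ∈ isom f ∧ (sp (k ◆ v)).card < (sp v).card := by
  classical
  have hc2 := two_char S h2
  obtain ⟨T, hT, hTc⟩ := Finset.exists_subset_card_eq (show 4 ≤ (sp v).card by omega)
  obtain ⟨a, b, c, d, hab, hac, had, hbc, hbd, hcd, rfl⟩ := Finset.card_eq_four.mp hTc
  obtain ⟨ω, -, hω⟩ := Finset.exists_mem_notMem_of_card_lt_card (s := ({0, 1} : Finset F))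
    (t := univ) (Finset.card_le_two.trans_lt (by rw [Finset.card_univ, S.card, h2]; norm_num))
  simp only [Finset.mem_insert, Finset.mem_singleton, not_or] at hω
  have hω3 : ω ^ 3 = 1 := by
    have := norm_two S h2 hω.1
    rw [S.norm_eq, h2] at this
    exact this
  have hω' : ω ^ 2 + ω + 1 = 0 := by
    rcases mul_eq_zero.mp (show (ω - 1) * (ω ^ 2 + ω + 1) = 0 by linear_combination hω3) with h | h
    · exact absurd (sub_eq_zero.mp h) hω.2
    · exact h
  have hm : ∀ i ∈ ({a, b, c, d} : Finset (Fin n)), v i ≠ 0 := fun i hi => mem_sp.mp (hT hi)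
  have ha := hm a (by simp)
  have hb := hm b (by simp)
  have hc := hm c (by simp)
  have hd := hm d (by simp)
  let u : Fin n → F := two a (v a) b (v b) + two c (ω * v c) d (ω ^ 2 * v d)
  have hua : u a = v a := by simp [u, two_apply hab, two_apply hcd, hac, had]
  have hub : u b = v b := by simp [u, two_apply hab, two_apply hcd, hbc, hbd, hab.symm]
  have huc : u c = ω * v c := by simp [u, two_apply hab, two_apply hcd, hac.symm, hbc.symm]
  have hud : u d = ω ^ 2 * v d := by
    simp [u, two_apply hab, two_apply hcd, had.symm, hbd.symm, hcd.symm]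
  have hu0 : ∀ i, i ≠ a → i ≠ b → i ≠ c → i ≠ d → u i = 0 := fun i h1 h2 h3 h4 => by
    simp [u, two_apply hab, two_apply hcd, h1, h2, h3, h4]
  have hsp : sp u = {a, b, c, d} := by
    ext i
    simp only [mem_sp, Finset.mem_insert, Finset.mem_singleton]
    constructor
    · intro hi
      by_contra h
      simp only [not_or] at h
      exact hi (hu0 i h.1 h.2.1 h.2.2.1 h.2.2.2)
    · rintro (rfl | rfl | rfl | rfl)
      · rwa [hua]
      · rwa [hub]
      · rw [huc]; exact mul_ne_zero hω.1 hc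
      · rw [hud]; exact mul_ne_zero (pow_ne_zero _ hω.1) hd
  have hN : ∀ x : F, x ≠ 0 → x * σ x = 1 := fun x hx => norm_two S h2 hx
  have huu : f u u = 0 := by
    rw [show f u u = f (two a (v a) b (v b) + two c (ω * v c) d (ω ^ 2 * v d)) u from rfl,
      S.uf.add_left, S.two_f, S.two_f, hua, hub, huc, hud, hN _ ha, hN _ hb,
      hN _ (mul_ne_zero hω.1 hc), hN _ (mul_ne_zero (pow_ne_zero _ hω.1) hd)]
    linear_combination 2 * hc2
  have hC := h4 u huu (by rw [hsp]; exact hTc)
  have hskew : (1 : F) + σ 1 = 0 := by rw [map_one]; linear_combination hc2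
  refine ⟨_, hC.2 1 hskew, ut_mem_isom S.uf huu hskew, ?_⟩
  have hfv : f v u = 1 := by
    have h := S.uf.herm u v
    rw [show f u v = f (two a (v a) b (v b) + two c (ω * v c) d (ω ^ 2 * v d)) v from rfl,
      S.uf.add_left, S.two_f, S.two_f, mul_assoc, mul_assoc, hN _ ha, hN _ hb, hN _ hc,
      hN _ hd] at h
    have h' := congrArg σ h
    rw [S.inv] at h'
    rw [← h', show (1 : F) + 1 + (ω * 1 + ω ^ 2 * 1) = 1 by linear_combination hω',
      map_one]
  rw [ut_mulVec S.uf huu, one_mul, hfv, one_smul]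
  refine sp_card_lt S ha ?_ fun i hi => ?_
  · rw [Pi.add_apply, hua]; linear_combination (v a) * hc2
  · rw [Pi.add_apply, hi, zero_add]
    exact hu0 i (fun h => ha (h ▸ hi)) (fun h => hb (h ▸ hi)) (fun h => hc (h ▸ hi))
      (fun h => hd (h ▸ hi))

/-- Roots (and four-coordinate centres over `GF(4)`) give all centres. -/
theorem centre_all (hR : Roots σ f M)
    (h4 : q = 2 → ∀ u, f u u = 0 → (sp u).card = 4 → Centre σ f M u) :
    ∀ v, f v v = 0 → Centre σ f M v := by
  classical
  intro v hv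
  induction hm : (sp v).card using Nat.strong_induction_on generalizing v with
  | _ m ih =>
    subst hm
    have use : (∃ k ∈ M, k ∈ isom f ∧ (sp (k ◆ v)).card < (sp v).card) → Centre σ f M v := by
      rintro ⟨k, hk, hki, hlt⟩
      exact centre_back S hk hki (ih _ hlt _ ((mem_isom.mp hki v v).trans hv) rfl)
    have hzero : ∀ i, i ∉ sp v → v i = 0 := fun i hi => not_not.mp (mt mem_sp.mpr hi)
    rcases Nat.lt_or_ge (sp v).card 3 with hlt | hge
    · rcases (show (sp v).card = 0 ∨ (sp v).card = 1 ∨ (sp v).card = 2 by omega) with h | h | h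
      · have : v = 0 := funext fun i => hzero i (by rw [Finset.card_eq_zero.mp h]; simp)
        rw [this]; exact centre_zero S.uf
      · obtain ⟨a, ha⟩ := Finset.card_eq_one.mp h
        exfalso
        have hva : v a ≠ 0 := mem_sp.mp (by rw [ha]; simp)
        rw [S.self_sum, Finset.sum_eq_single a (fun i _ hi => by
          rw [hzero i (by rw [ha]; simpa using hi), zero_mul]) (by simp)] at hv
        exact mul_ne_zero hva ((map_ne_zero σ).mpr hva) hv
      · obtain ⟨a, b, hab, hs⟩ := Finset.card_eq_two.mp h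
        have e := eq_two (v := v) hab fun i h1 h2 => hzero i (by rw [hs]; simp [h1, h2])
        rw [e] at hv ⊢
        rw [S.two_two hab] at hv
        exact hR a b _ _ hab hv
    · by_cases h2 : q = 2
      · rcases (show (sp v).card = 3 ∨ (sp v).card = 4 ∨ 5 ≤ (sp v).card by omega) with h | h | h
        · exfalso
          rw [S.self_sum, ← Finset.sum_subset (Finset.subset_univ (sp v)) fun i _ hi => by
            rw [hzero i hi, zero_mul], Finset.sum_congr rfl fun i hi =>
            norm_two S h2 (mem_sp.mp hi), Finset.sum_const, h, nsmul_one] at hv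
          push_cast at hv
          exact one_ne_zero (α := F) (by linear_combination hv - two_char S h2)
        · exact h4 h2 v hv h
        · exact use (shorten_two S h2 (h4 h2) h)
      · obtain ⟨a, b, l, ha, hb, hl, hab, hal, hbl⟩ :=
          Finset.two_lt_card_iff.mp (show 2 < (sp v).card by omega)
        exact use (shorten S (by have := S.two_le; omega) hR hab hal hbl (mem_sp.mp ha)
          (mem_sp.mp hb) (mem_sp.mp hl))

end Cfsg.Agent.UDec18
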