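import Cfsg.Agent.UDec18.SixSplit

/-!
Lines (`k = 1`) in dimension six, `q ≥ 3`: without coordinate images everything is monomial
(helper24).

An element of `M` that is not monomial has no zero entries; a monomial map taking a column to an
orthogonal vector gives a zero entry, and two such maps differ by a torus element, which is then
monomial in the other frame and forces zeros.
-/

set_option autoImplicit false
set_option linter.unusedSectionVars false

namespace Cfsg.Agent.UDec18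

open Matrix Cfsg.Agent.MaxSub Cfsg.Agent.HermStab
open Finset (univ)

variable {F : Type*} [Field F] [Fintype F] {n q : ℕ}
variable {σ : F ≃+* F} {f : (Fin n → F) → (Fin n → F) → F} {M : Subgroup (GL (Fin n) F)}

local notation:73 g:74 " ◆ " x:73 => (Units.val g) *ᵥ x

/-- A monomial map near a scalar: a coordinate vector in the range, or few coordinates move. -/
theorem mono_range {x : GL (Fin n) F} (hx : Mono x) {c : F} {w₁ w₂ : Fin n → F}
    (hR : ∀ y, ∃ r s : F, x ◆ y = c • y + r • w₁ + s • w₂) :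
    (∃ (a : Fin n) (r s : F), e a = r • w₁ + s • w₂) ∨
      ∃ T : Finset (Fin n), T.card ≤ 4 ∧ (∀ y a, a ∉ T → (x ◆ y) a = c * y a) ∧
        (∀ a ∈ T, (x ◆ e a) a = 0) ∧ ∀ a ∉ T, (x ◆ e a) a = c := by
  classical
  obtain ⟨p, μ, hp⟩ := hx.exists_perm
  have hpe : ∀ a, x ◆ e a = μ a • e (p a) := fun a => (hp a).2
  by_cases hd : ∃ a, p a = a ∧ μ a ≠ c
  · obtain ⟨a, ha, hac⟩ := hd
    obtain ⟨r, s, hrs⟩ := hR (e a)
    rw [hpe, ha, add_assoc] at hrs
    refine Or.inl ⟨a, (μ a - c)⁻¹ * r, (μ a - c)⁻¹ * s, ?_⟩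
    apply smul_right_injective _ (sub_ne_zero.mpr hac)
    show (μ a - c) • e a = (μ a - c) • (((μ a - c)⁻¹ * r) • w₁ + ((μ a - c)⁻¹ * s) • w₂)
    rw [smul_add, smul_smul, smul_smul, ← mul_assoc, ← mul_assoc,
      mul_inv_cancel₀ (sub_ne_zero.mpr hac), one_mul, one_mul, sub_smul, hrs]
    abel
  simp only [not_exists, not_and, not_not] at hd
  set T := univ.filter fun a => p a ≠ a with hT
  refine Or.inr ⟨T, ?_, fun y a ha => ?_, fun a ha => ?_, fun a ha => ?_⟩
  rotate_left
  · have hpa : p a = a := by simpa [hT] using ha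
    have := mono_ap_coord (π := p) hpe y a
    rwa [hpa, hd a hpa] at this
  · simp [hpe, e, Ne.symm (show p a ≠ a by simpa [hT] using ha)]
  · have hpa : p a = a := by simpa [hT] using ha
    simp [hpe, hpa, hd a hpa, e]
  by_contra hc
  obtain ⟨a, ha⟩ := Finset.card_pos.mp (show 0 < T.card by omega)
  obtain ⟨b, hb, hb'⟩ := Finset.exists_mem_notMem_of_card_lt_card (s := ({a, p a} : Finset (Fin n)))
    (t := T) (Finset.card_le_two.trans_lt (by omega))
  obtain ⟨d, hd', hd''⟩ := Finset.exists_mem_notMem_of_card_lt_card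
    (s := ({a, p a, b, p b} : Finset (Fin n))) (t := T) (Finset.card_le_four.trans_lt (by omega))
  simp only [Finset.mem_insert, Finset.mem_singleton, not_or] at hb' hd''
  choose r s hrs using hR
  obtain ⟨k, hk0, hk1, hk2⟩ := exists_comb ![r (e a), r (e b), r (e d)] ![s (e a), s (e b), s (e d)]
  simp only [Fin.sum_univ_three, cons_val_zero, cons_val_one, cons_val_two, head_cons,
    tail_cons] at hk1 hk2
  have h0 : k 0 • (x ◆ e a - c • e a) + k 1 • (x ◆ e b - c • e b) +
      k 2 • (x ◆ e d - c • e d) = 0 := by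
    have e1 : (k 0 * r (e a) + k 1 * r (e b) + k 2 * r (e d)) • w₁ = 0 := by rw [hk1, zero_smul]
    have e2 : (k 0 * s (e a) + k 1 * s (e b) + k 2 * s (e d)) • w₂ = 0 := by rw [hk2, zero_smul]
    rw [hrs, hrs, hrs]
    linear_combination (norm := module) e1 + e2
  have hmoved : ∀ {i}, i ∈ T → p i ≠ i := fun {i} hi => by simpa [hT] using hi
  have hc0 : c ≠ 0 := by
    intro h0'
    obtain ⟨i, hi⟩ : ∃ i, i ∈ T := ⟨a, ha⟩
    obtain ⟨r', s', h'⟩ : ∃ r' s', x ◆ e i = r' • w₁ + s' • w₂ := ⟨r (e i), s (e i), by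
      simpa [h0'] using hrs (e i)⟩
    -- every vector would lie in a plane
    have hall : ∀ y, ∃ r' s' : F, y = r' • w₁ + s' • w₂ := fun y => ⟨r ((x⁻¹ : GL (Fin n) F) ◆ y),
      s ((x⁻¹ : GL (Fin n) F) ◆ y), by
        have := hrs ((x⁻¹ : GL (Fin n) F) ◆ y)
        rwa [mulVec_inv_mulVec, h0', zero_smul, zero_add] at this⟩
    choose r₁ s₁ hy using hall
    obtain ⟨l, hl0, hl1, hl2⟩ := exists_comb ![r₁ (e a), r₁ (e b), r₁ (e d)]
      ![s₁ (e a), s₁ (e b), s₁ (e d)]
    simp only [Fin.sum_univ_three, cons_val_zero, cons_val_one, cons_val_two, head_cons,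
      tail_cons] at hl1 hl2
    have hz : l 0 • e a + l 1 • e b + l 2 • e d = (0 : Fin n → F) := by
      have e1 : (l 0 * r₁ (e a) + l 1 * r₁ (e b) + l 2 * r₁ (e d)) • w₁ = 0 := by
        rw [hl1, zero_smul]
      have e2 : (l 0 * s₁ (e a) + l 1 * s₁ (e b) + l 2 * s₁ (e d)) • w₂ = 0 := by
        rw [hl2, zero_smul]
      rw [hy (e a), hy (e b), hy (e d)]
      linear_combination (norm := module) e1 + e2
    refine hl0 (funext fun i => ?_)
    have ea := congrFun hz a
    have eb := congrFun hz b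
    have ed := congrFun hz d
    simp [e, Ne.symm hb'.1, Ne.symm hd''.1, hb'.1, hd''.1, Ne.symm hd''.2.2.1, hd''.2.2.1]
      at ea eb ed
    fin_cases i <;> simp [ea, eb, ed]
  simp only [hpe] at h0
  have ed := congrFun h0 d
  simp [e, hd''.1, hd''.2.1, hd''.2.2.1, hd''.2.2.2, Ne.symm (hmoved hd'), hc0] at ed
  have eb := congrFun h0 b
  simp [e, hb'.1, hb'.2, Ne.symm (hmoved hb), hc0, ed] at eb
  have ea := congrFun h0 a
  simp [e, Ne.symm (hmoved ha), hc0, ed, eb] at ea
  refine hk0 (funext fun i => ?_)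
  fin_cases i <;> simp [ea, eb, ed]

/-- An element of order `q + 1` on the circle. -/
theorem Std.exists_gen (S : Std q σ f) :
    ∃ m : F, m * σ m = 1 ∧ ∀ k, 0 < k → m ^ k = 1 → q + 1 ≤ k := by
  classical
  obtain ⟨ζ, hζ⟩ := IsCyclic.exists_ofOrder_eq_natCard (α := Fˣ)
  rw [Nat.card_units, Nat.card_eq_fintype_card, S.card] at hζ
  have h2 := S.two_le
  have hq : q ^ 2 - 1 = (q - 1) * (q + 1) := by
    obtain ⟨r, rfl⟩ : ∃ r, q = r + 1 := ⟨q - 1, by omega⟩
    simp only [Nat.add_sub_cancel]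
    have : (r + 1) ^ 2 = r * (r + 1 + 1) + 1 := by ring
    omega
  refine ⟨((ζ ^ (q - 1) : Fˣ) : F), ?_, fun k hk h => ?_⟩
  · rw [S.norm_eq, ← Units.val_pow_eq_pow_val, ← pow_mul, ← hq, ← hζ, pow_orderOf_eq_one,
      Units.val_one]
  · rw [← Units.val_pow_eq_pow_val, Units.val_eq_one, ← pow_mul] at h
    have h3 := orderOf_dvd_of_pow_eq_one h
    rw [hζ, hq] at h3
    exact Nat.le_of_dvd hk (Nat.dvd_of_mul_dvd_mul_left (by omega) h3)

variable (S : Std q σ f)
include S

theorem inv_entry {g : GL (Fin n) F} (hg : g ∈ isom f) (a l : Fin n) :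
    ((g⁻¹ : GL (Fin n) F) ◆ e l) a = σ ((g ◆ e a) l) := by
  rw [← S.f_e ((g⁻¹ : GL (Fin n) F) ◆ e l) a, ← mem_isom.mp hg, mulVec_inv_mulVec, S.e_f]

/-- A column with two zeros gives a column supported by them. -/
theorem col_of_zeros (h3 : 3 ≤ q) (hH : ∀ h ∈ su f, Mono h → h ∈ M) (NC : NoCoord M)
    {g : GL (Fin n) F} (hg : g ∈ M) {i l m : Fin n} (hlm : l ≠ m) (hl : (g ◆ e i) l = 0)
    (hm : (g ◆ e i) m = 0) : ∃ c, ∀ k, k ≠ l → k ≠ m → (g ◆ e c) k = 0 := by
  classical
  obtain ⟨ρ, hρ, hord⟩ := S.exists_gen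
  have hρ0 : ρ ≠ 0 := fun h => by simp [h] at hρ
  have hρ1 : ρ ≠ 1 := fun h => absurd (hord 1 one_pos (by rw [pow_one, h])) (by omega)
  set ν : Fin n → F := Function.update (Function.update 1 l ρ) m ρ⁻¹ with hν
  obtain ⟨t, hti, hte, htd⟩ := S.exists_mono 1 ν (fun a => by
    by_cases h : a = m
    · subst h; rw [hν, Function.update_self, map_inv₀, ← mul_inv, hρ, inv_one]
    · by_cases h' : a = l
      · subst h'; simpa [hν, h] using hρ
      · simp [hν, h, h'])
  simp only [Equiv.Perm.coe_one, id_eq] at hte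
  have hprod : ∏ a, ν a = 1 := by
    rw [Fintype.prod_eq_mul l m hlm (fun a ha => by simp [hν, ha.1, ha.2]), hν, Function.update_self,
      Function.update_of_ne hlm, Function.update_self, mul_inv_cancel₀ hρ0]
  rw [hprod] at htd
  have htM : t ∈ M := hH t ⟨hti, (mem_special_iff S).mpr (by simpa using htd)⟩
    (mono_of_perm 1 fun a => ⟨_, hte a⟩)
  have hty : ∀ y : Fin n → F, t ◆ y = y + ((ρ - 1) * y l) • e l + ((ρ⁻¹ - 1) * y m) • e m := by
    intro y
    funext a
    have := mono_ap_coord (π := 1) (fun a => hte a) y a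
    rw [Equiv.Perm.one_apply] at this
    rw [this]
    by_cases h : a = m
    · subst h; simp [hν, e, Ne.symm hlm]; ring
    · by_cases h' : a = l
      · subst h'; simp [hν, e, h]; ring
      · simp [hν, e, h, h']
  set x := g⁻¹ * t * g with hxdef
  have hx : Mono x := NC x (mul_mem (mul_mem (inv_mem hg) htM) hg) i i 1 (by
    rw [hxdef, ap_mul, ap_mul, hty, hl, hm, mul_zero, mul_zero, zero_smul, zero_smul, add_zero,
      add_zero, inv_mulVec_mulVec, one_smul])
  set w₁ := (g⁻¹ : GL (Fin n) F) ◆ e l with hw₁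
  set w₂ := (g⁻¹ : GL (Fin n) F) ◆ e m with hw₂
  have hR : ∀ y, x ◆ y = (1 : F) • y + ((ρ - 1) * (g ◆ y) l) • w₁ +
      ((ρ⁻¹ - 1) * (g ◆ y) m) • w₂ := fun y => by
    rw [hxdef, ap_mul, ap_mul, hty, mulVec_add, mulVec_add, inv_mulVec_mulVec, mulVec_smul,
      mulVec_smul, one_smul]
  have hgc : ∀ (a : Fin n) (r s : F), e a = r • w₁ + s • w₂ →
      ∀ k, k ≠ l → k ≠ m → (g ◆ e a) k = 0 := fun a r s h k hkl hkm => by
    rw [h, mulVec_add, mulVec_smul, mulVec_smul, hw₁, hw₂, mulVec_inv_mulVec, mulVec_inv_mulVec]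
    simp [e, hkl, hkm]
  rcases mono_range hx (fun y => ⟨_, _, hR y⟩) with ⟨a, r, s, h⟩ | ⟨T, hT, hTf, hT0, hT1⟩
  · exact ⟨a, hgc a r s h⟩
  -- the trace
  have htrace : Matrix.trace (x : Matrix (Fin n) (Fin n) F) =
      Matrix.trace (t : Matrix (Fin n) (Fin n) F) := by
    rw [hxdef, Units.val_mul, Units.val_mul]
    exact Matrix.trace_units_conj' g _
  have ecol : ∀ (u : GL (Fin n) F) a, (u ◆ e a) a = (u : Matrix (Fin n) (Fin n) F) a a :=
    fun u a => by simp [e]
  have hxt : Matrix.trace (x : Matrix (Fin n) (Fin n) F) = ((n - T.card : ℕ) : F) := by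
    rw [Matrix.trace, ← Finset.sum_add_sum_compl T]
    simp only [diag_apply, ← ecol]
    rw [Finset.sum_eq_zero hT0, zero_add, Finset.sum_congr rfl fun a ha => hT1 a
      (Finset.mem_compl.mp ha)]
    simp [Finset.card_compl]
  have htt : Matrix.trace (t : Matrix (Fin n) (Fin n) F) = (n : F) + (ρ - 1) + (ρ⁻¹ - 1) := by
    simp only [Matrix.trace, diag_apply, ← ecol]
    rw [Finset.sum_congr rfl fun a _ => show (t ◆ e a) a =
      1 + (if a = l then ρ - 1 else 0) + (if a = m then ρ⁻¹ - 1 else 0) by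
        rw [hty]
        by_cases h : a = m
        · subst h; simp [e, Ne.symm hlm]
        · by_cases h' : a = l
          · subst h'; simp [e, h]
          · simp [e, h, h']]
    simp [Finset.sum_add_distrib]
  have hTn : T.card ≤ n := by simpa using Finset.card_le_univ T
  rw [hxt, htt, Nat.cast_sub hTn] at htrace
  have hout : ∀ a, a ∉ T → w₁ a = 0 ∧ w₂ a = 0 := fun a ha => by
    have e1 := hTf w₁ a ha
    have e2 := hTf w₂ a ha
    rw [hR, hw₁, mulVec_inv_mulVec] at e1
    rw [hR, hw₂, mulVec_inv_mulVec] at e2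
    simp [e, hlm, Ne.symm hlm] at e1 e2
    exact ⟨by simpa [hw₁, e] using e1.resolve_left (sub_ne_zero.mpr hρ1),
      by simpa [hw₂, e] using e2.resolve_left (sub_ne_zero.mpr fun h => hρ1 (inv_eq_one.mp h))⟩
  by_cases hcard : T.card ≤ 2
  · have hind : ∀ r s : F, r • w₁ + s • w₂ = 0 → r = 0 ∧ s = 0 := fun r s h => by
      have h' := congrArg (fun y => g ◆ y) h
      simp only [mulVec_add, mulVec_smul, hw₁, hw₂, mulVec_inv_mulVec, mulVec_zero] at h'
      have e1 := congrFun h' l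
      have e2 := congrFun h' m
      simp [e, hlm, Ne.symm hlm] at e1 e2
      exact ⟨e1, e2⟩
    obtain ⟨a₀, ha₀⟩ : T.Nonempty := by
      by_contra h
      have h' : w₁ = 0 := funext fun a => (hout a (by simp [Finset.not_nonempty_iff_eq_empty.mp h])).1
      exact one_ne_zero (hind 1 0 (by rw [h']; simp)).1
    have herase : (T.erase a₀).card ≤ 1 := by rw [Finset.card_erase_of_mem ha₀]; omega
    obtain ⟨r, s, hrs, hz⟩ : ∃ r s : F, ¬ (r = 0 ∧ s = 0) ∧
        ∀ b, b ≠ a₀ → (r • w₁ + s • w₂) b = 0 := by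
      by_cases hb : ∃ b, b ≠ a₀ ∧ (w₁ b ≠ 0 ∨ w₂ b ≠ 0)
      · obtain ⟨b, hb, hbw⟩ := hb
        refine ⟨w₂ b, -w₁ b, fun h => by
          rcases hbw with h' | h'
          · exact h' (neg_eq_zero.mp h.2)
          · exact h' h.1, fun b' hb' => ?_⟩
        by_cases hb'T : b' ∈ T
        · have hbT : b ∈ T := by
            by_contra hn
            obtain ⟨e1, e2⟩ := hout b hn
            rcases hbw with h' | h'
            exacts [h' e1, h' e2]
          rw [Finset.card_le_one.mp herase b' (Finset.mem_erase.mpr ⟨hb', hb'T⟩) b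
            (Finset.mem_erase.mpr ⟨hb, hbT⟩)]
          simp [mul_comm]
        · simp [(hout b' hb'T).1, (hout b' hb'T).2]
      · simp only [not_exists, not_and, not_or, not_not] at hb
        exact ⟨1, 0, by simp, fun b' hb' => by simp [(hb b' hb').1]⟩
    set y := r • w₁ + s • w₂ with hy
    have hya : y a₀ ≠ 0 := fun h => hrs (hind r s (funext fun b => by
      by_cases hb : b = a₀
      · rw [hb]; exact h
      · exact hz b hb))
    refine ⟨a₀, hgc a₀ ((y a₀)⁻¹ * r) ((y a₀)⁻¹ * s) ?_⟩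
    rw [← smul_smul, ← smul_smul, ← smul_add, ← hy]
    funext b
    by_cases hb : b = a₀
    · subst hb; simp [e, inv_mul_cancel₀ hya]
    · simp [e, hb, hz b hb]
  exfalso
  rcases (show T.card = 3 ∨ T.card = 4 by omega) with h | h <;> rw [h] at htrace <;>
    field_simp at htrace <;> push_cast at htrace
  · exact absurd (hord 3 (by norm_num) (by linear_combination (1 - ρ) * htrace)) (by omega)
  · have : ρ + 1 = 0 := mul_self_eq_zero.mp (by linear_combination -htrace)
    exact absurd (hord 2 (by norm_num) (by linear_combination (ρ - 1) * this)) (by omega)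

/-- No column of a non-monomial element has two zeros. -/
theorem no_two_zeros (h3 : 3 ≤ q) (hn : 5 ≤ n) (hH : ∀ h ∈ su f, Mono h → h ∈ M) (hMG : M ≤ su f)
    (NC : NoCoord M) {g : GL (Fin n) F} (hg : g ∈ M) (hgn : ¬ Mono g) {i l m : Fin n}
    (hlm : l ≠ m) (hl : (g ◆ e i) l = 0) (hm : (g ◆ e i) m = 0) : False := by
  classical
  -- a column of support exactly two
  have key : ∀ {i l m : Fin n}, l ≠ m → (g ◆ e i) l = 0 → (g ◆ e i) m = 0 →
      ∃ c, (∀ k, k ≠ l → k ≠ m → (g ◆ e c) k = 0) ∧ (g ◆ e c) l ≠ 0 ∧ (g ◆ e c) m ≠ 0 := by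
    intro i l m hlm hl hm
    obtain ⟨c, hc⟩ := col_of_zeros S h3 hH NC hg hlm hl hm
    refine ⟨c, hc, fun h0 => hgn (NC g hg c m ((g ◆ e c) m) (funext fun k => ?_)),
      fun h0 => hgn (NC g hg c l ((g ◆ e c) l) (funext fun k => ?_))⟩
    · by_cases hk : k = m
      · subst hk; simp [e]
      · by_cases hk' : k = l
        · subst hk'; simp [e, hk]; simpa [e] using h0
        · simp [e, hk]; simpa [e] using hc k hk' hk
    · by_cases hk : k = l
      · subst hk; simp [e]
      · by_cases hk' : k = m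
        · subst hk'; simp [e, hk]; simpa [e] using h0
        · simp [e, hk]; simpa [e] using hc k hk hk'
  obtain ⟨c, hc, -, -⟩ := key hlm hl hm
  have hcard : 2 < (univ \ ({l, m} : Finset (Fin n))).card := by
    have hi : (({l, m} : Finset (Fin n)) ∩ univ).card ≤ 2 :=
      (Finset.card_le_card Finset.inter_subset_left).trans Finset.card_le_two
    rw [Finset.card_sdiff, Finset.card_univ, Fintype.card_fin]
    omega
  obtain ⟨a, ha, b, hb, d, hd, hab, had, hbd⟩ := Finset.two_lt_card.mp hcard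
  simp only [Finset.mem_sdiff, Finset.mem_univ, true_and, Finset.mem_insert, Finset.mem_singleton,
    not_or] at ha hb hd
  obtain ⟨c₁, hc₁, h1a, h1b⟩ := key hab (hc a ha.1 ha.2) (hc b hb.1 hb.2)
  obtain ⟨c₂, hc₂, h2a, -⟩ := key had (hc a ha.1 ha.2) (hc d hd.1 hd.2)
  have hne : c₁ ≠ c₂ := fun h => h1b (h ▸ hc₂ b (Ne.symm hab) hbd)
  have h := (mem_isom.mp (hMG hg).1 (e c₁) (e c₂)).trans (S.e_e c₁ c₂)
  rw [if_neg hne, S.sum, Finset.sum_eq_single a (fun k _ hk => ?_) (by simp)] at h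
  · exact mul_ne_zero h1a ((map_ne_zero σ).mpr h2a) h
  · by_cases hkb : k = b
    · subst hkb; rw [hc₂ k hk hbd, map_zero, mul_zero]
    · rw [hc₁ k hk hkb, zero_mul]

/-- A torus-like element moving only a plane cannot be monomial in another frame. -/
theorem two_move (h3 : 3 ≤ q) (hn : n = 6) (hH : ∀ h ∈ su f, Mono h → h ∈ M) (hMG : M ≤ su f)
    (NC : NoCoord M) {g : GL (Fin n) F} (hg : g ∈ M) (hgn : ¬ Mono g) {h : GL (Fin n) F} {c d : F}
    {l a b : Fin n} {v : Fin n → F} (hm : Mono (g⁻¹ * h * g)) (hdc : d ≠ c)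
    (hl : h ◆ e l = d • e l) (hR : ∀ y, ∃ r s : F, h ◆ y = c • y + r • e l + s • v)
    (hv : ∀ k, k ≠ a → k ≠ b → v k = 0) : False := by
  classical
  set x := g⁻¹ * h * g with hxdef
  rcases mono_range hm (c := c) (w₁ := (g⁻¹ : GL (Fin n) F) ◆ e l)
      (w₂ := (g⁻¹ : GL (Fin n) F) ◆ v) (fun y => by
    obtain ⟨r, s, h'⟩ := hR (g ◆ y)
    refine ⟨r, s, ?_⟩
    rw [hxdef, ap_mul, ap_mul, h', mulVec_add, mulVec_add, mulVec_smul, mulVec_smul, mulVec_smul,
      inv_mulVec_mulVec]) with ⟨c₀, r, s, h'⟩ | ⟨T, hT, hTf, -, -⟩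
  · have hcol : ∀ k, k ≠ l → k ≠ a → k ≠ b → (g ◆ e c₀) k = 0 := fun k h1 h2 h3 => by
      rw [h', mulVec_add, mulVec_smul, mulVec_smul, mulVec_inv_mulVec, mulVec_inv_mulVec]
      simp [e, h1, hv k h2 h3]
    obtain ⟨m₁, hm₁, m₂, hm₂, hne⟩ := Finset.one_lt_card.mp
      (show 1 < (univ \ ({l, a, b} : Finset (Fin n))).card by
        have hi : (({l, a, b} : Finset (Fin n)) ∩ univ).card ≤ 3 :=
          (Finset.card_le_card Finset.inter_subset_left).trans Finset.card_le_three
        rw [Finset.card_sdiff, Finset.card_univ, Fintype.card_fin]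
        omega)
    simp only [Finset.mem_sdiff, Finset.mem_univ, true_and, Finset.mem_insert, Finset.mem_singleton,
      not_or] at hm₁ hm₂
    exact no_two_zeros S h3 (by omega) hH hMG NC hg hgn hne (hcol _ hm₁.1 hm₁.2.1 hm₁.2.2)
      (hcol _ hm₂.1 hm₂.2.1 hm₂.2.2)
  · have hz : ∀ k, k ∉ T → ((g⁻¹ : GL (Fin n) F) ◆ e l) k = 0 := fun k hk => by
      have e1 := hTf ((g⁻¹ : GL (Fin n) F) ◆ e l) k hk
      rw [hxdef, ap_mul, ap_mul, mulVec_inv_mulVec, hl, mulVec_smul, Pi.smul_apply,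
        smul_eq_mul] at e1
      exact (mul_eq_zero.mp (show (d - c) * ((g⁻¹ : GL (Fin n) F) ◆ e l) k = 0 by
        linear_combination e1)).resolve_left (sub_ne_zero.mpr hdc)
    obtain ⟨m₁, hm₁, m₂, hm₂, hne⟩ := Finset.one_lt_card.mp (show 1 < Tᶜ.card by
      rw [Finset.card_compl, Fintype.card_fin]; omega)
    exact no_two_zeros S h3 (by omega) hH hMG NC (inv_mem hg)
      (fun h => hgn (by simpa using h.inv)) hne (hz _ (Finset.mem_compl.mp hm₁))
      (hz _ (Finset.mem_compl.mp hm₂))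

/-- A non-monomial element has no zero entries. -/
theorem no_zero (h3 : 3 ≤ q) (hn : n = 6) (hH : ∀ h ∈ su f, Mono h → h ∈ M) (hMG : M ≤ su f)
    (NC : NoCoord M) {g : GL (Fin n) F} (hg : g ∈ M) (hgn : ¬ Mono g) (i l : Fin n) :
    (g ◆ e i) l ≠ 0 := by
  classical
  intro hl
  set p := g ◆ e i with hp
  have hne : ∀ k, k ≠ l → p k ≠ 0 := fun k hk h =>
    no_two_zeros S h3 (by omega) hH hMG NC hg hgn hk h hl
  by_cases hcirc : ∃ c ∈ S.circ, c ^ n ≠ 1
  · obtain ⟨c, hc, hcn⟩ := hcirc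
    rw [S.mem_circ] at hc
    have hc0 : c ≠ 0 := fun h => by simp [h] at hc
    set d := (c ^ (n - 1))⁻¹ with hd
    obtain ⟨t, hti, hte, htd⟩ := S.exists_mono 1 (Function.update (fun _ => c) l d) (fun a => by
      by_cases h : a = l
      · subst h
        rw [Function.update_self, hd, map_inv₀, map_pow, ← mul_inv, ← mul_pow, hc, one_pow, inv_one]
      · simpa [h] using hc)
    simp only [Equiv.Perm.coe_one, id_eq] at hte
    rw [Finset.prod_update_of_mem (Finset.mem_univ l)] at htd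
    have htM : t ∈ M := hH t ⟨hti, (mem_special_iff S).mpr (by
      rw [htd, Finset.prod_const, Finset.card_sdiff]
      simp [hd, hn, hc0])⟩ (mono_of_perm 1 fun a => ⟨_, hte a⟩)
    have hty : ∀ y : Fin n → F, t ◆ y = c • y + ((d - c) * y l) • e l + (0 : F) • (0 : Fin n → F) := by
      intro y
      funext a
      have := mono_ap_coord (π := 1) (fun a => hte a) y a
      rw [Equiv.Perm.one_apply] at this
      rw [this]
      by_cases h : a = l
      · subst h; simp [e]; ring
      · simp [e, h]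
    refine two_move S h3 hn hH hMG NC hg hgn (a := l) (b := l) (v := 0) (NC _
      (mul_mem (mul_mem (inv_mem hg) htM) hg) i i c ?_) (fun h => hcn ?_)
      (by rw [hte l, Function.update_self]) (fun y => ⟨_, _, hty y⟩) (fun k _ _ => rfl)
    · rw [ap_mul, ap_mul, ← hp, hty, hl, mul_zero, zero_smul, zero_smul, add_zero, add_zero,
        mulVec_smul, hp, inv_mulVec_mulVec]
    · rw [show n = n - 1 + 1 by omega, pow_succ]
      have := congrArg (fun z => c ^ (n - 1) * z) h
      simp only [hd] at this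
      rw [mul_inv_cancel₀ (pow_ne_zero _ hc0)] at this
      exact this.symm
  simp only [not_exists, not_and, not_not] at hcirc
  -- `q = 5`: two of the five norms coincide
  obtain ⟨m, hm, hord⟩ := S.exists_gen
  have hq : q ≤ 5 := by
    have := hord 6 (by norm_num) (hn ▸ hcirc m (S.mem_circ.mpr hm))
    omega
  obtain ⟨a, ha, b, hb, hab, hN⟩ := Finset.exists_ne_map_eq_of_card_lt_of_maps_to
    (s := univ.erase l) (t := S.reals.erase 0) (by
      rw [Finset.card_erase_of_mem (Finset.mem_univ l),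
        Finset.card_erase_of_mem (S.mem_reals.mpr (map_zero σ)), S.card_reals, Finset.card_univ,
        Fintype.card_fin]
      omega)
    (f := fun k => p k * σ (p k)) (fun k hk => Finset.mem_coe.mpr (Finset.mem_erase.mpr
      ⟨mul_ne_zero (hne k (Finset.ne_of_mem_erase hk))
        ((map_ne_zero σ).mpr (hne k (Finset.ne_of_mem_erase hk))),
        S.mem_reals.mpr (S.norm_real _)⟩))
  have hal := Finset.ne_of_mem_erase ha
  have hbl := Finset.ne_of_mem_erase hb
  have hpa := hne a hal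
  have hpb := hne b hbl
  have hσa : σ (p a) ≠ 0 := (map_ne_zero σ).mpr hpa
  set ν := p b / p a with hν
  have hν0 : ν ≠ 0 := div_ne_zero hpb hpa
  have hνN : ν * σ ν = 1 := by
    rw [hν, map_div₀]; field_simp; linear_combination -hN
  set μ : Fin n → F := Function.update (Function.update (Function.update 1 b ν) a ν⁻¹) l (-1) with hμ
  obtain ⟨h, hhi, hhe, hhd⟩ := S.exists_mono (Equiv.swap a b) μ (fun k => by
    by_cases h1 : k = l
    · subst h1; simp [hμ]
    by_cases h2 : k = a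
    · subst h2; rw [hμ, Function.update_of_ne h1, Function.update_self, map_inv₀, ← mul_inv, hνN,
        inv_one]
    by_cases h4 : k = b
    · subst h4; simpa [hμ, h1, h2] using hνN
    simp [hμ, h1, h2, h4])
  have hμl : μ l = -1 := by simp [hμ]
  have hμa : μ a = ν⁻¹ := by simp [hμ, hal]
  have hμb : μ b = ν := by simp [hμ, hbl, Ne.symm hab]
  have hμk : ∀ k, k ≠ l → k ≠ a → k ≠ b → μ k = 1 := fun k h1 h2 h4 => by simp [hμ, h1, h2, h4]
  have hprod : ∏ k, μ k = -1 := by
    rw [← Finset.prod_subset (Finset.subset_univ {l, a, b}) (fun k _ hk => by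
      simp only [Finset.mem_insert, Finset.mem_singleton, not_or] at hk
      exact hμk k hk.1 hk.2.1 hk.2.2), Finset.prod_insert (by simp [Ne.symm hal, Ne.symm hbl]),
      Finset.prod_pair hab, hμl, hμa, hμb, inv_mul_cancel₀ hν0, mul_one]
  have hhM : h ∈ M := hH h ⟨hhi, (mem_special_iff S).mpr (by
    rw [hhd, hprod, Equiv.Perm.sign_swap hab]; simp)⟩ (mono_of_perm (Equiv.swap a b) fun k =>
      ⟨_, hhe k⟩)
  have hhy : ∀ y : Fin n → F, h ◆ y = (1 : F) • y + (-2 * y l) • e l +
      (y b - ν * y a) • two a ν⁻¹ b (-1) := by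
    intro y
    funext k
    have := mono_ap_coord (π := Equiv.swap a b) (fun k => hhe k) y (Equiv.swap a b k)
    rw [Equiv.swap_apply_self] at this
    rw [this]
    simp only [Pi.add_apply, Pi.smul_apply, smul_eq_mul, two_apply hab, e, Pi.single_apply]
    by_cases h1 : k = a
    · subst h1; simp [hμa, hal, Equiv.swap_apply_left, hν0]; field_simp; ring
    by_cases h2 : k = b
    · subst h2; simp [hμb, hbl, Equiv.swap_apply_right, h1]
    rw [Equiv.swap_apply_of_ne_of_ne h1 h2]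
    by_cases h4 : k = l
    · subst h4; simp [hμl, h1, h2]; ring
    · simp [hμk k h4 h1 h2, h1, h2, h4]
  refine two_move S h3 hn hH hMG NC hg hgn (a := a) (b := b) (NC _
    (mul_mem (mul_mem (inv_mem hg) hhM) hg) i i 1 ?_) (c := 1) (d := -1) ?_ ?_
    (fun y => ⟨_, _, hhy y⟩) (fun k h1 h2 => by rw [two_apply hab]; simp [h1, h2])
  · rw [ap_mul, ap_mul, ← hp, hhy, hl, mul_zero, zero_smul, add_zero,
      show p b - ν * p a = 0 by rw [hν, div_mul_cancel₀ _ hpa, sub_self], zero_smul, add_zero,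
      one_smul, one_smul, hp, inv_mulVec_mulVec]
  · intro h'
    -- in characteristic two the circle has odd order
    have h2 : (2 : F) = 0 := by linear_combination -h'
    have hm3 : m ^ 3 = 1 := by
      have h6 := hn ▸ hcirc m (S.mem_circ.mpr hm)
      exact sub_eq_zero.mp (mul_self_eq_zero.mp (by linear_combination h6 - (m ^ 3 - 1) * h2))
    exact absurd (hord 3 (by norm_num) hm3) (by omega)
  · rw [hhe l, Equiv.swap_apply_of_ne_of_ne (Ne.symm hal) (Ne.symm hbl), hμl]

section six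

omit S
variable {g₆ : (Fin 6 → F) → (Fin 6 → F) → F} {N : Subgroup (GL (Fin 6) F)}

/-- **Six lines, `q ≥ 3`.** Without coordinate images everything is monomial. -/
theorem all_mono_six (S : Std q σ g₆) (h3 : 3 ≤ q) (hH : ∀ h ∈ su g₆, Mono h → h ∈ N)
    (hMG : N ≤ su g₆) (NC : NoCoord N) {g : GL (Fin 6) F} (hg : g ∈ N) : Mono g := by
  classical
  by_contra hgn
  set p := g ◆ e 0 with hp
  obtain ⟨π, μ, i, j, hij, hμ, hdet, hπ, hs1, hs2⟩ :=
    S.exists_split (p := p) fun a => no_zero S h3 rfl hH hMG NC hg hgn 0 a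
  obtain ⟨m, hm, hord⟩ := S.exists_gen
  have hm0 : m ≠ 0 := fun h => by simp [h] at hm
  set ν : Fin 6 → F := fun a => if a ∈ ({i, j} : Finset (Fin 6)) then (m ^ 2)⁻¹ else m with hν
  have hνN : ∀ a, ν a * σ (ν a) = 1 := fun a => by
    simp only [hν]
    split_ifs
    · rw [map_inv₀, map_pow, ← mul_inv, ← mul_pow, hm, one_pow, inv_one]
    · exact hm
  have hνπ : ∀ a, ν (π a) = ν a := fun a => by simp only [hν, hπ a]
  have hνP : ∏ a, ν a = 1 := by
    simp only [hν]
    rw [Finset.prod_ite, Finset.prod_const, Finset.prod_const,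
      show (univ.filter fun a : Fin 6 => a ∈ ({i, j} : Finset (Fin 6))) = {i, j} by ext; simp,
      show (univ.filter fun a : Fin 6 => a ∉ ({i, j} : Finset (Fin 6))) = univ \ {i, j} by ext; simp,
      Finset.card_sdiff, Finset.inter_univ, Finset.card_pair hij]
    simp
    field_simp
  obtain ⟨h, hhi, hhe, hhd⟩ := S.exists_mono π μ hμ
  obtain ⟨k, hki, hke, hkd⟩ := S.exists_mono π (fun a => ν a * μ a) (fun a => by
    rw [map_mul]; linear_combination (μ a * σ (μ a)) * hνN a + hμ a)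
  rw [hdet] at hhd
  rw [Finset.prod_mul_distrib, hνP, one_mul, hdet] at hkd
  have hhM : h ∈ N := hH h ⟨hhi, (mem_special_iff S).mpr hhd⟩ (mono_of_perm π fun a => ⟨_, hhe a⟩)
  have hkM : k ∈ N := hH k ⟨hki, (mem_special_iff S).mpr hkd⟩ (mono_of_perm π fun a => ⟨_, hke a⟩)
  -- both give a zero entry
  have zero : ∀ (u : GL (Fin 6) F) (ω : Fin 6 → F), u ∈ N → (∀ a, u ◆ e a = ω (π a) • e (π a)) →
      ∑ a, ω (π a) * p a * σ (p (π a)) = 0 → Mono (g⁻¹ * u * g) := by
    intro u ω hu hue hsum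
    by_contra hn
    refine no_zero S h3 rfl hH hMG NC (mul_mem (mul_mem (inv_mem hg) hu) hg) hn 0 0 ?_
    rw [ap_mul, ap_mul, ← hp, ← S.f_e ((g⁻¹ : GL (Fin 6) F) ◆ u ◆ p) 0,
      ← mem_isom.mp (hMG hg).1, mulVec_inv_mulVec, ← hp, S.sum, ← Equiv.sum_comp π, ← hsum]
    refine Finset.sum_congr rfl fun a _ => ?_
    rw [mono_ap_coord (π := π) hue p a]
  have hx := zero h μ hhM hhe (by
    rw [← Finset.sum_sdiff (Finset.subset_univ ({i, j} : Finset (Fin 6))), hs1, hs2, add_zero])
  have hy := zero k (fun a => ν a * μ a) hkM hke (by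
    rw [← Finset.sum_sdiff (Finset.subset_univ ({i, j} : Finset (Fin 6)))]
    have e1 : ∑ a ∈ ({i, j} : Finset (Fin 6)), ν (π a) * μ (π a) * p a * σ (p (π a)) = 0 := by
      rw [Finset.sum_congr rfl fun a ha => show ν (π a) * μ (π a) * p a * σ (p (π a)) =
        (m ^ 2)⁻¹ * (μ (π a) * p a * σ (p (π a))) by rw [hνπ]; simp only [hν, if_pos ha]; ring,
        ← Finset.mul_sum, hs1, mul_zero]
    have e2 : ∑ a ∈ univ \ ({i, j} : Finset (Fin 6)), ν (π a) * μ (π a) * p a * σ (p (π a)) = 0 := by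
      rw [Finset.sum_congr rfl fun a ha => show ν (π a) * μ (π a) * p a * σ (p (π a)) =
        m * (μ (π a) * p a * σ (p (π a))) by
          rw [hνπ]; simp only [hν, if_neg (Finset.mem_sdiff.mp ha).2]; ring,
        ← Finset.mul_sum, hs2, mul_zero]
    rw [e1, e2, add_zero])
  set t := h⁻¹ * k with ht
  have hte : ∀ a, t ◆ e a = ν a • e a := fun a => by
    rw [ht, ap_mul, hke, ← smul_smul, ← hhe, mulVec_smul, inv_mulVec_mulVec, hνπ]
  have hmono : Mono (g⁻¹ * t * g) := by
    have := keeps_mul hx.inv hy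
    rwa [show (g⁻¹ * h * g)⁻¹ * (g⁻¹ * k * g) = g⁻¹ * t * g by rw [ht]; group] at this
  refine two_move S h3 rfl hH hMG NC hg hgn (c := m) (d := (m ^ 2)⁻¹) (l := i) (a := j) (b := j)
    (v := e j) hmono ?_ ?_ (fun y => ⟨((m ^ 2)⁻¹ - m) * y i, ((m ^ 2)⁻¹ - m) * y j, ?_⟩)
    (fun l hl _ => by simp [e, hl])
  · intro h'
    refine absurd (hord 3 (by norm_num) ?_) (by omega)
    field_simp at h'
    linear_combination -h'
  · rw [hte, hν]; simp
  · funext a
    have := mono_ap_coord (π := 1) (fun a => hte a) y a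
    rw [Equiv.Perm.one_apply] at this
    rw [this]
    simp only [hν, Finset.mem_insert, Finset.mem_singleton]
    by_cases h1 : a = i
    · subst h1; simp [e, hij]; ring
    by_cases h2 : a = j
    · subst h2; simp [e, h1]; ring
    simp [e, h1, h2]

end six

end Cfsg.Agent.UDec18
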