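import Cfsg.Agent.MaxSub.HermStabStd

/-!
Coordinate tools for the standard unitary form: monomial isometries, one-vector moves and counting
of values on the norm-one circle (helper18).
-/

set_option autoImplicit false
set_option linter.unusedSectionVars false

namespace Cfsg.Agent.UDec18

open Matrix Cfsg.Agent.MaxSub Cfsg.Agent.HermStab
open Finset (univ)

variable {F : Type*} [Field F] [Fintype F] {n q : ℕ}
variable {σ : F ≃+* F} {f : (Fin n → F) → (Fin n → F) → F}

local notation:73 g:74 " ◆ " x:73 => (Units.val g) *ᵥ x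

/-- `f` is the standard unitary form for `σ = (· ^ q)`. -/
structure Std (q : ℕ) (σ : F ≃+* F) (f : (Fin n → F) → (Fin n → F) → F) : Prop where
  uf : Geo.IsUnitaryForm σ f
  card : Fintype.card F = q ^ 2
  pow : ∀ x, σ x = x ^ q
  sum : ∀ x y, f x y = ∑ i, x i * σ (y i)

/-- The standard basis. -/
abbrev e (i : Fin n) : Fin n → F := Pi.single i 1

/-- The vector with components `a` at `i` and `b` at `l`. -/
abbrev two (i : Fin n) (a : F) (l : Fin n) (b : F) : Fin n → F := a • e i + b • e l

theorem two_apply {i l : Fin n} (hil : i ≠ l) (a b : F) (m : Fin n) :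
    two i a l b m = if m = i then a else if m = l then b else 0 := by
  by_cases h1 : m = i
  · subst h1; simp [two, e, hil]
  · by_cases h2 : m = l
    · subst h2; simp [two, e, h1]
    · simp [two, e, h1, h2]

theorem ap_eq_sum (g : GL (Fin n) F) (x : Fin n → F) : g ◆ x = ∑ i, x i • (g ◆ e i) := by
  conv_lhs => rw [pi_eq_sum_univ' x]
  rw [mulVec_sum]
  exact Finset.sum_congr rfl fun i _ => by rw [mulVec_smul]

theorem ap_mul (g h : GL (Fin n) F) (x : Fin n → F) : (g * h) ◆ x = g ◆ h ◆ x := by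
  rw [Units.val_mul, mulVec_mulVec]

theorem gl_ext_e {g h : GL (Fin n) F} (H : ∀ i, g ◆ e i = h ◆ e i) : g = h :=
  gl_ext fun x => by rw [ap_eq_sum g, ap_eq_sum h]; simp [H]

/-- `g` maps the coordinates of each block into one block. -/
def Keeps {t : ℕ} (blk : Fin n → Fin t) (g : GL (Fin n) F) : Prop :=
  ∃ π : Fin t → Fin t, ∀ a b, (g ◆ e a) b ≠ 0 → blk b = π (blk a)

theorem keeps_mul {t : ℕ} {blk : Fin n → Fin t} {g h : GL (Fin n) F} (hg : Keeps blk g)
    (hh : Keeps blk h) : Keeps blk (g * h) := by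
  obtain ⟨π, hπ⟩ := hg
  obtain ⟨ρ, hρ⟩ := hh
  refine ⟨π ∘ ρ, fun a b hab => ?_⟩
  rw [ap_mul, ap_eq_sum g, Finset.sum_apply] at hab
  obtain ⟨c, -, hc⟩ := Finset.exists_ne_zero_of_sum_ne_zero hab
  simp only [Pi.smul_apply, smul_eq_mul] at hc
  rw [hπ c b (right_ne_zero_of_mul hc), hρ a c (left_ne_zero_of_mul hc)]
  rfl

theorem keeps_of_monomial {t : ℕ} {blk : Fin n → Fin t} {g : GL (Fin n) F}
    (p : Equiv.Perm (Fin n)) (π : Fin t → Fin t) (hp : ∀ a, blk (p a) = π (blk a))
    (hg : ∀ a, ∃ c : F, g ◆ e a = c • e (p a)) : Keeps blk g := by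
  refine ⟨π, fun a b hab => ?_⟩
  obtain ⟨c, hc⟩ := hg a
  rw [hc] at hab
  by_cases hb : b = p a
  · rw [hb, hp]
  · simp [e, hb] at hab

section
variable (S : Std q σ f)
include S

theorem Std.two_le : 2 ≤ q := Unitary.two_le_q S.card

theorem Std.inv (x : F) : σ (σ x) = x := S.uf.involutive x

theorem Std.f_e (x : Fin n → F) (i : Fin n) : f x (e i) = x i := by
  simp [S.sum, e, Pi.single_apply, apply_ite σ]

theorem Std.e_f (x : Fin n → F) (i : Fin n) : f (e i) x = σ (x i) := by
  simp [S.sum, e, Pi.single_apply]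

theorem Std.e_e (i l : Fin n) : f (e i) (e l : Fin n → F) = if i = l then 1 else 0 := by
  rw [S.f_e]; simp [e, Pi.single_apply, eq_comm]

theorem Std.f_two (x : Fin n → F) (i : Fin n) (a : F) (l : Fin n) (b : F) :
    f x (two i a l b) = σ a * x i + σ b * x l := by
  rw [hadd_right S.uf, hsmul_right S.uf, hsmul_right S.uf, S.f_e, S.f_e]

theorem Std.two_f (x : Fin n → F) (i : Fin n) (a : F) (l : Fin n) (b : F) :
    f (two i a l b) x = a * σ (x i) + b * σ (x l) := by
  rw [S.uf.add_left, S.uf.smul_left, S.uf.smul_left, S.e_f, S.e_f]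

theorem Std.two_two {i l : Fin n} (hil : i ≠ l) (a b : F) :
    f (two i a l b) (two i a l b) = a * σ a + b * σ b := by
  rw [S.two_f, two_apply hil, two_apply hil]; simp [hil.symm]

theorem Std.two_iso {i l : Fin n} (hil : i ≠ l) {a b : F} (h : a * σ a + b * σ b = 0) :
    f (two i a l b) (two i a l b) = 0 := (S.two_two hil a b).trans h

theorem Std.real_self (x : Fin n → F) : σ (f x x) = f x x := (S.uf.herm x x).symm

theorem Std.norm_real (x : F) : σ (x * σ x) = x * σ x := by rw [map_mul, S.inv, mul_comm]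

theorem Std.self_sum (x : Fin n → F) : f x x = ∑ i, x i * σ (x i) := S.sum x x

theorem Std.norm_eq (a : F) : a * σ a = a ^ (q + 1) := by rw [S.pow, pow_succ, mul_comm]

theorem Std.exists_norm {r : F} (hr : σ r = r) : ∃ s, s * σ s = r := by
  obtain ⟨s, hs⟩ := MaxSub.exists_norm S.uf hr
  exact ⟨s, by rw [mul_comm]; exact hs⟩

/-! ### Circle and reals -/

/-- The fixed field. -/
noncomputable def Std.reals (_ : Std q σ f) : Finset F := by
  classical exact univ.filter fun x => σ x = x

/-- The elements of norm one. -/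
noncomputable def Std.circ (_ : Std q σ f) : Finset F := by
  classical exact univ.filter fun x => x * σ x = 1

theorem Std.mem_reals {x : F} : x ∈ S.reals ↔ σ x = x := by simp [Std.reals]

theorem Std.mem_circ {x : F} : x ∈ S.circ ↔ x * σ x = 1 := by simp [Std.circ]

theorem Std.card_reals : S.reals.card = q := by
  classical
  refine Eq.trans ?_ (Unitary.card_fixed S.card)
  rw [Nat.card_eq_fintype_card, Fintype.card_subtype]
  exact congrArg Finset.card (Finset.ext fun x => by simp [S.mem_reals, S.pow])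

theorem Std.card_circ : S.circ.card = q + 1 := by
  classical
  refine Eq.trans ?_ (Unitary.card_norm_eq_one S.card)
  rw [Nat.card_eq_fintype_card, Fintype.card_subtype]
  exact congrArg Finset.card (Finset.ext fun x => by simp [S.mem_circ, S.norm_eq])

theorem Std.circ_ne_zero {x : F} (h : x ∈ S.circ) : x ≠ 0 := by
  rintro rfl; simp [S.mem_circ] at h

theorem Std.one_mem_circ : (1 : F) ∈ S.circ := by simp [S.mem_circ]

/-- Two large subsets of a finite set meet. -/
theorem exists_mem_mem_of_card {α : Type*} {A B C : Finset α} (hA : A ⊆ C) (hB : B ⊆ C)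
    (h : C.card < A.card + B.card) : ∃ x ∈ A, x ∈ B := by
  classical
  by_contra hc
  simp only [not_exists, not_and] at hc
  have hd : Disjoint A B := Finset.disjoint_left.mpr hc
  have := Finset.card_le_card (Finset.union_subset hA hB)
  rw [Finset.card_union_of_disjoint hd] at this
  omega

/-- `ξ ↦ A ξ + σ (A ξ) + C` is at most two-to-one on the circle. -/
theorem Std.card_le_two_image [DecidableEq F] {A : F} (hA : A ≠ 0) (C : F) (T : Finset F) (hT : T ⊆ S.circ) :
    T.card ≤ 2 * (T.image fun ξ => A * ξ + σ (A * ξ) + C).card := by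
  classical
  refine Finset.card_le_mul_card_image T 2 fun b _ => ?_
  have hdeg : (Polynomial.C A * Polynomial.X ^ 2 + Polynomial.C (C - b) * Polynomial.X
      + Polynomial.C (σ A)).natDegree = 2 := Polynomial.natDegree_quadratic hA
  have hne : (Polynomial.C A * Polynomial.X ^ 2 + Polynomial.C (C - b) * Polynomial.X
      + Polynomial.C (σ A)) ≠ 0 := fun h => by rw [h, Polynomial.natDegree_zero] at hdeg; omega
  refine le_trans (Finset.card_le_card (t := (Polynomial.C A * Polynomial.X ^ 2
      + Polynomial.C (C - b) * Polynomial.X + Polynomial.C (σ A)).roots.toFinset) fun ξ hξ => ?_) ?_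
  · rw [Finset.mem_filter] at hξ
    have h1 := S.mem_circ.mp (hT hξ.1)
    rw [Multiset.mem_toFinset, Polynomial.mem_roots hne]
    simp only [Polynomial.IsRoot, Polynomial.eval_add, Polynomial.eval_mul, Polynomial.eval_C,
      Polynomial.eval_pow, Polynomial.eval_X]
    have h2 := hξ.2
    rw [map_mul] at h2
    linear_combination ξ * h2 - σ A * h1
  · exact (Multiset.toFinset_card_le _).trans ((Polynomial.card_roots' _).trans hdeg.le)

theorem Std.two_term_norm (A B ξ : F) (hξ : ξ * σ ξ = 1) :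
    (A + B * ξ) * σ (A + B * ξ) = σ A * B * ξ + σ (σ A * B * ξ) + (A * σ A + B * σ B) := by
  simp only [map_add, map_mul, S.inv]
  linear_combination (B * σ B) * hξ

theorem Std.image_real {A : F} {C : F} (hC : σ C = C) (ξ : F) :
    A * ξ + σ (A * ξ) + C ∈ S.reals := by
  rw [S.mem_reals, map_add, map_add, S.inv, hC]; ring

theorem Std.not_real_of_skew (h2 : (2 : F) ≠ 0) {c : F} (hc : c + σ c = 0) (hc0 : c ≠ 0) :
    σ c ≠ c := fun h => hc0 (by
  rw [h, ← two_mul] at hc
  exact (mul_eq_zero.mp hc).resolve_left h2)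

/-! ### Monomial isometries -/

theorem Std.exists_mono (p : Equiv.Perm (Fin n)) (μ : Fin n → F) (hμ : ∀ i, μ i * σ (μ i) = 1) :
    ∃ h ∈ isom f, (∀ a, h ◆ e a = μ (p a) • e (p a)) ∧
      (h : Matrix (Fin n) (Fin n) F).det = ((Equiv.Perm.sign p : ℤ) : F) * ∏ i, μ i := by
  classical
  set A : Matrix (Fin n) (Fin n) F := diagonal μ * Equiv.Perm.permMatrix F p.symm with hA
  have hdet : A.det = ((Equiv.Perm.sign p : ℤ) : F) * ∏ i, μ i := by
    rw [hA, det_mul, det_diagonal, Matrix.det_permutation, Equiv.Perm.sign_symm, mul_comm]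
  have hne : A.det ≠ 0 := by
    rw [hdet]
    refine mul_ne_zero ?_ (Finset.prod_ne_zero_iff.mpr fun i _ h => by simpa [h] using hμ i)
    rcases Int.units_eq_one_or (Equiv.Perm.sign p) with h | h <;> simp [h]
  have hap : ∀ x : Fin n → F, A *ᵥ x = fun i => μ i * x (p.symm i) := fun x => by
    funext i
    rw [hA, ← mulVec_mulVec, mulVec_diagonal, Matrix.permMatrix_mulVec]
    rfl
  refine ⟨GeneralLinearGroup.mkOfDetNeZero A hne, fun x y => ?_, fun a => ?_, hdet⟩
  · show f (A *ᵥ x) (A *ᵥ y) = f x y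
    rw [hap, hap, S.sum, S.sum]
    refine Fintype.sum_equiv p.symm _ _ fun i => ?_
    rw [map_mul]
    linear_combination (x (p.symm i) * σ (y (p.symm i))) * hμ i
  · show A *ᵥ e a = _
    rw [hap]
    funext i
    by_cases h : i = p a
    · subst h; simp [e]
    · have : p.symm i ≠ a := fun h' => h (by rw [← h', Equiv.apply_symm_apply])
      simp [e, h, this]

theorem Std.det_norm {g : GL (Fin n) F} (hg : g ∈ isom f) :
    (g : Matrix (Fin n) (Fin n) F).det * σ (g : Matrix (Fin n) (Fin n) F).det = 1 := by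
  have h : (g : Matrix (Fin n) (Fin n) F).transpose *
      (g : Matrix (Fin n) (Fin n) F).map σ = 1 := by
    ext i l
    have := mem_isom.mp hg (e i) (e l)
    rw [S.e_e, S.sum] at this
    rw [mul_apply, one_apply, ← this]
    exact Finset.sum_congr rfl fun m _ => by simp [e, mulVec_single]
  have := congrArg Matrix.det h
  rwa [det_mul, det_transpose, det_one,
    show (g : Matrix (Fin n) (Fin n) F).map σ = σ.toRingHom.mapMatrix g.1 from rfl,
    ← RingHom.map_det] at this

theorem mem_special_iff {g : GL (Fin n) F} :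
    g ∈ Geo.specialLinear (Fin n) F ↔ (g : Matrix (Fin n) (Fin n) F).det = 1 := by
  constructor
  · intro h
    simpa using congrArg Units.val (show Matrix.GeneralLinearGroup.det g = 1 from h)
  · intro h
    exact Units.ext (by simpa using h)

/-- Determinant correction at one coordinate. -/
theorem Std.exists_corr {g : GL (Fin n) F} (hg : g ∈ isom f) (c : Fin n) :
    ∃ δ ∈ isom f, g * δ ∈ su f ∧ δ * g ∈ su f ∧ (∀ a, a ≠ c → δ ◆ e a = e a) ∧
      ∃ μ : F, μ * σ μ = 1 ∧ δ ◆ e c = μ • e c := by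
  classical
  set d := (g : Matrix (Fin n) (Fin n) F).det with hd
  have hn := S.det_norm hg
  rw [← hd] at hn
  obtain ⟨δ, hδ, hδe, hδd⟩ := S.exists_mono 1 (Function.update 1 c (σ d)) fun i => by
    by_cases h : i = c
    · subst h; simpa [S.inv, mul_comm] using hn
    · simp [h]
  rw [Finset.prod_update_of_mem (Finset.mem_univ c)] at hδd
  refine ⟨δ, hδ, ⟨mul_mem hg hδ, ?_⟩, ⟨mul_mem hδ hg, ?_⟩, fun a ha => by
      rw [hδe]; simp [ha], σ d, by rw [S.inv, mul_comm]; exact hn, by rw [hδe]; simp⟩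
  · refine (mem_special_iff S).mpr ?_; rw [Units.val_mul, det_mul, hδd]; simpa [← hd] using hn
  · refine (mem_special_iff S).mpr ?_; rw [Units.val_mul, det_mul, hδd]; simpa [← hd, mul_comm] using hn

/-- Monomial elements of determinant one. -/
theorem Std.exists_mono_su (p : Equiv.Perm (Fin n)) (ν : Fin n → F)
    (hν : ∀ i, ν i * σ (ν i) = 1) (c : Fin n) :
    ∃ h ∈ su f, (∀ a, ∃ μ : F, μ * σ μ = 1 ∧ h ◆ e a = μ • e (p a)) ∧
      ∀ a, a ≠ c → h ◆ e a = ν a • e (p a) := by
  obtain ⟨g, hg, hge, -⟩ := S.exists_mono p (fun i => ν (p.symm i)) fun i => hν _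
  simp only [Equiv.symm_apply_apply] at hge
  obtain ⟨δ, hδ, hgδ, -, hδe, μ, hμ, hδc⟩ := S.exists_corr hg c
  refine ⟨g * δ, hgδ, fun a => ?_, fun a ha => by rw [ap_mul, hδe a ha, hge]⟩
  by_cases ha : a = c
  · subst ha
    refine ⟨μ * ν a, ?_, by rw [ap_mul, hδc, mulVec_smul, hge, smul_smul]⟩
    rw [map_mul]; linear_combination (ν a * σ (ν a)) * hμ + hν a
  · exact ⟨ν a, hν a, by rw [ap_mul, hδe a ha, hge]⟩

/-- An isometry moving `d` to `d'` along their difference. -/
theorem Std.exists_move {d d' : Fin n → F} (hN : f d d = f d' d') (hne : f d d' ≠ f d d) :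
    ∃ h ∈ isom f, h ◆ d = d' ∧ (∀ x, ∃ r : F, h ◆ x = x + r • (d' - d)) ∧
      (∀ x, f x (d' - d) = 0 → h ◆ x = x) ∧
      (h : Matrix (Fin n) (Fin n) F).det = (f d d - σ (f d d')) / (f d d' - f d d) := by
  classical
  set w := d' - d with hw
  set φ := f d d' with hφ
  set N := f d d with hN'
  have hdw : f d w = φ - N := by rw [hw, hsub_right S.uf]
  have hww : f w w = 2 * N - φ - σ φ := by
    rw [hw, hsub_left S.uf, hsub_right S.uf, hsub_right S.uf, ← hN, ← hφ, S.uf.herm d' d, ← hφ]
    ring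
  have h0 : φ - N ≠ 0 := sub_ne_zero.mpr hne
  set γ := (φ - N)⁻¹ with hγ
  set A : Matrix (Fin n) (Fin n) F := 1 + vecMulVec w (γ • rep f w) with hA
  have hap : ∀ x, A *ᵥ x = x + (γ * f x w) • w := fun x => by
    rw [hA, add_mulVec, one_mulVec, vecMulVec_mulVec, op_smul_eq_smul, smul_dotProduct,
      hrep_dot S.uf, smul_eq_mul]
  have hσN : σ N = N := S.real_self d
  have hiso : γ + σ γ + γ * σ γ * f w w = 0 := by
    have h0' : σ (φ - N) ≠ 0 := (map_ne_zero σ).mpr h0
    rw [hγ, map_inv₀, hww]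
    rw [map_sub, hσN] at h0' ⊢
    field_simp
    ring
  have hdet : A.det = (N - σ φ) / (φ - N) := by
    rw [hA, vecMulVec_eq Unit, det_one_add_replicateCol_mul_replicateRow, smul_dotProduct,
      hrep_dot S.uf, hww, smul_eq_mul, hγ]
    field_simp
    ring
  have hform : ∀ x y, f (A *ᵥ x) (A *ᵥ y) = f x y := fun x y => by
    rw [hap, hap, S.uf.add_left, S.uf.smul_left, hadd_right S.uf, hadd_right S.uf,
      hsmul_right S.uf, hsmul_right S.uf, map_mul, ← S.uf.herm w y]
    linear_combination (f x w * f w y) * hiso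
  have hne' : A.det ≠ 0 := by
    rw [hdet]
    refine div_ne_zero (fun h => h0 ?_) h0
    have := congrArg σ h
    rw [map_sub, S.inv, hσN, map_zero] at this
    linear_combination -this
  refine ⟨GeneralLinearGroup.mkOfDetNeZero A hne', hform, ?_, fun x => ⟨γ * f x w, hap x⟩,
    fun x hx => ?_, hdet⟩
  · show A *ᵥ d = d'
    rw [hap, hdw, hγ, inv_mul_cancel₀ h0, one_smul, hw, add_sub_cancel]
  · show A *ᵥ x = x
    rw [hap, hx, mul_zero, zero_smul, add_zero]

/-- A move along a difference supported in one block keeps the blocks. -/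
theorem Std.keeps_move {t : ℕ} {blk : Fin n → Fin t} {h : GL (Fin n) F} {w : Fin n → F} {j : Fin t}
    (hw : ∀ b, w b ≠ 0 → blk b = j) (h1 : ∀ x, ∃ r : F, h ◆ x = x + r • w)
    (h2 : ∀ x, f x w = 0 → h ◆ x = x) : Keeps blk h := by
  refine ⟨id, fun a b hab => ?_⟩
  by_cases ha : w a = 0
  · rw [h2 _ (by rw [S.e_f, ha, map_zero])] at hab
    by_cases hb : b = a
    · rw [hb]; rfl
    · simp [e, hb] at hab
  · obtain ⟨r, hr⟩ := h1 (e a)
    rw [hr] at hab
    by_cases hb : b = a
    · rw [hb]; rfl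
    · simp [e, hb] at hab
      rw [hw b hab.2, id, hw a ha]

end

end Cfsg.Agent.UDec18
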