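import Cfsg.Agent.UDec18.Merge

/-!
Blocks of size at least two: a subgroup with the block stabiliser and one more element has all
centres (helper18).
-/

set_option autoImplicit false
set_option linter.unusedSectionVars false

namespace Cfsg.Agent.UDec18

open Matrix Cfsg.Agent.MaxSub Cfsg.Agent.HermStab
open Finset (univ)

variable {F : Type*} [Field F] [Fintype F] {n q : ℕ}
variable {σ : F ≃+* F} {f : (Fin n → F) → (Fin n → F) → F} {M : Subgroup (GL (Fin n) F)}

local notation:73 g:74 " ◆ " x:73 => (Units.val g) *ᵥ x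

/-- A block permutation with two prescribed values. -/
theorem exists_blk_perm {t k : ℕ} {blk : Fin n → Fin t}
    (hk : ∀ j, Nat.card {i // blk i = j} = k) {a b a' b' : Fin n} (hab : blk a ≠ blk b)
    (hab' : blk a' ≠ blk b') :
    ∃ (p : Equiv.Perm (Fin n)) (π : Fin t → Fin t),
      (∀ x, blk (p x) = π (blk x)) ∧ p a = a' ∧ p b = b' := by
  classical
  obtain ⟨E, hE⟩ : ∃ E : Fin n ≃ Fin t × Fin k, ∀ x, (E x).1 = blk x :=
    ⟨((Equiv.sigmaFiberEquiv blk).symm.trans
      (Equiv.sigmaCongrRight fun j => Finite.equivFinOfCardEq (hk j))).trans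
      (Equiv.sigmaEquivProd _ _), fun x => rfl⟩
  let π : Equiv.Perm (Fin t) := Equiv.swap (Equiv.swap (blk a) (blk a') (blk b)) (blk b') *
    Equiv.swap (blk a) (blk a')
  have hπa : π (blk a) = blk a' := by
    simp only [π, Equiv.Perm.mul_apply, Equiv.swap_apply_left]
    refine Equiv.swap_apply_of_ne_of_ne ?_ hab'
    intro h
    exact hab ((Equiv.swap (blk a) (blk a')).injective (by rw [Equiv.swap_apply_left, ← h]))
  have hπb : π (blk b) = blk b' := by simp [π]
  let ρ : Fin t → Equiv.Perm (Fin k) := fun j =>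
    if j = blk a then Equiv.swap (E a).2 (E a').2 else Equiv.swap (E b).2 (E b').2
  refine ⟨(E.trans (Equiv.prodShear π ρ)).trans E.symm, π, fun x => ?_, ?_, ?_⟩
  · rw [← hE, Equiv.trans_apply, Equiv.apply_symm_apply, ← hE x]; rfl
  · rw [Equiv.trans_apply, Equiv.symm_apply_eq, Equiv.trans_apply, Equiv.prodShear_apply]
    refine Prod.ext ?_ ?_
    · simp [hE, hπa]
    · simp [hE, ρ]
  · rw [Equiv.trans_apply, Equiv.symm_apply_eq, Equiv.trans_apply, Equiv.prodShear_apply]
    refine Prod.ext ?_ ?_
    · simp [hE, hπb]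
    · simp [hE, ρ, Ne.symm hab]

variable (S : Std q σ f)
include S

theorem exists_circ_ne (z : F) : ∃ ξ ∈ S.circ, ξ ≠ z := by
  obtain ⟨ξ, hξ, hne⟩ := Finset.exists_mem_notMem_of_card_lt_card (s := ({z} : Finset F))
    (t := S.circ) (by rw [Finset.card_singleton, S.card_circ]; have := S.two_le; omega)
  exact ⟨ξ, hξ, by simpa using hne⟩

/-- Over `GF(4)` roots and one four-coordinate centre give all four-coordinate centres. -/
theorem four_all (h2 : q = 2) (hn : 5 ≤ n) (hR : Roots σ f M) {w : Fin n → F}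
    (hwC : Centre σ f M w) (hw4 : (sp w).card = 4) :
    ∀ v, f v v = 0 → (sp v).card = 4 → Centre σ f M v := by
  classical
  intro v _ hv4
  have hc2 := two_char S h2
  have hskew : (1 : F) + σ 1 = 0 := by rw [map_one]; linear_combination hc2
  have swap : ∀ (x : Fin n → F) (i j : Fin n) (τ : F), i ≠ j → x i ≠ 0 → x j = 0 → τ ≠ 0 →
      Centre σ f M x → Centre σ f M (Function.update (Function.update x i 0) j τ) := by
    intro x i j τ hij hi hj hτ hx
    set ξ := τ / x i with hξ
    have hξ0 : ξ ≠ 0 := div_ne_zero hτ hi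
    obtain ⟨k, hk, hki, he, hka, hkb⟩ := root_move S hR hij
      (ξ := ξ) (c := 1) (by rw [norm_two S h2 hξ0]; linear_combination hc2) hskew x
    convert centre_map S.uf hx hk hki using 1
    funext l
    by_cases hl : l = j
    · subst hl
      rw [Function.update_self, hkb, hj, hξ]
      field_simp
      ring
    · rw [Function.update_of_ne hl]
      by_cases hl' : l = i
      · subst hl'
        rw [Function.update_self, hka, hj]
        linear_combination -(x l) * hc2
      · rw [Function.update_of_ne hl', he l hl' hl]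
  suffices main : ∀ m, ∀ x, Centre σ f M x → (sp x).card = 4 →
      (univ.filter fun i => x i ≠ v i).card ≤ m → Centre σ f M v from main _ w hwC hw4 le_rfl
  intro m
  induction m with
  | zero =>
    intro x hx _ hm
    suffices x = v by rwa [← this]
    funext i
    by_contra h
    exact Finset.notMem_empty i ((Finset.card_eq_zero.mp (Nat.le_zero.mp hm)) ▸
      Finset.mem_filter.mpr ⟨Finset.mem_univ i, h⟩)
  | succ m ih =>
    intro x hx hx4 hm
    by_cases hex : ∃ i, x i ≠ v i
    swap
    · simp only [not_exists, not_not] at hex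
      rwa [← funext hex]
    have drop : ∀ (y : Fin n → F) (i : Fin n), x i ≠ v i → y i = v i →
        (∀ l, x l = v l → y l = v l) → (univ.filter fun l => y l ≠ v l).card ≤ m := by
      intro y i hi hy hk
      have hlt : (univ.filter fun l => y l ≠ v l).card < (univ.filter fun l => x l ≠ v l).card := by
        refine Finset.card_lt_card ⟨fun l hl => ?_, fun hsub => ?_⟩
        · simp only [Finset.mem_filter, Finset.mem_univ, true_and] at hl ⊢
          exact fun h => hl (hk l h)
        · have := hsub (Finset.mem_filter.mpr ⟨Finset.mem_univ i, hi⟩)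
          simp [hy] at this
      omega
    by_cases hout : ∃ i, x i ≠ 0 ∧ v i = 0
    · obtain ⟨i, hxi, hvi⟩ := hout
      obtain ⟨j, hj, hxj⟩ := Finset.exists_mem_notMem_of_card_lt_card (s := (sp x).erase i)
        (t := sp v) (by rw [Finset.card_erase_of_mem (mem_sp.mpr hxi), hx4, hv4]; norm_num)
      have hji : j ≠ i := fun h => mem_sp.mp hj (h ▸ hvi)
      have hxj0 : x j = 0 := by simpa [hji] using hxj
      have hvj := mem_sp.mp hj
      have hC := swap x i j (v j) hji.symm hxi hxj0 hvj hx
      refine ih _ hC ?_ (drop _ i (by rw [hvi]; exact hxi)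
        (by rw [Function.update_of_ne hji.symm, Function.update_self, hvi]) fun l hl => ?_)
      · have : sp (Function.update (Function.update x i 0) j (v j)) = insert j ((sp x).erase i) := by
          ext l
          by_cases hlj : l = j
          · subst hlj; simp [hvj]
          · by_cases hli : l = i
            · subst hli; simp [hlj]
            · simp [hlj, hli]
        rw [this, Finset.card_insert_of_notMem (by simp [hxj0]),
          Finset.card_erase_of_mem (mem_sp.mpr hxi), hx4]
      · by_cases hlj : l = j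
        · rw [hlj, Function.update_self]
        · rw [Function.update_of_ne hlj]
          by_cases hli : l = i
          · rw [hli, Function.update_self, hvi]
          · rw [Function.update_of_ne hli, hl]
    · simp only [not_exists, not_and] at hout
      have hsub : sp x = sp v := Finset.eq_of_subset_of_card_le
        (fun i hi => mem_sp.mpr (hout i (mem_sp.mp hi))) (by rw [hx4, hv4])
      obtain ⟨i, hi⟩ := hex
      have hxi : x i ≠ 0 := by
        intro h0
        by_cases hvi : v i = 0
        · exact hi (h0.trans hvi.symm)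
        · exact mem_sp.mp (hsub ▸ mem_sp.mpr hvi) h0
      obtain ⟨j, -, hj⟩ := Finset.exists_mem_notMem_of_card_lt_card (s := sp x) (t := univ)
        (by rw [hx4, Finset.card_univ, Fintype.card_fin]; omega)
      have hxj : x j = 0 := by simpa using hj
      have hij : i ≠ j := fun h => hxi (h ▸ hxj)
      have h1 := swap x i j 1 hij hxi hxj one_ne_zero hx
      have hvi : v i ≠ 0 := hout i hxi
      have h2' := swap _ j i (v i) hij.symm (by rw [Function.update_self]; exact one_ne_zero)
        (by rw [Function.update_of_ne hij, Function.update_self]) hvi h1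
      rw [show Function.update (Function.update (Function.update (Function.update x i 0) j 1) j 0) i
          (v i) = Function.update x i (v i) from funext fun l => by
        by_cases hli : l = i
        · simp [hli]
        · by_cases hlj : l = j
          · subst hlj; simp [hli, hxj]
          · simp [hli, hlj]] at h2'
      refine ih _ h2' ?_ (drop _ i hi (by simp) fun l hl => ?_)
      · rw [← hx4]
        congr 1
        ext l
        by_cases hli : l = i
        · subst hli; simp [hxi, hvi]
        · simp [hli]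
      · by_cases hli : l = i
        · simp [hli]
        · simp [hli, hl]

variable {t k : ℕ} {blk : Fin n → Fin t}

/-- Vectors of prescribed value and norm inside a coordinate pair. -/
theorem exists_d {v : Fin n → F} {a b : Fin n} (hab : a ≠ b) (hva : v a ≠ 0) {φ r : F}
    (hφ : φ ≠ 0) (hr : σ r = r) :
    ∃ d : Fin n → F, (∀ i, i ≠ a → i ≠ b → d i = 0) ∧ f v d = φ ∧ f d d = r := by
  set x := v a
  set y := v b
  have h2 : ∀ α β : F, f v (two a α b β) = σ α * x + σ β * y := fun α β => S.f_two v a α b β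
  have h3 : ∀ α β : F, ∀ i, i ≠ a → i ≠ b → two a α b β i = 0 := fun α β i h1 h2 => by
    simp [two_apply hab, h1, h2]
  have hσx : σ x ≠ 0 := (map_ne_zero σ).mpr hva
  by_cases hs : x * σ x + y * σ y = 0
  · set β := σ (φ / x)
    have hβ : β ≠ 0 := (map_ne_zero σ).mpr (div_ne_zero hφ hva)
    obtain ⟨t, ht⟩ := MaxSub.exists_trace S.uf (r := r - β * σ β)
      (by rw [map_sub, hr, S.norm_real])
    set α := σ (t / (β * σ x))
    refine ⟨two a (β + α * x) b (α * y), h3 _ _, ?_, ?_⟩
    · rw [h2, map_add, map_mul, map_mul]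
      have : σ β * x = φ := by simp only [β, S.inv]; field_simp
      linear_combination this + σ α * hs
    · have hα : β * σ α * σ x = t := by simp only [α, S.inv]; field_simp
      have hα' : σ β * α * x = σ t := by rw [← hα]; simp only [map_mul, S.inv]
      rw [S.two_two hab, map_add, map_mul, map_mul]
      linear_combination ht + (α * σ α) * hs + hα + hα'
  · set s := x * σ x + y * σ y
    have hσs : σ s = s := by rw [map_add, S.norm_real, S.norm_real]
    set α := σ (φ / s)
    obtain ⟨β, hβ⟩ := S.exists_norm (r := r / s - α * σ α)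
      (by rw [map_sub, map_div₀, hr, hσs, S.norm_real])
    refine ⟨two a (α * x + β * σ y) b (α * y - β * σ x), h3 _ _, ?_, ?_⟩
    · rw [h2]; simp only [map_add, map_sub, map_mul, S.inv]
      have : σ α * s = φ := by simp only [α, S.inv]; field_simp
      linear_combination this
    · rw [S.two_two hab]; simp only [map_add, map_sub, map_mul, S.inv]
      field_simp at hβ
      linear_combination hβ

/-- Blocks of size at least two. -/
theorem centre_of_blocks (hn : q = 2 → 5 ≤ n) (hk2 : 2 ≤ k)
    (hk : ∀ j, Nat.card {i // blk i = j} = k) (hex : ¬ (k = 2 ∧ q = 2))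
    (hH : ∀ h ∈ su f, Keeps blk h → h ∈ M) (hMG : M ≤ su f) {g : GL (Fin n) F}
    (hg : g ∈ M) (hgH : ¬ Keeps blk g) : ∀ v, f v v = 0 → Centre σ f M v := by
  classical
  have hblk : ∀ j, k = (univ.filter fun i => blk i = j).card := fun j => by
    rw [← hk j, Nat.card_eq_fintype_card, Fintype.card_subtype]
  have mate : ∀ a, ∃ b, b ≠ a ∧ blk b = blk a := fun a => by
    obtain ⟨b, hb, hba⟩ := Finset.exists_mem_notMem_of_card_lt_card (s := ({a} : Finset (Fin n)))
      (t := univ.filter fun i => blk i = blk a) (by rw [Finset.card_singleton, ← hblk]; omega)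
    exact ⟨b, by simpa using hba, (Finset.mem_filter.mp hb).2⟩
  have inblock : ∀ (v : Fin n → F) (j : Fin t), (∀ i, v i ≠ 0 → blk i = j) → f v v = 0 →
      Centre σ f M v := by
    intro v j hv hvv
    refine ⟨hvv, fun c hc => hH _ (ut_mem_su S.uf hvv hc) (S.keeps_move hv
      (fun x => ⟨_, ut_mulVec S.uf hvv c x⟩) fun x hx => ?_)⟩
    rw [ut_mulVec S.uf hvv, hx, mul_zero, zero_smul, add_zero]
  obtain ⟨ρ, hρ⟩ := S.exists_norm (r := (-1 : F)) (by simp)
  have hρ0 : ρ ≠ 0 := fun h => by simp [h] at hρ
  -- a centre meeting two blocks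
  obtain ⟨v, a, a', hvC, hva, hva', hbl⟩ : ∃ v a a', Centre σ f M v ∧ v a ≠ 0 ∧ v a' ≠ 0 ∧
      blk a ≠ blk a' := by
    by_contra hc
    simp only [not_exists, not_and, not_not] at hc
    have hgi := (hMG hg).1
    let P : Fin t → (Fin n → F) → Prop := fun l x => ∀ i, x i ≠ 0 → blk i = l
    have single : ∀ u : Fin n → F, ∀ j, P j u → f u u = 0 →
        ∀ i i', (g ◆ u) i ≠ 0 → (g ◆ u) i' ≠ 0 → blk i = blk i' := fun u j hu huu i i' hi hi' =>
      hc _ i i' (centre_map S.uf (inblock u j hu huu) hg hgi) hi hi'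
    have key : ∀ a, ∃ l, ∀ a', blk a' = blk a → P l (g ◆ e a') := by
      intro a
      obtain ⟨b, hba, hbb⟩ := mate a
      set v₀ := two a 1 b ρ with hv₀
      have hv₀P : P (blk a) v₀ := fun i hi => by
        by_cases h1 : i = a
        · rw [h1]
        · by_cases h2 : i = b
          · rw [h2, hbb]
          · simp [v₀, two_apply hba.symm, h1, h2] at hi
      have hv₀0 : g ◆ v₀ ≠ 0 := mulVec_ne_zero g fun h => by
        have := congrFun h a; simp [v₀, two_apply hba.symm] at this
      have hv₀v : f v₀ v₀ = 0 := S.two_iso hba.symm (by rw [map_one, mul_one, hρ, add_neg_cancel])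
      obtain ⟨i₀, hi₀⟩ := Function.ne_iff.mp hv₀0
      refine ⟨blk i₀, ?_⟩
      have h0 : P (blk i₀) (g ◆ v₀) := fun i hi => single v₀ _ hv₀P hv₀v i i₀ hi hi₀
      -- an isotropic vector not orthogonal to a placed one is placed
      have link : ∀ x y, P (blk a) y → f y y = 0 → f y x ≠ 0 → P (blk i₀) (g ◆ x) →
          P (blk i₀) (g ◆ y) := by
        intro x y hy hyy hyx hx
        have h := mem_isom.mp hgi y x
        rw [S.sum (g ◆ y)] at h
        obtain ⟨i, -, hi⟩ := Finset.exists_ne_zero_of_sum_ne_zero (h.trans_ne hyx)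
        intro i' hi'
        rw [single y _ hy hyy i' i hi' (left_ne_zero_of_mul hi),
          hx i ((map_ne_zero σ).mp (right_ne_zero_of_mul hi))]
      have Padd : ∀ x y, P (blk i₀) x → P (blk i₀) y → P (blk i₀) (x + y) := fun x y hx hy i hi => by
        by_cases h : x i = 0
        · exact hy i (by simpa [h] using hi)
        · exact hx i h
      have Psmul : ∀ (c : F) x, P (blk i₀) x → P (blk i₀) (c • x) := fun c x hx i hi =>
        hx i fun h => hi (by simp [h])
      -- all isotropic vectors of the block are placed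
      have all : ∀ y, P (blk a) y → f y y = 0 → P (blk i₀) (g ◆ y) := by
        intro y hy hyy
        by_cases h : f y v₀ = 0
        swap
        · exact link v₀ y hy hyy h h0
        obtain ⟨ξ, hξ, hne⟩ : ∃ ξ ∈ S.circ, ξ ≠ (1 : F) := exists_circ_ne S 1
        set z := two a 1 b (ρ * ξ) with hz
        have hzP : P (blk a) z := fun i hi => by
          by_cases h1 : i = a
          · rw [h1]
          · by_cases h2 : i = b
            · rw [h2, hbb]
            · simp [z, two_apply hba.symm, h1, h2] at hi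
        have hzz : f z z = 0 := S.two_iso hba.symm (by
          rw [map_one, mul_one, map_mul]; linear_combination (ρ * σ ρ) * S.mem_circ.mp hξ + hρ)
        have hzv : f z v₀ ≠ 0 := by
          rw [S.two_f]
          simp only [v₀, two_apply hba.symm, if_true, if_neg hba, map_one, one_mul]
          intro h'
          exact hne (by linear_combination -h' + ξ * hρ)
        have hgz := link v₀ z hzP hzz hzv h0
        by_cases hyz : f y z = 0
        swap
        · exact link z y hy hyy hyz hgz
        have hzy : f (z + y) v₀ ≠ 0 := by rw [S.uf.add_left, h, add_zero]; exact hzv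
        have hsum := link v₀ (z + y) (fun i hi => by
          by_cases h' : z i = 0
          · exact hy i (by simpa [h'] using hi)
          · exact hzP i h') (by
            rw [S.uf.add_left, hadd_right S.uf z z y, hadd_right S.uf y z y, hzz, hyy, hyz, hswap_zero S.uf hyz]
            ring) hzy h0
        have := Padd _ _ hsum (Psmul (-1) _ hgz)
        rwa [mulVec_add, neg_one_smul, add_neg_cancel_comm] at this
      intro a' ha'
      obtain ⟨b', hb', hbb'⟩ := mate a'
      obtain ⟨ξ, hξ, hne⟩ : ∃ ξ ∈ S.circ, ξ ≠ (1 : F) := exists_circ_ne S 1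
      have hP : ∀ c : F, P (blk a) (two b' 1 a' c) := fun c i hi => by
        by_cases h1 : i = b'
        · rw [h1, hbb', ha']
        · by_cases h2 : i = a'
          · rw [h2, ha']
          · simp [two_apply hb', h1, h2] at hi
      have h1 := all _ (hP ρ) (S.two_iso hb' (by rw [map_one, mul_one, hρ, add_neg_cancel]))
      have h2 := all _ (hP (ρ * ξ)) (S.two_iso hb' (by
        rw [map_one, mul_one, map_mul]; linear_combination (ρ * σ ρ) * S.mem_circ.mp hξ + hρ))
      have h3 := Psmul ((ρ * ξ - ρ)⁻¹) _ (Padd _ _ h2 (Psmul (-1) _ h1))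
      rwa [← mulVec_smul (Units.val g) (-1 : F), ← mulVec_add, ← mulVec_smul,
        show (ρ * ξ - ρ)⁻¹ • (two b' 1 a' (ρ * ξ) + (-1 : F) • two b' 1 a' ρ) = e a' from by
          have : ρ * ξ - ρ ≠ 0 := fun h => hne (mul_left_cancel₀ hρ0 (by linear_combination h))
          rw [eq_comm, eq_inv_smul_iff₀ this]; simp only [two]; module] at h3
    choose π hπ using key
    refine hgH ⟨fun j => if hj : ∃ a, blk a = j then π hj.choose else j, fun a b hab => ?_⟩
    have hj : ∃ a', blk a' = blk a := ⟨a, rfl⟩
    simp only [dif_pos hj]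
    exact hπ _ a hj.choose_spec.symm b hab
  obtain ⟨b, hba, hbb⟩ := mate a
  obtain ⟨b', hba', hbb'⟩ := mate a'
  -- a centre with anisotropic parts in two blocks
  obtain ⟨d, e', hd, he', hdd, hee, hdC⟩ : ∃ d e' : Fin n → F, (∀ i, d i ≠ 0 → blk i = blk a) ∧
      (∀ i, e' i ≠ 0 → blk i = blk a') ∧ f d d = 1 ∧ f e' e' = -1 ∧ Centre σ f M (d + e') := by
    obtain ⟨c₀, hc₀, hc₀'⟩ := exists_skew S.uf
    obtain ⟨fa, hfa, hfa'⟩ : ∃ fa : F, fa + σ fa = -1 ∧ σ fa ≠ fa := by
      obtain ⟨t₀, ht₀⟩ := MaxSub.exists_trace S.uf (r := (-1 : F)) (by simp)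
      by_cases h : σ t₀ = t₀
      · refine ⟨t₀ + c₀, by rw [map_add]; linear_combination ht₀ + hc₀', fun h' => ?_⟩
        have hσc : σ c₀ = -c₀ := eq_neg_of_add_eq_zero_right hc₀'
        rw [map_add, h, hσc] at h'
        have h2 : (2 : F) ≠ 0 := fun h2 => by
          rw [h] at ht₀
          exact one_ne_zero (α := F) (by linear_combination ht₀ - t₀ * h2)
        exact mul_ne_zero h2 hc₀ (by linear_combination -h')
      · exact ⟨t₀, ht₀, h⟩
    have hfa0 : fa ≠ 0 := fun h => hfa' (by simp [h])
    obtain ⟨d, hd, hvd, hdd⟩ := exists_d S (v := v) hba.symm hva (φ := fa) (r := 1) hfa0 (map_one σ)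
    obtain ⟨e', he', hve, hee⟩ := exists_d S (v := v) hba'.symm hva' (φ := -σ fa) (r := -1)
      (neg_ne_zero.mpr ((map_ne_zero σ).mpr hfa0)) (by simp)
    have hdB : ∀ i, d i ≠ 0 → blk i = blk a := fun i hi => by
      by_contra h
      exact hi (hd i (fun e => h (e ▸ rfl)) fun e => h (e ▸ hbb))
    have heB : ∀ i, e' i ≠ 0 → blk i = blk a' := fun i hi => by
      by_contra h
      exact hi (he' i (fun e => h (e ▸ rfl)) fun e => h (e ▸ hbb'))
    have hde : f d e' = 0 := by
      rw [S.sum]
      refine Finset.sum_eq_zero fun i _ => ?_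
      by_cases h1 : d i = 0
      · rw [h1, zero_mul]
      · by_cases h2 : e' i = 0
        · rw [h2, map_zero, mul_zero]
        · exact absurd ((hdB i h1).symm.trans (heB i h2)) hbl
    have hed := hswap_zero S.uf hde
    have hvv := hvC.1
    have hN1 : f v v = f (v + d) (v + d) := by
      rw [S.uf.add_left, hadd_right S.uf, hadd_right S.uf, hvd, S.uf.herm d v, hvd, hdd]
      linear_combination -hfa
    have hne1 : f v (v + d) ≠ f v v := by
      rw [hadd_right S.uf, hvd]; simpa using hfa0
    obtain ⟨R, hR, hRv, hR1, hR2, hRd⟩ := S.exists_move hN1 hne1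
    rw [add_sub_cancel_left] at hR1 hR2
    have hN2 : f (v + d) (v + d) = f (v + d + e') (v + d + e') := by
      have h1 : f (v + d) e' = -σ fa := by rw [S.uf.add_left, hve, hde, add_zero]
      conv_rhs => rw [S.uf.add_left, hadd_right S.uf (v + d), hadd_right S.uf e', h1,
        S.uf.herm e' (v + d), h1, hee, map_neg, S.inv]
      linear_combination hfa
    have hne2 : f (v + d) (v + d + e') ≠ f (v + d) (v + d) := by
      rw [hadd_right S.uf (v + d), S.uf.add_left v d e', hve, hde, add_zero]
      simpa using hfa0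
    obtain ⟨R', hR', hR'v, hR'1, hR'2, hR'd⟩ := S.exists_move hN2 hne2
    rw [add_sub_cancel_left] at hR'1 hR'2
    have hdet : (R' * R : GL (Fin n) F) ∈ su f := by
      refine ⟨mul_mem hR' hR, (mem_special_iff S).mpr ?_⟩
      rw [Units.val_mul, det_mul, hR'd, hRd, ← hN1, hvv,
        hadd_right S.uf (v + d) (v + d) e', ← hN1, hvv, S.uf.add_left v d e', hve, hde,
        hadd_right S.uf v v d, hvv, hvd]
      have : σ fa ≠ 0 := (map_ne_zero σ).mpr hfa0
      simp only [zero_add, add_zero, map_neg, S.inv]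
      field_simp
      ring_nf
      field_simp
    have hin := hH _ hdet (keeps_mul (S.keeps_move heB hR'1 hR'2) (S.keeps_move hdB hR1 hR2))
    have hC' := centre_map S.uf hvC hin hdet.1
    rw [ap_mul, hRv, hR'v] at hC'
    set Φ := f (v + d + e') v with hΦ
    have hΦv : Φ = σ fa - fa := by
      rw [hΦ, S.uf.add_left, S.uf.add_left, hvv, S.uf.herm d v, S.uf.herm e' v, hvd, hve, map_neg,
        S.inv]
      ring
    have hΦ0 : Φ ≠ 0 := by rw [hΦv]; exact sub_ne_zero.mpr hfa'
    have hc : -Φ⁻¹ + σ (-Φ⁻¹) = 0 := by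
      rw [map_neg, map_inv₀]
      have : σ Φ = -Φ := by rw [hΦv, map_sub, S.inv]; ring
      rw [this, inv_neg]; ring
    have h5 := centre_move S.uf hvC hC' hc
    rw [← hΦ, neg_mul, inv_mul_cancel₀ hΦ0, neg_one_smul,
      show v + d + e' + -v = d + e' by abel] at h5
    exact ⟨d, e', hdB, heB, hdd, hee, h5⟩
  -- a root between two blocks
  obtain ⟨α, β, hαβ, hα, hrC⟩ : ∃ α β : F, α * σ α + β * σ β = 0 ∧ α ≠ 0 ∧
      Centre σ f M (two a α a' β) := by
    obtain ⟨ξ, hξ, hξn⟩ : ∃ ξ ∈ S.circ, σ ξ * d a ≠ 1 := by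
      by_cases h0 : d a = 0
      · exact ⟨1, S.one_mem_circ, by simp [h0]⟩
      · obtain ⟨ξ, hξ, hne⟩ := exists_circ_ne S (σ (d a)⁻¹)
        refine ⟨ξ, hξ, fun h => hne ?_⟩
        rw [← eq_inv_of_mul_eq_one_left h, S.inv]
    obtain ⟨η, hη, hηn⟩ : ∃ η ∈ S.circ, σ ρ * σ η * e' a' ≠ -1 := by
      by_cases h0 : e' a' = 0
      · exact ⟨1, S.one_mem_circ, by simp [h0]⟩
      · obtain ⟨η, hη, hne⟩ := exists_circ_ne S (σ (-1 / (σ ρ * e' a')))
        refine ⟨η, hη, fun h => hne ?_⟩
        have : σ ρ ≠ 0 := (map_ne_zero σ).mpr hρ0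
        rw [show -1 / (σ ρ * e' a') = σ η by rw [← h]; field_simp, S.inv]
    have hN1 : f d d = f (ξ • e a) (ξ • e a : Fin n → F) := by
      rw [S.uf.smul_left, hsmul_right S.uf, S.e_e, if_pos rfl, mul_one, S.mem_circ.mp hξ, hdd]
    obtain ⟨R, hR, hRd, hR1, hR2, -⟩ := S.exists_move hN1 (by
      rw [hsmul_right S.uf, S.f_e, hdd]; exact hξn)
    have hN2 : f e' e' = f ((ρ * η) • e a') ((ρ * η) • e a' : Fin n → F) := by
      rw [S.uf.smul_left, hsmul_right S.uf, S.e_e, if_pos rfl, mul_one, hee, map_mul]
      linear_combination -(η * σ η) * hρ + S.mem_circ.mp hη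
    obtain ⟨R', hR', hRe, hR'1, hR'2, -⟩ := S.exists_move hN2 (by
      rw [hsmul_right S.uf, S.f_e, hee, map_mul]; exact hηn)
    have hwB : ∀ i, (ξ • e a - d : Fin n → F) i ≠ 0 → blk i = blk a := fun i hi => by
      by_contra h
      have h1 : i ≠ a := fun e => h (e ▸ rfl)
      simp [e, h1, not_not.mp (mt (hd i) h)] at hi
    have hwB' : ∀ i, ((ρ * η) • e a' - e' : Fin n → F) i ≠ 0 → blk i = blk a' := fun i hi => by
      by_contra h
      have h1 : i ≠ a' := fun e => h (e ▸ rfl)
      simp [e, h1, not_not.mp (mt (he' i) h)] at hi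
    have orth : ∀ x w : Fin n → F, ∀ j l, j ≠ l → (∀ i, x i ≠ 0 → blk i = j) →
        (∀ i, w i ≠ 0 → blk i = l) → f x w = 0 := fun x w j l hjl hx hw => by
      rw [S.sum]
      refine Finset.sum_eq_zero fun i _ => ?_
      by_cases h1 : x i = 0
      · rw [h1, zero_mul]
      · by_cases h2 : w i = 0
        · rw [h2, map_zero, mul_zero]
        · exact absurd ((hx i h1).symm.trans (hw i h2)) hjl
    have hs : ∀ (c : F) (x : Fin n), ∀ i, (c • e x : Fin n → F) i ≠ 0 → blk i = blk x := fun c x i hi => by
      by_cases h : i = x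
      · rw [h]
      · simp [e, h] at hi
    obtain ⟨δ, hδ, -, hmem, hδe, μ, -, hδc⟩ := S.exists_corr (mul_mem hR' hR) b'
    have hkδ : Keeps blk δ := keeps_of_monomial 1 id (fun _ => rfl) fun x => by
      by_cases hx : x = b'
      · subst hx; exact ⟨μ, hδc⟩
      · exact ⟨1, by rw [hδe x hx, one_smul]; rfl⟩
    have hab' : b' ≠ a := fun h => hbl (h ▸ hbb')
    have hin := hH _ hmem (keeps_mul hkδ
      (keeps_mul (S.keeps_move hwB' hR'1 hR'2) (S.keeps_move hwB hR1 hR2)))
    have hC := centre_map S.uf hdC hin hmem.1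
    rw [ap_mul, ap_mul, mulVec_add, hRd, hR2 e' (orth e' _ _ _ (Ne.symm hbl) he' hwB), mulVec_add,
      hRe, hR'2 _ (orth _ _ _ _ hbl (hs ξ a) hwB'), mulVec_add, mulVec_smul, mulVec_smul,
      hδe a hab'.symm, hδe a' hba'.symm] at hC
    refine ⟨ξ, ρ * η, ?_, S.circ_ne_zero hξ, hC⟩
    rw [map_mul]
    linear_combination S.mem_circ.mp hξ + (η * σ η) * hρ - S.mem_circ.mp hη
  have hroots : Roots σ f M := by
    intro x y γ δ hxy hγδ
    by_cases hbxy : blk x = blk y
    · refine inblock _ (blk x) (fun i hi => ?_) (S.two_iso hxy hγδ)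
      by_cases h1 : i = x
      · rw [h1]
      · by_cases h2 : i = y
        · rw [h2, hbxy]
        · simp [two_apply hxy, h1, h2] at hi
    by_cases hγ : γ = 0
    · have hδ0 : δ = 0 := by
        rw [hγ] at hγδ
        simpa using hγδ
      simpa [hγ, hδ0, two] using centre_zero (M := M) S.uf
    have hβ : β ≠ 0 := fun h => by
      rw [h, zero_mul, add_zero] at hαβ
      exact mul_ne_zero hα ((map_ne_zero σ).mpr hα) hαβ
    obtain ⟨p, π, hp, hpa, hpb⟩ := exists_blk_perm hk hbl hbxy
    set lam := γ / α with hlam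
    set ν : Fin n → F := Function.update 1 a' (δ / (lam * β)) with hν
    have hlam0 : lam ≠ 0 := div_ne_zero hγ hα
    have hνn : ∀ i, ν i * σ (ν i) = 1 := fun i => by
      by_cases h : i = a'
      · subst h
        have h1 : σ α ≠ 0 := (map_ne_zero σ).mpr hα
        have h2 : σ β ≠ 0 := (map_ne_zero σ).mpr hβ
        have h3 : σ γ ≠ 0 := (map_ne_zero σ).mpr hγ
        rw [hν, Function.update_self, hlam]
        simp only [map_div₀, map_mul]
        field_simp
        linear_combination (α * σ α) * hγδ - (γ * σ γ) * hαβ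
      · simp [hν, h]
    obtain ⟨h, hh, hhm, hhe⟩ := S.exists_mono_su p ν hνn b'
    have hin := hH h hh (keeps_of_monomial p π hp fun z => let ⟨μ, _, hμ⟩ := hhm z; ⟨μ, hμ⟩)
    have hab' : a ≠ b' := fun e => hbl (e ▸ hbb')
    have hC := centre_smul S.uf (centre_map S.uf hrC hin hh.1) lam
    rw [mulVec_add, mulVec_smul, mulVec_smul, hhe a hab', hhe a' hba'.symm, hpa, hpb] at hC
    convert hC using 1
    have haa : a ≠ a' := fun e => hbl (e ▸ rfl)
    simp only [hν, Function.update_self, Function.update_of_ne haa, Pi.one_apply, one_smul,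
      smul_add, smul_smul, two]
    rw [hlam, div_mul_cancel₀ _ hα]
    congr 2
    rw [← hlam]
    field_simp
  refine centre_all S hroots fun h2 => ?_
  -- a four-coordinate centre over GF(4)
  obtain ⟨c, hc, hca, hcb⟩ : ∃ c, blk c = blk a ∧ c ≠ a ∧ c ≠ b := by
    obtain ⟨c, hc, hne⟩ := Finset.exists_mem_notMem_of_card_lt_card (s := ({a, b} : Finset (Fin n)))
      (t := univ.filter fun i => blk i = blk a) (by
        rw [Finset.card_pair hba.symm, ← hblk]
        by_contra h
        exact hex ⟨by omega, h2⟩)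
    simp only [Finset.mem_insert, Finset.mem_singleton, not_or] at hne
    exact ⟨c, (Finset.mem_filter.mp hc).2, hne.1, hne.2⟩
  have h21 := two_char S h2
  obtain ⟨ξ, hξ, hξ1⟩ := exists_circ_ne S 1
  have hξN := S.mem_circ.mp hξ
  set w : Fin n → F := ξ • (e a + e b + e c) with hw
  have hww : f w w = 1 := by
    rw [hw, S.uf.smul_left, hsmul_right S.uf]
    simp only [S.uf.add_left, hadd_right S.uf, S.e_e, hba, hba.symm, hca, hca.symm, hcb, hcb.symm,
      if_true, if_false]
    linear_combination 3 * hξN + h21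
  have hea : f (e a) (e a : Fin n → F) = 1 := by rw [S.e_e, if_pos rfl]
  have hfw : f (e a) w = σ ξ := by
    rw [S.e_f, hw]; simp [e, hba.symm, hca.symm]
  obtain ⟨R, hR, hRa, hR1, hR2, -⟩ := S.exists_move (hea.trans hww.symm) (by
    rw [hfw, hea]; exact fun h => hξ1 (by rw [← S.inv ξ, h, map_one]))
  obtain ⟨δ, hδ, -, hmem, hδe, μ, -, hδc⟩ := S.exists_corr hR b'
  have hwB : ∀ i, (w - e a : Fin n → F) i ≠ 0 → blk i = blk a := fun i hi => by
    by_contra h
    have h1 : i ≠ a := fun e => h (e ▸ rfl)
    have h2 : i ≠ b := fun e => h (e ▸ hbb)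
    have h3 : i ≠ c := fun e => h (e ▸ hc)
    simp [hw, e, h1, h2, h3] at hi
  have hin := hH _ hmem (keeps_mul (keeps_of_monomial 1 id (fun _ => rfl) fun x => by
      by_cases hx : x = b'
      · subst hx; exact ⟨μ, hδc⟩
      · exact ⟨1, by rw [hδe x hx, one_smul]; rfl⟩) (S.keeps_move hwB hR1 hR2))
  have hb'a : b' ≠ a := fun h => hbl (h ▸ hbb')
  have hb'b : b' ≠ b := fun h => hbl (hbb.symm.trans (h ▸ hbb'))
  have hb'c : b' ≠ c := fun h => hbl (hc.symm.trans (h ▸ hbb'))
  have haa' : a ≠ a' := fun h => hbl (h ▸ rfl)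
  have hba2 : b ≠ a' := fun h => hbl (hbb.symm.trans (h ▸ rfl))
  have hca2 : c ≠ a' := fun h => hbl (hc.symm.trans (h ▸ rfl))
  have hroot := hroots a a' 1 1 haa' (by simp only [map_one]; linear_combination h21)
  have hC := centre_map S.uf hroot hin hmem.1
  have hfix : f (e a') (w - e a : Fin n → F) = 0 := by
    rw [S.e_f]
    simp [hw, e, haa'.symm, hba2.symm, hca2.symm]
  rw [ap_mul, mulVec_add, one_smul, one_smul, hRa, hR2 _ hfix, mulVec_add, hδe a' hba'.symm] at hC
  rw [hw, mulVec_smul, mulVec_add, mulVec_add, hδe a hb'a.symm, hδe b hb'b.symm, hδe c hb'c.symm] at hC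
  refine four_all S h2 (hn h2) hroots hC ?_
  have hsp : sp (ξ • (e a + e b + e c) + e a' : Fin n → F) = {a, b, c, a'} := by
    ext i
    simp only [mem_sp, Finset.mem_insert, Finset.mem_singleton]
    have hξ0 := S.circ_ne_zero hξ
    constructor
    · intro hi
      by_contra h
      simp only [not_or] at h
      simp [e, h] at hi
    · rintro (rfl | rfl | rfl | rfl) <;>
        simp [e, hξ0, hba, hba.symm, hca, hca.symm, hcb, hcb.symm, haa', haa'.symm, hba2, hba2.symm,
          hca2, hca2.symm]
  rw [hsp, Finset.card_insert_of_notMem (by simp [hba.symm, hca.symm, haa']),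
    Finset.card_insert_of_notMem (by simp [hcb.symm, hba2]), Finset.card_pair hca2]

end Cfsg.Agent.UDec18
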