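import Cfsg.Agent.UDec18.Torus

/-!
Lines (`k = 1`), even `q`: conjugates of two-coordinate swaps; all of `q = 2` (helper18).
-/

set_option autoImplicit false
set_option linter.unusedSectionVars false

namespace Cfsg.Agent.UDec18

open Matrix Cfsg.Agent.MaxSub Cfsg.Agent.HermStab
open Finset (univ)

variable {F : Type*} [Field F] [Fintype F] {n q : ℕ}
variable {σ : F ≃+* F} {f : (Fin n → F) → (Fin n → F) → F} {M : Subgroup (GL (Fin n) F)}

local notation:73 g:74 " ◆ " x:73 => (Units.val g) *ᵥ x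

/-- `v` is the centre of a transvection with parameter one in `M`. -/
def SwapC (f : (Fin n → F) → (Fin n → F) → F) (M : Subgroup (GL (Fin n) F)) (v : Fin n → F) :
    Prop :=
  f v v = 0 ∧ ut f v 1 ∈ M

variable (S : Std q σ f)
include S

theorem char_two (he : Even q) : (2 : F) = 0 := by
  have := FiniteField.cast_card_eq_zero (K := F)
  rw [S.card] at this
  obtain ⟨m, rfl⟩ := he
  push_cast at this
  have h1 := mul_self_eq_zero.mp (show ((m : F) + m) * (m + m) = 0 by linear_combination this)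
  by_contra h2
  -- the characteristic divides both `q` and nothing odd
  have hm : (m : F) = 0 := (mul_eq_zero.mp (show (2 : F) * m = 0 by linear_combination h1)).resolve_left h2
  obtain ⟨p, hp⟩ := CharP.exists F
  obtain ⟨k, hp', hk⟩ := FiniteField.card F p
  rw [S.card] at hk
  have h2q : 2 ∣ p ^ (k : ℕ) := hk ▸ (dvd_pow ⟨m, by ring⟩ two_ne_zero)
  have hp2 := (Nat.prime_dvd_prime_iff_eq Nat.prime_two hp').mp (Nat.prime_two.dvd_of_dvd_pow h2q)
  exact h2 (by have := CharP.cast_eq_zero F p; rwa [← hp2] at this)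

theorem one_skew (h2 : (2 : F) = 0) : (1 : F) + σ 1 = 0 := by
  rw [map_one]; linear_combination h2

theorem SwapC.map {v : Fin n → F} (hv : SwapC f M v) {k : GL (Fin n) F} (hk : k ∈ M)
    (hki : k ∈ isom f) : SwapC f M (k ◆ v) := by
  have h0 := (mem_isom.mp hki v v).trans hv.1
  refine ⟨h0, ?_⟩
  have e : ut f (k ◆ v) 1 = k * ut f v 1 * k⁻¹ := gl_ext fun x => by
    rw [ut_mulVec S.uf h0, ap_mul, ap_mul, ut_mulVec S.uf hv.1, mulVec_add, mulVec_smul,
      mulVec_inv_mulVec]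
    conv_lhs => rw [← mulVec_inv_mulVec k x, mem_isom.mp hki]
    rw [mulVec_inv_mulVec]
  rw [e]
  exact mul_mem (mul_mem hk hv.2) (inv_mem hk)

theorem SwapC.move (h2 : (2 : F) = 0) {v w : Fin n → F} (hv : SwapC f M v) (hw : SwapC f M w) :
    SwapC f M (w + f w v • v) := by
  have := SwapC.map S hw hv.2 (ut_mem_isom S.uf hv.1 (one_skew S h2))
  rwa [ut_mulVec S.uf hv.1, one_mul] at this

/-- Two-coordinate swaps are monomial. -/
theorem swap_mem (h2 : (2 : F) = 0) (hH : ∀ h ∈ su f, Mono h → h ∈ M) {a b : Fin n} (hab : a ≠ b)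
    {ξ : F} (hξ : ξ * σ ξ = 1) : SwapC f M (two a 1 b ξ) := by
  have hiso : f (two a 1 b ξ) (two a 1 b ξ) = 0 := S.two_iso hab (by
    rw [map_one, hξ]; linear_combination h2)
  refine ⟨hiso, hH _ (ut_mem_su S.uf hiso (one_skew S h2)) (mono_of_perm (Equiv.swap a b) fun i => ?_)⟩
  rw [ut_mulVec S.uf hiso, S.f_two, map_one, one_mul, one_mul]
  by_cases hia : i = a
  · subst hia
    refine ⟨ξ, ?_⟩
    rw [Equiv.swap_apply_left]
    funext j
    simp [e, two, hab, hab.symm]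
    linear_combination (Pi.single (M := fun _ => F) i (1 : F) j) * h2
  by_cases hib : i = b
  · subst hib
    refine ⟨σ ξ, ?_⟩
    rw [Equiv.swap_apply_right]
    funext j
    simp [e, two, hab, hab.symm]
    linear_combination (Pi.single (M := fun _ => F) i (1 : F) j) * h2 +
      (Pi.single (M := fun _ => F) i (1 : F) j) * hξ
  refine ⟨1, ?_⟩
  rw [Equiv.swap_apply_of_ne_of_ne hia hib]
  simp [e, Ne.symm hia, Ne.symm hib]

theorem norm_add_mul (x y ξ : F) (hξ : ξ * σ ξ = 1) :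
    (x + σ ξ * y) * σ (x + σ ξ * y) =
      x * σ y * ξ + σ (x * σ y * ξ) + (x * σ x + y * σ y) := by
  simp only [map_add, map_mul, S.inv]
  linear_combination (y * σ y) * hξ

/-- Three pairs shrink the support to six. -/
theorem six (h2 : (2 : F) = 0) (hH : ∀ h ∈ su f, Mono h → h ∈ M) (hMG : M ≤ su f)
    {v : Fin n → F} (hv : SwapC f M v) (a : Fin 6 → Fin n) (ha : Function.Injective a)
    {ξ₁ ξ₂ ξ₃ : F} (h₁ : ξ₁ * σ ξ₁ = 1) (h₂ : ξ₂ * σ ξ₂ = 1) (h₃ : ξ₃ * σ ξ₃ = 1)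
    (hsum : (v (a 0) + σ ξ₁ * v (a 1)) * σ (v (a 0) + σ ξ₁ * v (a 1)) +
        (v (a 2) + σ ξ₂ * v (a 3)) * σ (v (a 2) + σ ξ₂ * v (a 3)) +
        (v (a 4) + σ ξ₃ * v (a 5)) * σ (v (a 4) + σ ξ₃ * v (a 5)) = 1) :
    SwapC f M ((v (a 0) + σ ξ₁ * v (a 1)) • two (a 0) 1 (a 1) ξ₁ +
      (v (a 2) + σ ξ₂ * v (a 3)) • two (a 2) 1 (a 3) ξ₂ +
      (v (a 4) + σ ξ₃ * v (a 5)) • two (a 4) 1 (a 5) ξ₃) := by
  have d : ∀ {i j : Fin 6}, i ≠ j → a i ≠ a j := fun h => ha.ne h
  have s₁ := swap_mem S (M := M) h2 hH (d (show (0 : Fin 6) ≠ 1 by decide)) h₁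
  have s₂ := swap_mem S (M := M) h2 hH (d (show (2 : Fin 6) ≠ 3 by decide)) h₂
  have s₃ := swap_mem S (M := M) h2 hH (d (show (4 : Fin 6) ≠ 5 by decide)) h₃
  set u₁ := two (a 0) 1 (a 1) ξ₁ with hu₁
  set u₂ := two (a 2) 1 (a 3) ξ₂ with hu₂
  set u₃ := two (a 4) 1 (a 5) ξ₃ with hu₃
  have o21 : f u₁ u₂ = 0 := by
    rw [hu₂, S.f_two, hu₁, two_apply (d (by decide)), two_apply (d (by decide))]
    simp [d (show (2 : Fin 6) ≠ 0 by decide), d (show (2 : Fin 6) ≠ 1 by decide),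
      d (show (3 : Fin 6) ≠ 0 by decide), d (show (3 : Fin 6) ≠ 1 by decide)]
  have o31 : f u₁ u₃ = 0 := by
    rw [hu₃, S.f_two, hu₁, two_apply (d (by decide)), two_apply (d (by decide))]
    simp [d (show (4 : Fin 6) ≠ 0 by decide), d (show (4 : Fin 6) ≠ 1 by decide),
      d (show (5 : Fin 6) ≠ 0 by decide), d (show (5 : Fin 6) ≠ 1 by decide)]
  have o32 : f u₂ u₃ = 0 := by
    rw [hu₃, S.f_two, hu₂, two_apply (d (by decide)), two_apply (d (by decide))]
    simp [d (show (4 : Fin 6) ≠ 2 by decide), d (show (4 : Fin 6) ≠ 3 by decide),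
      d (show (5 : Fin 6) ≠ 2 by decide), d (show (5 : Fin 6) ≠ 3 by decide)]
  have c₁ : f v u₁ = v (a 0) + σ ξ₁ * v (a 1) := by rw [hu₁, S.f_two, map_one, one_mul]
  have c₂ : f v u₂ = v (a 2) + σ ξ₂ * v (a 3) := by rw [hu₂, S.f_two, map_one, one_mul]
  have c₃ : f v u₃ = v (a 4) + σ ξ₃ * v (a 5) := by rw [hu₃, S.f_two, map_one, one_mul]
  rw [← c₁, ← c₂, ← c₃] at hsum ⊢
  have hk : ut f u₃ 1 * ut f u₂ 1 * ut f u₁ 1 ∈ M := mul_mem (mul_mem s₃.2 s₂.2) s₁.2
  set K := ut f u₃ 1 * ut f u₂ 1 * ut f u₁ 1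
  have hKv : K ◆ v = v + f v u₁ • u₁ + f v u₂ • u₂ + f v u₃ • u₃ := by
    simp only [K, ap_mul, ut_mulVec S.uf s₁.1, ut_mulVec S.uf s₂.1, ut_mulVec S.uf s₃.1,
      S.uf.add_left, S.uf.smul_left, o21, o31, o32]
    simp only [one_mul, mul_zero, add_zero]
  have hf : f (K ◆ v) v = 1 := by
    rw [hKv, S.uf.add_left, S.uf.add_left, S.uf.add_left, S.uf.smul_left, S.uf.smul_left,
      S.uf.smul_left, hv.1, S.uf.herm u₁ v, S.uf.herm u₂ v, S.uf.herm u₃ v]
    linear_combination hsum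
  have := SwapC.move S h2 hv (SwapC.map S hv hk (hMG hk).1)
  rw [hf, hKv] at this
  convert this using 1
  rw [one_smul]
  funext i
  simp only [Pi.add_apply]
  linear_combination -(v i) * h2

/-- The values `N (x + σ ξ y)` are many. -/
theorem card_values [DecidableEq F] (he : Even q) {x y : F} (hx : x ≠ 0) (hy : y ≠ 0) :
    q + 2 ≤ 2 * (S.circ.image fun ξ => (x + σ ξ * y) * σ (x + σ ξ * y)).card ∧
      (S.circ.image fun ξ => (x + σ ξ * y) * σ (x + σ ξ * y)) ⊆ S.reals := by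
  refine ⟨?_, fun r hr => ?_⟩
  · have h := S.card_le_two_image (A := x * σ y) (mul_ne_zero hx ((map_ne_zero σ).mpr hy))
      (x * σ x + y * σ y) S.circ subset_rfl
    rw [S.card_circ, Finset.image_congr (g := fun ξ => (x + σ ξ * y) * σ (x + σ ξ * y))
      (fun ξ hξ => (norm_add_mul S x y ξ (S.mem_circ.mp hξ)).symm)] at h
    obtain ⟨m, rfl⟩ := he
    omega
  · obtain ⟨ξ, -, rfl⟩ := Finset.mem_image.mp hr
    exact S.mem_reals.mpr (S.norm_real _)

/-- A full vector yields one with between three and six non-zero coordinates. -/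
theorem shrink (he : Even q) (h4 : 4 ≤ q) (hn : 6 ≤ n) (hH : ∀ h ∈ su f, Mono h → h ∈ M)
    (hMG : M ≤ su f) {v : Fin n → F} (hv : SwapC f M v) (hfull : ∀ i, v i ≠ 0) :
    ∃ w, SwapC f M w ∧ 3 ≤ (sp w).card ∧ (sp w).card ≤ 6 := by
  classical
  have h2 := char_two S he
  set a : Fin 6 → Fin n := fun i => ⟨i, by omega⟩ with ha
  have hai : Function.Injective a := fun i j h => Fin.ext (by have := congrArg Fin.val h; simpa [ha] using this)
  obtain ⟨hR1, hR1s⟩ := card_values S he (hfull (a 0)) (hfull (a 1))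
  obtain ⟨hR2, hR2s⟩ := card_values S he (hfull (a 2)) (hfull (a 3))
  obtain ⟨hR3, -⟩ := card_values S he (hfull (a 4)) (hfull (a 5))
  obtain ⟨r₃, hr₃, hr₃'⟩ := Finset.exists_mem_notMem_of_card_lt_card (s := ({0, 1} : Finset F))
    (t := S.circ.image fun ξ => (v (a 4) + σ ξ * v (a 5)) * σ (v (a 4) + σ ξ * v (a 5)))
    (Finset.card_le_two.trans_lt (by omega))
  obtain ⟨ξ₃, hξ₃, hξ₃r⟩ := Finset.mem_image.mp hr₃
  have hr₃R : σ r₃ = r₃ := hξ₃r ▸ S.norm_real _
  obtain ⟨r₁, hr₁, hr₁'⟩ := exists_mem_mem_of_card S (C := S.reals) hR1s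
    (B := (S.circ.image fun ξ => (v (a 2) + σ ξ * v (a 3)) * σ (v (a 2) + σ ξ * v (a 3))).image
      fun r => 1 + r₃ + r)
    (fun r hr => by
      obtain ⟨r', hr', rfl⟩ := Finset.mem_image.mp hr
      rw [S.mem_reals, map_add, map_add, map_one, hr₃R, S.mem_reals.mp (hR2s hr')])
    (by rw [Finset.card_image_of_injective _ (add_right_injective _), S.card_reals]; omega)
  obtain ⟨ξ₁, hξ₁, hξ₁r⟩ := Finset.mem_image.mp hr₁
  obtain ⟨r₂, hr₂, hr₂'⟩ := Finset.mem_image.mp hr₁'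
  obtain ⟨ξ₂, hξ₂, hξ₂r⟩ := Finset.mem_image.mp hr₂
  have hC := six S h2 hH hMG hv a hai (S.mem_circ.mp hξ₁) (S.mem_circ.mp hξ₂) (S.mem_circ.mp hξ₃)
    (by rw [hξ₁r, hξ₂r, hξ₃r, ← hr₂']; linear_combination (r₃ + r₂) * h2)
  simp only [Finset.mem_insert, Finset.mem_singleton, not_or] at hr₃'
  set f₁ := v (a 0) + σ ξ₁ * v (a 1)
  set f₂ := v (a 2) + σ ξ₂ * v (a 3)
  set f₃ := v (a 4) + σ ξ₃ * v (a 5)
  set w := f₁ • two (a 0) 1 (a 1) ξ₁ + f₂ • two (a 2) 1 (a 3) ξ₂ + f₃ • two (a 4) 1 (a 5) ξ₃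
    with hw
  have hf₃ : f₃ ≠ 0 := fun h => hr₃'.1 (by rw [← hξ₃r, h, zero_mul])
  have h12 : f₁ ≠ 0 ∨ f₂ ≠ 0 := by
    by_contra h
    simp only [not_or, not_not] at h
    refine hr₃'.2 ?_
    rw [h.1, zero_mul] at hξ₁r
    rw [h.2, zero_mul] at hξ₂r
    rw [← hξ₁r, ← hξ₂r] at hr₂'
    linear_combination hr₂' - h2
  have hwa : ∀ i : Fin 6, w (a i) = ![f₁, f₁ * ξ₁, f₂, f₂ * ξ₂, f₃, f₃ * ξ₃] i := by
    intro i
    have d : ∀ j k : Fin 6, (a j = a k) = (j = k) := fun j k => propext hai.eq_iff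
    fin_cases i <;> simp [hw, two, e, Pi.single_apply, d]
  refine ⟨w, hC, ?_, ?_⟩
  · rcases h12 with h | h
    · refine le_trans (le_of_eq ?_) (Finset.card_le_card (s := ({a 0, a 4, a 5} : Finset (Fin n))) ?_)
      · simp [hai.eq_iff]
      · intro i hi
        simp only [Finset.mem_insert, Finset.mem_singleton] at hi
        rcases hi with rfl | rfl | rfl <;>
          simp [hwa, h, hf₃, S.circ_ne_zero hξ₃]
    · refine le_trans (le_of_eq ?_) (Finset.card_le_card (s := ({a 2, a 4, a 5} : Finset (Fin n))) ?_)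
      · simp [hai.eq_iff]
      · intro i hi
        simp only [Finset.mem_insert, Finset.mem_singleton] at hi
        rcases hi with rfl | rfl | rfl <;>
          simp [hwa, h, hf₃, S.circ_ne_zero hξ₃]
  · refine le_trans (Finset.card_le_card (t := univ.image a) fun i hi => ?_)
      (Finset.card_image_le.trans (by simp))
    by_contra hc
    simp only [Finset.mem_image, Finset.mem_univ, true_and, not_exists] at hc
    exact mem_sp.mp hi (by simp [hw, two, e, Pi.single_apply, fun j => Ne.symm (hc j)])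

/-- With room, a swap centre has at most two non-zero coordinates. -/
theorem small_centre (NC : NoCoord M) {v : Fin n → F} (hv : SwapC f M v) {l : Fin n} (hl : v l = 0) :
    (sp v).card ≤ 2 := by
  classical
  have hm : Mono (ut f v 1) := NC _ hv.2 l l 1 (by
    rw [ut_mulVec S.uf hv.1, S.e_f, hl, map_zero, mul_zero, zero_smul, add_zero, one_smul])
  obtain ⟨p, μ, hp⟩ := hm.exists_perm
  by_contra hc
  obtain ⟨a, ha, b, hb, c, hc', hab, hac, hbc⟩ := Finset.two_lt_card.mp (not_le.mp hc)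
  rw [mem_sp] at ha hb hc'
  have h := (hp a).2
  rw [ut_mulVec S.uf hv.1, S.e_f, one_mul] at h
  have eb := congrFun h b
  have ec := congrFun h c
  have hσ : σ (v a) ≠ 0 := (map_ne_zero σ).mpr ha
  by_cases hpb : p a = b
  · simp [e, hpb, hac.symm, hbc.symm] at ec
    exact ec.elim ha hc'
  · simp [e, hab.symm, Ne.symm hpb] at eb
    exact eb.elim ha hb

/-- **Even `q ≥ 4`.** Without coordinate images everything is monomial. -/
theorem all_mono_even (he : Even q) (h4 : 4 ≤ q) (hn : 10 ≤ n)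
    (hH : ∀ h ∈ su f, Mono h → h ∈ M) (hMG : M ≤ su f) (NC : NoCoord M) {g : GL (Fin n) F}
    (hg : g ∈ M) : Mono g := by
  classical
  have h2 := char_two S he
  have hsmall : ∀ a b, a ≠ b → ∀ ξ ∈ S.circ, (sp (g ◆ two a 1 b ξ)).card ≤ 2 := by
    intro a b hab ξ hξ
    have hC := SwapC.map S (swap_mem S h2 hH hab (S.mem_circ.mp hξ)) hg (hMG hg).1
    by_cases hz : ∃ l, (g ◆ two a 1 b ξ) l = 0
    · obtain ⟨l, hl⟩ := hz; exact small_centre S NC hC hl
    simp only [not_exists] at hz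
    obtain ⟨w, hw, hw3, hw6⟩ := shrink S he h4 (by omega) hH hMG hC hz
    obtain ⟨l, -, hl⟩ := Finset.exists_mem_notMem_of_card_lt_card (s := sp w) (t := univ)
      (by rw [Finset.card_univ, Fintype.card_fin]; omega)
    have := small_centre S NC hw (not_not.mp (mt mem_sp.mpr hl))
    omega
  have h4s : ∀ a, (sp (g ◆ e a)).card ≤ 4 := by
    intro a
    obtain ⟨b, -, hb⟩ := Finset.exists_mem_notMem_of_card_lt_card (s := ({a} : Finset (Fin n)))
      (t := univ) (by simp; omega)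
    have hab : a ≠ b := fun h => hb (by simp [h])
    obtain ⟨ξ, hξ, η, hη, hne⟩ := Finset.one_lt_card.mp
      (show 1 < S.circ.card by rw [S.card_circ]; omega)
    refine le_trans (Finset.card_le_card (t := sp (g ◆ two a 1 b ξ) ∪ sp (g ◆ two a 1 b η))
      fun i hi => ?_) ((Finset.card_union_le _ _).trans (by
        have := hsmall a b hab ξ hξ; have := hsmall a b hab η hη; omega))
    rw [Finset.mem_union]
    by_contra h
    simp [two, mulVec_add, mulVec_smul] at h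
    simp at hi
    exact hi ((mul_eq_zero.mp (show (η - ξ) * (g : Matrix (Fin n) (Fin n) F) i a = 0 by
      linear_combination η * h.1 - ξ * h.2)).resolve_left (sub_ne_zero.mpr (Ne.symm hne)))
  have room : ∀ i j : Fin n, ∃ m, (g ◆ e i) m = 0 ∧ (g ◆ e j) m = 0 := fun i j => by
    obtain ⟨m, -, hm⟩ := Finset.exists_mem_notMem_of_card_lt_card (t := univ)
      (s := sp (g ◆ e i) ∪ sp (g ◆ e j)) (by
        have := h4s i; have := h4s j
        have := Finset.card_union_le (sp (g ◆ e i)) (sp (g ◆ e j))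
        rw [Finset.card_univ, Fintype.card_fin]; omega)
    simp only [Finset.mem_union, mem_sp, not_or, not_not] at hm
    exact ⟨m, hm⟩
  obtain ⟨i, -, j, -, k, -, hij, hik, hjk⟩ := Finset.two_lt_card.mp
    (show 2 < (univ : Finset (Fin n)).card by simp; omega)
  obtain ⟨m, h1, h2⟩ := room i j
  obtain ⟨m', h1', h2'⟩ := room i k
  exact mono_of_three S (by omega) hH hMG NC hg hij hik hjk h1 h2 h1' h2'

end Cfsg.Agent.UDec18
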