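import Cfsg.Agent.UDec18.Q2
import Cfsg.Agent.UDec18.Six

/-!
Lines (`k = 1`): conclusion (helper18).
-/

set_option autoImplicit false
set_option linter.unusedSectionVars false

namespace Cfsg.Agent.UDec18

open Matrix Cfsg.Agent.MaxSub Cfsg.Agent.HermStab
open Finset (univ)

variable {F : Type*} [Field F] [Fintype F] {n q : ℕ}
variable {σ : F ≃+* F} {f : (Fin n → F) → (Fin n → F) → F} {M : Subgroup (GL (Fin n) F)}

local notation:73 g:74 " ◆ " x:73 => (Units.val g) *ᵥ x

variable (S : Std q σ f)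
include S

/-- The monomial group and one more element give all transvection groups. -/
theorem centre_of_lines (hn : 10 ≤ n ∨ n = 6 ∧ 3 ≤ q) (hH : ∀ h ∈ su f, Mono h → h ∈ M) (hMG : M ≤ su f)
    {g : GL (Fin n) F} (hg : g ∈ M) (hgH : ¬ Mono g) :
    ∀ v, f v v = 0 → Centre σ f M v := by
  by_cases h2 : q = 2
  · exact centre_q2 S h2 (by omega) hH hMG hg hgH
  have h3 : 3 ≤ q := by have := S.two_le; omega
  by_cases NC : NoCoord M
  · exfalso
    rcases hn with hn | ⟨rfl, -⟩
    swap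
    · exact hgH (all_mono_six S h3 hH hMG NC hg)
    rcases Nat.even_or_odd q with he | ho
    · have h4 : 4 ≤ q := by obtain ⟨m, hm⟩ := he; omega
      exact hgH (all_mono_even S he h4 hn hH hMG NC hg)
    · exact hgH (all_mono_odd S ho h3 hn hH hMG NC hg)
  unfold NoCoord at NC
  simp only [not_forall] at NC
  obtain ⟨g₁, hg₁, i, a, c, hc, hm⟩ := NC
  obtain ⟨g', hg', hg'n, hg'i⟩ := exists_fix S (by omega) hH hMG hg₁ hm hc
  obtain ⟨v, hv0, hvi, hv⟩ := centre_of_fix S h3 hH hMG hg' hg'n hg'i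
  obtain ⟨x, y, α, β, hxy, hα, hβ, hαβ, hC⟩ := root_of_centre S hH hv0 hvi hv
  exact centre_all S (roots_of_root S (by omega) hH hxy hα hβ hαβ hC) fun h => absurd h h2

end Cfsg.Agent.UDec18
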