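import Cfsg.Agent.UDec18.Torus

/-!
Lines (`k = 1`), odd `q`: involutions with a two-dimensional eigenspace for `-1` (helper18).
-/

set_option autoImplicit false
set_option linter.unusedSectionVars false

namespace Cfsg.Agent.UDec18

open Matrix Cfsg.Agent.MaxSub Cfsg.Agent.HermStab
open Finset (univ)

variable {F : Type*} [Field F] [Fintype F] {n q : ℕ}
variable {σ : F ≃+* F} {f : (Fin n → F) → (Fin n → F) → F} {M : Subgroup (GL (Fin n) F)}

local notation:73 g:74 " ◆ " x:73 => (Units.val g) *ᵥ x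

theorem mono_ap_coord {z : GL (Fin n) F} {π : Equiv.Perm (Fin n)} {μ : Fin n → F}
    (hz : ∀ a, z ◆ e a = μ a • e (π a)) (w : Fin n → F) (a : Fin n) :
    (z ◆ w) (π a) = μ a * w a := by
  rw [ap_eq_sum, Finset.sum_apply, Finset.sum_eq_single a (fun c _ hc => by
    simp [hz, e, π.injective.ne hc.symm]) (by simp)]
  simp [hz, e, mul_comm]

theorem exists_comb (α β : Fin 3 → F) :
    ∃ c : Fin 3 → F, c ≠ 0 ∧ ∑ i, c i * α i = 0 ∧ ∑ i, c i * β i = 0 := by
  have h : ¬ LinearIndependent F (fun i : Fin 3 => ![α i, β i]) := fun h => by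
    have := h.fintype_card_le_finrank
    simp at this
  obtain ⟨c, hc, i, hi⟩ := Fintype.not_linearIndependent_iff.mp h
  refine ⟨c, fun h' => hi (congrFun h' i), ?_, ?_⟩
  · simpa using congrFun hc 0
  · simpa using congrFun hc 1

/-- Vectors on the orbits of an involution, seen injectively by two functionals. -/
theorem orbit_bound {π : Fin n → Fin n} (hπ : ∀ a, π (π a) = a) (T : Finset (Fin n))
    (w : Fin n → Fin n → F) (hwa : ∀ a ∈ T, w a a ≠ 0)
    (hws : ∀ a ∈ T, ∀ b, b ≠ a → b ≠ π a → w a b = 0) (φ ψ : Fin n → F)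
    (hinj : ∀ a b c, a ∈ T → b ∈ T → c ∈ T → ∀ k : Fin 3 → F,
      k 0 * φ a + k 1 * φ b + k 2 * φ c = 0 → k 0 * ψ a + k 1 * ψ b + k 2 * ψ c = 0 →
      k 0 • w a + k 1 • w b + k 2 • w c = 0) :
    T.card ≤ 4 := by
  classical
  by_contra hc
  obtain ⟨a, ha⟩ := Finset.card_pos.mp (show 0 < T.card by omega)
  obtain ⟨b, hb, hb'⟩ := Finset.exists_mem_notMem_of_card_lt_card (s := ({a, π a} : Finset (Fin n)))
    (t := T) (Finset.card_le_two.trans_lt (by omega))
  obtain ⟨c, hc', hc''⟩ := Finset.exists_mem_notMem_of_card_lt_card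
    (s := ({a, π a, b, π b} : Finset (Fin n))) (t := T) (Finset.card_le_four.trans_lt (by omega))
  simp only [Finset.mem_insert, Finset.mem_singleton, not_or] at hb' hc''
  obtain ⟨k, hk0, hk1, hk2⟩ := exists_comb ![φ a, φ b, φ c] ![ψ a, ψ b, ψ c]
  simp only [Fin.sum_univ_three, cons_val_zero, cons_val_one, cons_val_two, head_cons,
    tail_cons] at hk1 hk2
  have h := hinj a b c ha hb hc' k hk1 hk2
  have ne : ∀ {x y : Fin n}, y ≠ π x → x ≠ π y := fun h e => h (by rw [e, hπ])
  have ea := congrFun h a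
  have eb := congrFun h b
  have ec := congrFun h c
  simp only [Pi.add_apply, Pi.smul_apply, Pi.zero_apply, smul_eq_mul] at ea eb ec
  rw [hws b hb a (Ne.symm hb'.1) (ne hb'.2), hws c hc' a (Ne.symm hc''.1) (ne hc''.2.1)] at ea
  rw [hws a ha b hb'.1 hb'.2, hws c hc' b (Ne.symm hc''.2.2.1) (ne hc''.2.2.2)] at eb
  rw [hws a ha c hc''.1 hc''.2.1, hws b hb c hc''.2.2.1 hc''.2.2.2] at ec
  simp [hwa a ha] at ea
  simp [hwa b hb] at eb
  simp [hwa c hc'] at ec
  refine hk0 (funext fun i => ?_)
  fin_cases i <;> simp [ea, eb, ec]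

theorem swap_of_three {π : Equiv.Perm (Fin n)} (hπ : ∀ a, π (π a) = a) (hne : π ≠ 1)
    {T : Finset (Fin n)} (hT : T.card = 3) (hout : ∀ a, a ∉ T → π a = a) :
    ∃ c c', c ≠ c' ∧ π = Equiv.swap c c' ∧ c ∈ T ∧ c' ∈ T := by
  classical
  obtain ⟨c, hc⟩ : ∃ c, π c ≠ c := by
    by_contra h
    exact hne (Equiv.ext fun a => not_not.mp fun ha => h ⟨a, ha⟩)
  have hcT : c ∈ T := not_not.mp fun h => hc (hout c h)
  have hcT' : π c ∈ T := not_not.mp fun h => hc (π.injective (hout _ h))
  refine ⟨c, π c, Ne.symm hc, Equiv.ext fun a => ?_, hcT, hcT'⟩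
  by_cases h1 : a = c
  · subst h1; simp
  by_cases h2 : a = π c
  · subst h2; simp [hπ]
  rw [Equiv.swap_apply_of_ne_of_ne h1 h2]
  by_contra h3
  have ha : a ∈ T := not_not.mp fun h => h3 (hout a h)
  have ha' : π a ∈ T := not_not.mp fun h => h3 (π.injective (hout _ h))
  have hsub : ({c, π c, a, π a} : Finset (Fin n)) ⊆ T := by
    simp [Finset.insert_subset_iff, hcT, hcT', ha, ha']
  have h4 : π a ≠ c := fun h => h2 (by rw [← hπ a, h])
  have h5 : π a ≠ π c := π.injective.ne h1
  have := Finset.card_le_card hsub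
  rw [Finset.card_insert_of_notMem (by simp [Ne.symm hc, Ne.symm h1, Ne.symm h4]),
    Finset.card_insert_of_notMem (by simp [Ne.symm h2, Ne.symm h5]),
    Finset.card_insert_of_notMem (by simp [Ne.symm h3]), Finset.card_singleton, hT] at this
  omega

/-- `x` negates `span(u, v)` and fixes its orthogonal complement. -/
def Refl (f : (Fin n → F) → (Fin n → F) → F) (x : GL (Fin n) F) (u v : Fin n → F) : Prop :=
  f u u = 1 ∧ f v v = 1 ∧ f u v = 0 ∧
    ∀ w, x ◆ w = w - (2 * f w u) • u - (2 * f w v) • v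

variable (S : Std q σ f)
include S

theorem two_ne (ho : Odd q) : (2 : F) ≠ 0 := by
  intro h
  have := FiniteField.cast_card_eq_zero (K := F)
  rw [S.card] at this
  obtain ⟨m, rfl⟩ := ho
  push_cast at this
  exact one_ne_zero (α := F) (by linear_combination this - (2 * m * m + 2 * m : F) * h)

theorem Refl.fix {x : GL (Fin n) F} {u v w : Fin n → F} (hx : Refl f x u v) (hu : f w u = 0)
    (hv : f w v = 0) : x ◆ w = w := by
  rw [hx.2.2.2, hu, hv]; simp

theorem Refl.neg {x : GL (Fin n) F} {u v : Fin n → F} (hx : Refl f x u v) :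
    x ◆ u = -u ∧ x ◆ v = -v := by
  have hvu : f v u = 0 := hswap_zero S.uf hx.2.2.1
  constructor
  · rw [hx.2.2.2, hx.1, hx.2.2.1]; module
  · rw [hx.2.2.2, hx.2.1, hvu]; module

theorem Refl.span (ho : Odd q) {x : GL (Fin n) F} {u v p : Fin n → F} (hx : Refl f x u v)
    (hp : x ◆ p = -p) : p = f p u • u + f p v • v := by
  rw [hx.2.2.2] at hp
  apply smul_right_injective _ (two_ne S ho)
  show (2 : F) • p = (2 : F) • _
  have : (2 : F) • p = -((p - (2 * f p u) • u - (2 * f p v) • v) - (-p)) + (2 : F) • p := by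
    rw [hp]; simp
  rw [this]
  module

theorem Refl.neg_of_span {x : GL (Fin n) F} {u v : Fin n → F} (hx : Refl f x u v) (α β : F) :
    x ◆ (α • u + β • v) = -(α • u + β • v) := by
  rw [mulVec_add, mulVec_smul, mulVec_smul, (Refl.neg S hx).1, (Refl.neg S hx).2]; module

theorem Refl.sq {x : GL (Fin n) F} {u v : Fin n → F} (hx : Refl f x u v) : x * x = 1 :=
  gl_ext fun w => by
    rw [ap_mul, hx.2.2.2 w, mulVec_sub, mulVec_sub, mulVec_smul, mulVec_smul,
      (Refl.neg S hx).1, (Refl.neg S hx).2, hx.2.2.2 w, Units.val_one, one_mulVec]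
    module

/-- No zero rows. -/
theorem Refl.rows (NC : NoCoord M) {x : GL (Fin n) F} {u v : Fin n → F} (hx : Refl f x u v)
    (hxM : x ∈ M) (hxn : ¬ Mono x) (l : Fin n) : u l ≠ 0 ∨ v l ≠ 0 := by
  by_contra h
  simp only [not_or, not_not] at h
  refine hxn (NC x hxM l l 1 ?_)
  rw [one_smul]
  exact Refl.fix S hx (by rw [S.e_f, h.1, map_zero]) (by rw [S.e_f, h.2, map_zero])

/-- The centraliser of a diagonal involution in `M` is monomial. -/
theorem mono_of_comm (h3 : 3 ≤ q) (hn : 10 ≤ n) (hH : ∀ h ∈ su f, Mono h → h ∈ M)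
    (hMG : M ≤ su f) (NC : NoCoord M) {g z : GL (Fin n) F} (hg : g ∈ M) (hc : g * z = z * g)
    {s : Fin n → F} (hz : ∀ a, z ◆ e a = s a • e a)
    (hns : ∃ a b, s a ≠ s b) : Mono g := by
  classical
  have key : ∀ a b, s b ≠ s a → (g ◆ e a) b = 0 := fun a b hab => by
    have h := congrArg (fun y : GL (Fin n) F => (y ◆ e a) b) hc
    simp only [ap_mul, hz, mulVec_smul, Pi.smul_apply, smul_eq_mul] at h
    have h' : (z ◆ (g ◆ e a)) ((1 : Equiv.Perm (Fin n)) b) = s b * (g ◆ e a) b :=
      mono_ap_coord (π := 1) (fun a => hz a) _ b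
    rw [Equiv.Perm.one_apply] at h'
    rw [h'] at h
    exact (mul_eq_zero.mp (show (s a - s b) * (g ◆ e a) b = 0 by linear_combination h)).resolve_left
      (sub_ne_zero.mpr (Ne.symm hab))
  obtain ⟨a, b, hab⟩ := hns
  set P := univ.filter fun c => s c = s a with hP
  obtain ⟨V, m, hV, hm⟩ : ∃ (V : Finset (Fin n)) (m : Fin n), 3 ≤ V.card ∧
      ∀ c ∈ V, s m ≠ s c := by
    by_cases h : 3 ≤ P.card
    · exact ⟨P, b, h, fun c hc => by
        rw [(Finset.mem_filter.mp hc).2]; exact Ne.symm hab⟩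
    · refine ⟨Pᶜ, a, ?_, fun c hc e => Finset.mem_compl.mp hc (by simp [hP, e])⟩
      rw [Finset.card_compl, Fintype.card_fin]; omega
  obtain ⟨i, hi, j, hj, k, hk, hij, hik, hjk⟩ := Finset.two_lt_card.mp hV
  exact mono_of_three S h3 hH hMG NC hg hij hik hjk (key i m (hm i hi)) (key j m (hm j hj))
    (key i m (hm i hi)) (key k m (hm k hk))

/-- The involution commuting with `x` and with the sign change on `W`. -/
theorem exists_z (ho : Odd q) (h3 : 3 ≤ q) (hn : 10 ≤ n) (hH : ∀ h ∈ su f, Mono h → h ∈ M)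
    (hMG : M ≤ su f) (NC : NoCoord M) {x : GL (Fin n) F} {u v : Fin n → F}
    (hx : Refl f x u v) (hxM : x ∈ M) (hxn : ¬ Mono x) {W : Finset (Fin n)} (hW : W.card = 4) :
    ∃ (z : GL (Fin n) F) (π : Equiv.Perm (Fin n)) (μ : Fin n → F),
      z ∈ M ∧ (∀ a, z ◆ e a = μ a • e (π a)) ∧ π ≠ 1 ∧ (∀ a, π (π a) = a) ∧
      (∀ a, μ a * μ (π a) = 1) ∧ (∀ a, π a ∈ W ↔ a ∈ W) ∧ x * z = z * x ∧ z * z = 1 ∧
      ∀ w, f w u = 0 → f w v = 0 → (∀ a ∈ W, w a = 0) → z ◆ w = w := by
  classical
  have h2 := two_ne S ho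
  set s : Fin n → F := fun a => if a ∈ W then -1 else 1 with hs
  obtain ⟨y, hyi, hye, hyd⟩ := S.exists_mono 1 s (fun a => by
    simp only [hs]; split_ifs <;> simp)
  simp only [Equiv.Perm.coe_one, id_eq] at hye
  have hprod : ∏ a, s a = 1 := by
    rw [hs, Finset.prod_ite]; simp [hW]; norm_num
  have hyM : y ∈ M := hH y ⟨hyi, (mem_special_iff S).mpr (by simpa [hprod] using hyd)⟩
    (mono_of_perm 1 fun a => ⟨_, hye a⟩)
  have hy2 : y * y = 1 := gl_ext_e fun a => by
    rw [ap_mul, hye, mulVec_smul, hye, smul_smul, Units.val_one, one_mulVec]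
    simp only [hs]; split_ifs <;> simp
  have hx2 := Refl.sq S hx
  have hxi : x⁻¹ = x := inv_eq_of_mul_eq_one_right hx2
  have hyi' : y⁻¹ = y := inv_eq_of_mul_eq_one_right hy2
  set r := x * y with hr
  have hsc : SemiconjBy x r r⁻¹ := by
    show x * (x * y) = (x * y)⁻¹ * x
    rw [_root_.mul_inv_rev, hxi, hyi', ← mul_assoc, hx2, one_mul, mul_assoc, hx2, mul_one]
  have hsc' : ∀ k : ℕ, x * r ^ k = (r ^ k)⁻¹ * x := fun k => by
    rw [← inv_pow]; exact (hsc.pow_right k).eq
  have heven : Even (orderOf r) := by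
    by_contra hodd
    obtain ⟨m, hm⟩ := Nat.not_even_iff_odd.mp hodd
    have h1 : r ^ (2 * m) = r⁻¹ := eq_inv_of_mul_eq_one_left (by
      rw [← pow_succ, ← hm, pow_orderOf_eq_one])
    have hconj : r ^ m * x * (r ^ m)⁻¹ = y := by
      have : x * (r ^ m)⁻¹ = r ^ m * x := by
        rw [← mul_right_inj (r ^ m)⁻¹, ← mul_assoc, ← hsc', mul_assoc, mul_inv_cancel,
          mul_one, inv_mul_cancel_left]
      rw [mul_assoc, this, ← mul_assoc, ← pow_add, ← two_mul, h1, hr, _root_.mul_inv_rev, hxi,
        hyi', mul_assoc, hx2, mul_one]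
    have htr := Matrix.trace_units_conj (r ^ m) (x : Matrix (Fin n) (Fin n) F)
    rw [← Units.val_mul, ← Units.val_mul, hconj] at htr
    have hxd : ∀ a, (x : Matrix (Fin n) (Fin n) F) a a =
        1 - 2 * (u a * σ (u a)) - 2 * (v a * σ (v a)) := fun a => by
      have := congrFun (hx.2.2.2 (e a)) a
      simp only [S.e_f] at this
      simp [e] at this
      rw [this]; ring
    have hyd' : ∀ a, (y : Matrix (Fin n) (Fin n) F) a a = s a := fun a => by
      have := congrFun (hye a) a
      simpa [e] using this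
    simp only [Matrix.trace, Matrix.diag_apply, hxd, hyd', Finset.sum_sub_distrib,
      ← Finset.mul_sum, ← S.self_sum, hx.1, hx.2.1] at htr
    rw [hs, Finset.sum_ite] at htr
    have hf : (univ.filter fun a => a ∉ W).card + 4 = n := by
      rw [← hW]
      rw [show (univ.filter fun a => a ∉ W) = Wᶜ by ext; simp, Finset.card_compl, Fintype.card_fin]
      have := Finset.card_le_univ W
      rw [Fintype.card_fin] at this
      omega
    simp [hW] at htr
    have hf' : ((univ.filter fun a => a ∉ W).card : F) + 4 = n := by exact_mod_cast congrArg Nat.cast hf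
    exact mul_ne_zero h2 h2 (by linear_combination hf' - htr)
  obtain ⟨m, hm⟩ := heven
  set z := r ^ m with hz
  have hz1 : z ≠ 1 := pow_ne_one_of_lt_orderOf (by
    have := orderOf_pos r; omega) (by have := orderOf_pos r; omega)
  have hz2 : z * z = 1 := by rw [hz, ← pow_add, ← hm, pow_orderOf_eq_one]
  have hzi : z⁻¹ = z := inv_eq_of_mul_eq_one_right hz2
  have hxz : x * z = z * x := by rw [hz, hsc', ← hz, hzi]
  have hzr : z * r = r * z := by rw [hz, ← pow_succ, ← pow_succ']
  have hzy : z * y = y * z := by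
    have hxr : x * r = y := by rw [hr, ← mul_assoc, hx2, one_mul]
    have h : z * (x * r) = x * r * z := by
      rw [← mul_assoc z x r, ← hxz, mul_assoc x z r, hzr, ← mul_assoc x r z]
    rwa [hxr] at h
  have hzM : z ∈ M := pow_mem (mul_mem hxM hyM) m
  obtain ⟨a0, ha0⟩ := Finset.card_pos.mp (show 0 < W.card by omega)
  obtain ⟨b0, -, hb0⟩ := Finset.exists_mem_notMem_of_card_lt_card (s := W) (t := univ)
    (by simp; omega)
  have hne1 : (1 : F) ≠ -1 := fun h => h2 (by linear_combination h)
  obtain ⟨π, μ, hzμ⟩ := (mono_of_comm S h3 hn hH hMG NC hzM hzy hye ⟨a0, b0, by simp [hs, ha0, hb0, hne1.symm]⟩).exists_perm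
  have hze : ∀ a, z ◆ e a = μ a • e (π a) := fun a => (hzμ a).2
  have hzz : ∀ a, π (π a) = a ∧ μ a * μ (π a) = 1 := fun a => by
    have h : (z * z) ◆ e a = e a := by rw [hz2, Units.val_one, one_mulVec]
    rw [ap_mul, hze, mulVec_smul, hze, smul_smul] at h
    have hp : π (π a) = a := by
      by_contra hp
      have := congrFun h (π (π a))
      simp [e, hp] at this
      rcases this with h' | h'
      · exact (hzμ a).1 h'
      · exact (hzμ _).1 h'
    rw [hp] at h
    exact ⟨hp, by simpa [e] using congrFun h a⟩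
  have hW' : ∀ a, π a ∈ W ↔ a ∈ W := fun a => by
    have h := congrArg (fun g : GL (Fin n) F => (g ◆ e a) (π a)) hzy
    simp only [ap_mul, hye, hze, mulVec_smul] at h
    simp [e] at h
    have hs' : s a = s (π a) := mul_right_cancel₀ (hzμ a).1 (by linear_combination h)
    simp only [hs] at hs'
    by_cases h1 : a ∈ W <;> by_cases h2 : π a ∈ W <;> simp [h1, h2, hne1, hne1.symm] at hs' ⊢
  have hfix : ∀ w, f w u = 0 → f w v = 0 → (∀ a ∈ W, w a = 0) → z ◆ w = w := by
    intro w hu hv hw
    have hyw : y ◆ w = w := by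
      funext a
      rw [show (y ◆ w) a = s a * w a from mono_ap_coord (π := 1) (fun a => hye a) w a]
      by_cases h : a ∈ W
      · simp [hw a h]
      · simp [hs, h]
    have hk : ∀ k : ℕ, (r ^ k) ◆ w = w := by
      intro k
      induction k with
      | zero => rw [pow_zero, Units.val_one, one_mulVec]
      | succ k ih => rw [pow_succ, ap_mul, hr, ap_mul, hyw, Refl.fix S hx hu hv, ← hr, ih]
    exact hk m
  refine ⟨z, π, μ, hzM, hze, fun hπ => ?_, fun a => (hzz a).1, fun a => (hzz a).2, hW', hxz, hz2,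
    hfix⟩
  have hzd : ∀ a, z ◆ e a = μ a • e a := fun a => by rw [hze, hπ]; rfl
  have hμ : ∀ a, μ a = 1 ∨ μ a = -1 := fun a => by
    have := (hzz a).2
    rw [hπ, Equiv.Perm.one_apply] at this
    exact mul_self_eq_one_iff.mp this
  by_cases hns : ∃ a b, μ a ≠ μ b
  · exact hxn (mono_of_comm S h3 hn hH hMG NC hxM hxz hzd hns)
  simp only [not_exists, not_not] at hns
  rcases hμ a0 with hμ0 | hμ0
  · exact hz1 (gl_ext_e fun a => by
      rw [hzd, hns a a0, hμ0, one_smul, Units.val_one, one_mulVec])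
  obtain ⟨b, hb, c, hc, d, hd, hbc, hbd, hcd⟩ := Finset.two_lt_card.mp
    (show 2 < Wᶜ.card by rw [Finset.card_compl, Fintype.card_fin]; omega)
  obtain ⟨k, hk0, hk1, hk2⟩ := exists_comb ![σ (u b), σ (u c), σ (u d)] ![σ (v b), σ (v c), σ (v d)]
  simp only [Fin.sum_univ_three, cons_val_zero, cons_val_one, cons_val_two, head_cons,
    tail_cons] at hk1 hk2
  rw [Finset.mem_compl] at hb hc hd
  set w : Fin n → F := k 0 • e b + k 1 • e c + k 2 • e d with hw
  have hwfix := hfix w (by simp only [hw, S.uf.add_left, S.uf.smul_left, S.e_f]; exact hk1)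
    (by simp only [hw, S.uf.add_left, S.uf.smul_left, S.e_f]; exact hk2) (fun a ha => by
      simp [hw, e, show a ≠ b from fun h => hb (h ▸ ha), show a ≠ c from fun h => hc (h ▸ ha),
        show a ≠ d from fun h => hd (h ▸ ha)])
  have hwneg : z ◆ w = -w := by
    simp only [hw, mulVec_add, mulVec_smul, hzd, hns _ a0, hμ0]; module
  have hw0 : w = 0 := by
    apply smul_right_injective _ h2
    show (2 : F) • w = (2 : F) • (0 : Fin n → F)
    rw [smul_zero, two_smul]; exact add_eq_zero_iff_eq_neg.mpr (hwfix.symm.trans hwneg)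
  refine hk0 (funext fun i => ?_)
  have e1 := congrFun hw0 b
  have e2 := congrFun hw0 c
  have e3 := congrFun hw0 d
  simp [hw, e, hbc, hbd, hcd, hbc.symm, hbd.symm, hcd.symm] at e1 e2 e3
  fin_cases i <;> simp [e1, e2, e3]

theorem false_of_swap (ho : Odd q) {z : GL (Fin n) F} (hz : z ∈ su f) {π : Equiv.Perm (Fin n)}
    {μ : Fin n → F} (hze : ∀ a, z ◆ e a = μ a • e (π a)) {c c' : Fin n} (hcc : c ≠ c')
    (hπ : π = Equiv.swap c c') (hprod : ∏ a, μ a = 1) : False := by
  classical
  obtain ⟨h, -, hhe, hhd⟩ := S.exists_mono π (fun a => μ (π.symm a))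
    (fun a => norm_coeff S hz.1 (hze _))
  simp only [Equiv.symm_apply_apply] at hhe
  have : h = z := gl_ext_e fun a => by rw [hhe, hze]
  rw [this, (mem_special_iff S).mp hz.2, Equiv.prod_comp π.symm μ, hprod, hπ,
    Equiv.Perm.sign_swap hcc] at hhd
  simp at hhd
  exact two_ne S ho (by linear_combination hhd)

/-- Two vectors of the negated plane vanishing at one coordinate are proportional. -/
theorem Refl.prop_of_zero (ho : Odd q) {x : GL (Fin n) F} {u v p p' : Fin n → F}
    (hx : Refl f x u v) {b : Fin n} (hb : u b ≠ 0 ∨ v b ≠ 0) (hp : x ◆ p = -p)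
    (hp' : x ◆ p' = -p') (h0 : p b = 0) (h0' : p' b = 0) (hne : p' ≠ 0) :
    ∃ k : F, p = k • p' := by
  obtain ⟨α, β, rfl⟩ : ∃ α β : F, p = α • u + β • v := ⟨_, _, Refl.span S ho hx hp⟩
  obtain ⟨γ, δ, rfl⟩ : ∃ γ δ : F, p' = γ • u + δ • v := ⟨_, _, Refl.span S ho hx hp'⟩
  simp at h0 h0'
  have hD : α * δ = β * γ := by
    rcases hb with hb | hb
    · exact mul_right_cancel₀ hb (by linear_combination δ * h0 - β * h0')
    · exact mul_right_cancel₀ hb (by linear_combination α * h0' - γ * h0)
  by_cases hγ : γ = 0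
  · have hδ : δ ≠ 0 := fun h => hne (by simp [hγ, h])
    have hα : α = 0 := mul_right_cancel₀ hδ (by rw [hD, hγ]; ring)
    exact ⟨β / δ, by simp [hγ, hα, smul_smul, div_mul_cancel₀ _ hδ]⟩
  · refine ⟨α / γ, ?_⟩
    rw [smul_add, smul_smul, smul_smul, div_mul_cancel₀ _ hγ,
      show α / γ * δ = β by field_simp; linear_combination hD]

/-- The eigenvectors of `z` in the plane, given an isolated coordinate in `W`. -/
theorem split_plane (ho : Odd q) (h3 : 3 ≤ q) (hn : 10 ≤ n)
    (hH : ∀ h ∈ su f, Mono h → h ∈ M) (hMG : M ≤ su f) (NC : NoCoord M) {x : GL (Fin n) F}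
    {u v : Fin n → F} (hx : Refl f x u v) (hxM : x ∈ M) (hxn : ¬ Mono x) {W : Finset (Fin n)}
    (hW : W.card = 4) {d : Fin n} (hd : d ∈ W)
    (hiso : ∀ a ∈ W, a ≠ d → u d * v a ≠ u a * v d) :
    ∃ (z : GL (Fin n) F) (π : Equiv.Perm (Fin n)) (μ : Fin n → F) (p r : Fin n → F),
      z ∈ M ∧ (∀ a, z ◆ e a = μ a • e (π a)) ∧ π ≠ 1 ∧ (∀ a, π (π a) = a) ∧
      (∀ a, μ a * μ (π a) = 1) ∧ (∀ a, π a ∈ W ↔ a ∈ W) ∧
      p ≠ 0 ∧ r ≠ 0 ∧ x ◆ p = -p ∧ x ◆ r = -r ∧ f r p = 0 ∧ z ◆ p = -p ∧ z ◆ r = r ∧
      ∀ b c, b ∉ W → c ∉ W → z ◆ e b ≠ e b → z ◆ e c ≠ e c → c = b ∨ c = π b := by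
  classical
  have h2 := two_ne S ho
  obtain ⟨z, π, μ, hzM, hze, hπ1, hπ, hμ, hW', hxz, hz2, hfix⟩ :=
    exists_z S ho h3 hn hH hMG NC hx hxM hxn hW
  have hzi := (hMG hzM).1
  have rows := Refl.rows S NC hx hxM hxn
  have hzz : ∀ w, z ◆ z ◆ w = w := fun w => by
    rw [← ap_mul, hz2, Units.val_one, one_mulVec]
  have neg0 : ∀ w : Fin n → F, w = -w → w = 0 := fun w h => funext fun a =>
    (mul_eq_zero.mp (show (2 : F) * w a = 0 by
      have := congrFun h a; simp at this; linear_combination this)).resolve_left h2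
  have hxzu : ∀ w, x ◆ w = -w → x ◆ z ◆ w = -(z ◆ w) := fun w hw => by
    rw [← ap_mul, hxz, ap_mul, hw, mulVec_neg]
  set w : Fin n → Fin n → F := fun b => e b - z ◆ e b with hw
  have hwz : ∀ b, z ◆ w b = -w b := fun b => by
    simp only [hw, mulVec_sub, hzz, neg_sub]
  have hwW : ∀ b, b ∉ W → ∀ a ∈ W, w b a = 0 := fun b hb a ha => by
    have h1 : a ≠ b := fun h => hb (h ▸ ha)
    have h2 : a ≠ π b := fun h => hb ((hW' b).mp (h ▸ ha))
    simp [hw, hze, e, h1, h2]
  have hws : ∀ b a, a ≠ b → a ≠ π b → w b a = 0 := fun b a h1 h2 => by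
    simp [hw, hze, e, h1, h2]
  have hwb : ∀ b, z ◆ e b ≠ e b → w b b ≠ 0 := fun b hb h => by
    by_cases hp : π b = b
    · refine hb ?_
      simp [hw, hze, e, hp] at h
      rw [hze, hp, ← sub_eq_zero.mp h, one_smul]
    · simp [hw, hze, e, Ne.symm hp] at h
  have hperp : ∀ K, f K u = 0 → f K v = 0 → (∀ a ∈ W, K a = 0) → z ◆ K = -K → K = 0 :=
    fun K h1 h2 h3 h4 => neg0 K ((hfix K h1 h2 h3).symm.trans h4)
  obtain ⟨p, hp0, hxp, hzp⟩ : ∃ p, p ≠ 0 ∧ x ◆ p = -p ∧ z ◆ p = -p := by
    have gen : ∀ w, x ◆ w = -w → z ◆ w ≠ w → ∃ p, p ≠ 0 ∧ x ◆ p = -p ∧ z ◆ p = -p :=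
      fun w hw hne => ⟨w - z ◆ w, sub_ne_zero.mpr (Ne.symm hne), by
        rw [mulVec_sub, hxzu w hw, hw]; abel, by rw [mulVec_sub, hzz]; abel⟩
    by_cases h1 : z ◆ u = u
    swap; · exact gen u (Refl.neg S hx).1 h1
    by_cases h1' : z ◆ v = v
    swap; · exact gen v (Refl.neg S hx).2 h1'
    exfalso
    have hfx : ∀ b, b ∉ W → π b = b ∧ μ b = 1 := by
      intro b hb
      have hK : w b = 0 := hperp _ (by
          rw [hw, hsub_left S.uf]
          conv_lhs => arg 2; rw [← h1, mem_isom.mp hzi]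
          rw [sub_self]) (by
          rw [hw, hsub_left S.uf]
          conv_lhs => arg 2; rw [← h1', mem_isom.mp hzi]
          rw [sub_self]) (hwW b hb) (hwz b)
      have h := sub_eq_zero.mp hK
      rw [hze] at h
      have hp : π b = b := by
        by_contra hp
        have := congrFun h b
        simp [e, Ne.symm hp] at this
      rw [hp] at h
      exact ⟨hp, by simpa [e] using (congrFun h b).symm⟩
    have cu : ∀ a, μ a * u a = u (π a) := fun a => by rw [← mono_ap_coord hze u a, h1]
    have cv : ∀ a, μ a * v a = v (π a) := fun a => by rw [← mono_ap_coord hze v a, h1']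
    have hfp : ∀ a, π a = a → μ a = 1 := fun a ha => by
      rcases rows a with h | h
      · exact mul_right_cancel₀ h (by rw [one_mul, cu, ha])
      · exact mul_right_cancel₀ h (by rw [one_mul, cv, ha])
    have hdd : π d = d := by
      by_contra h
      refine hiso _ ((hW' d).mpr hd) h ?_
      rw [← cu, ← cv]; ring
    obtain ⟨c, c', hcc, hsw, -, -⟩ := swap_of_three hπ hπ1 (T := W.erase d)
      (by rw [Finset.card_erase_of_mem hd, hW]) (fun a ha => by
        by_cases h : a ∈ W
        · rw [show a = d from not_not.mp fun h' => ha (Finset.mem_erase.mpr ⟨h', h⟩)]; exact hdd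
        · exact (hfx a h).1)
    refine false_of_swap S ho (hMG hzM) hze hcc hsw ?_
    rw [Fintype.prod_eq_mul c c' hcc (fun a ha => hfp a (by
      rw [hsw, Equiv.swap_apply_of_ne_of_ne ha.1 ha.2]))]
    have := hμ c
    rwa [hsw, Equiv.swap_apply_left] at this
  obtain ⟨r, hr0, hxr, hzr⟩ : ∃ r, r ≠ 0 ∧ x ◆ r = -r ∧ z ◆ r = r := by
    have gen : ∀ w, x ◆ w = -w → z ◆ w ≠ -w → ∃ r, r ≠ 0 ∧ x ◆ r = -r ∧ z ◆ r = r :=
      fun w hw hne => ⟨w + z ◆ w, fun h => hne (eq_neg_of_add_eq_zero_right h), by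
        rw [mulVec_add, hxzu w hw, hw]; abel, by rw [mulVec_add, hzz]; abel⟩
    by_cases h1 : z ◆ u = -u
    swap; · exact gen u (Refl.neg S hx).1 h1
    by_cases h1' : z ◆ v = -v
    swap; · exact gen v (Refl.neg S hx).2 h1'
    exfalso
    have hmoved : ∀ b, z ◆ e b ≠ e b := fun b hb => by
      have key : ∀ y, z ◆ y = -y → y b = 0 := fun y hy => by
        refine (mul_eq_zero.mp (show (2 : F) * y b = 0 by
          have := mem_isom.mp hzi y (e b)
          rw [hy, hb, ← neg_one_smul F y, S.uf.smul_left, S.f_e] at this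
          linear_combination -this)).resolve_left h2
      exact (rows b).elim (fun h => h (key u h1)) (fun h => h (key v h1'))
    have := orbit_bound (F := F) hπ Wᶜ w (fun b _ => hwb b (hmoved b))
      (fun b _ a => hws b a) (fun b => f (w b) u) (fun b => f (w b) v)
      (fun a b c ha hb hc k hk1 hk2 => hperp _
        (by simp only [S.uf.add_left, S.uf.smul_left]; exact hk1)
        (by simp only [S.uf.add_left, S.uf.smul_left]; exact hk2)
        (fun i hi => by
          simp [hwW a (Finset.mem_compl.mp ha) i hi, hwW b (Finset.mem_compl.mp hb) i hi,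
            hwW c (Finset.mem_compl.mp hc) i hi])
        (by simp only [mulVec_add, mulVec_smul, hwz]; module))
    rw [Finset.card_compl, Fintype.card_fin, hW] at this
    omega
  refine ⟨z, π, μ, p, r, hzM, hze, hπ1, hπ, hμ, hW', hp0, hr0, hxp, hxr, ?_, hzp, hzr, ?_⟩
  · have := mem_isom.mp hzi r p
    rw [hzr, hzp, ← neg_one_smul F p, hsmul_right S.uf, map_neg, map_one] at this
    exact (mul_eq_zero.mp (show (2 : F) * f r p = 0 by linear_combination -this)).resolve_left h2
  intro b c hb hc hbm hcm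
  by_contra hne
  simp only [not_or] at hne
  have ep := Refl.span S ho hx hxp
  have er := Refl.span S ho hx hxr
  set α := f p u
  set β := f p v
  set γ := f r u
  set δ := f r v
  have hD : α * δ - β * γ ≠ 0 := fun hD => by
    have e1 : δ • p - β • r = 0 := by
      rw [ep, er]
      linear_combination (norm := module) hD • u
    have e2 : γ • p - α • r = 0 := by
      rw [ep, er]
      linear_combination (norm := module) (-hD) • v
    have g : ∀ a c : F, a • p - c • r = 0 → a = 0 ∧ c = 0 := fun a c h => by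
      have h' := congrArg (fun y => z ◆ y) h
      simp only [mulVec_sub, mulVec_smul, hzp, hzr, mulVec_zero] at h'
      have hp' : a • p = 0 := neg0 _ (by linear_combination (norm := module) h - h')
      have ha := (smul_eq_zero.mp hp').resolve_right hp0
      rw [ha, zero_smul, zero_sub, neg_eq_zero] at h
      exact ⟨ha, (smul_eq_zero.mp h).resolve_right hr0⟩
    obtain ⟨hδ, hβ⟩ := g _ _ e1
    obtain ⟨hγ, hα⟩ := g _ _ e2
    exact hp0 (by rw [ep, hα, hβ]; simp)
  have hperp2 : ∀ K, f K p = 0 → f K r = 0 → f K u = 0 ∧ f K v = 0 := fun K h1 h2 => by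
    rw [ep, hadd_right S.uf, hsmul_right S.uf, hsmul_right S.uf] at h1
    rw [er, hadd_right S.uf, hsmul_right S.uf, hsmul_right S.uf] at h2
    have hD' : σ α * σ δ - σ β * σ γ ≠ 0 := by
      rw [← map_mul, ← map_mul, ← map_sub]; exact (map_ne_zero σ).mpr hD
    exact ⟨(mul_eq_zero.mp (show (σ α * σ δ - σ β * σ γ) * f K u = 0 by
      linear_combination σ δ * h1 - σ β * h2)).resolve_left hD',
      (mul_eq_zero.mp (show (σ α * σ δ - σ β * σ γ) * f K v = 0 by
      linear_combination -σ γ * h1 + σ α * h2)).resolve_left hD'⟩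
  have hwr : ∀ b, f (w b) r = 0 := fun b => by
    rw [hw, hsub_left S.uf]
    conv_lhs => arg 2; rw [← hzr, mem_isom.mp hzi]
    rw [sub_self]
  set K := f (w c) p • w b - f (w b) p • w c with hK
  obtain ⟨k1, k2⟩ := hperp2 K
    (by rw [hK, hsub_left S.uf, S.uf.smul_left, S.uf.smul_left]; ring)
    (by rw [hK, hsub_left S.uf, S.uf.smul_left, S.uf.smul_left, hwr, hwr]; ring)
  have hK0 : K = 0 := hperp K k1 k2
    (fun a ha => by simp [hK, hwW b hb a ha, hwW c hc a ha])
    (by simp only [hK, mulVec_sub, mulVec_smul, hwz]; module)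
  have hcb : f (w c) p = 0 := by
    have := congrFun hK0 b
    simp [hK, hws c b (Ne.symm hne.1) (fun h => hne.2 (by rw [h, hπ]))] at this
    exact this.resolve_right (hwb b hbm)
  obtain ⟨l1, l2⟩ := hperp2 _ hcb (hwr c)
  exact hwb c hcm (congrFun (hperp _ l1 l2 (hwW c hc) (hwz c)) c)

open scoped Classical in
/-- If one vector of the plane has small support then its partner vanishes there. -/
theorem small_step (ho : Odd q) (h3 : 3 ≤ q) (hn : 10 ≤ n)
    (hH : ∀ h ∈ su f, Mono h → h ∈ M) (hMG : M ≤ su f) (NC : NoCoord M) {x : GL (Fin n) F}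
    {u v : Fin n → F} (hx : Refl f x u v) (hxM : x ∈ M) (hxn : ¬ Mono x) {P : Fin n → F}
    (hP0 : P ≠ 0) (hxP : x ◆ P = -P)
    (hD : (univ.filter fun a => P a ≠ 0).card + 6 ≤ n) {d : Fin n} (hd : P d ≠ 0) :
    ∃ (z : GL (Fin n) F) (π : Equiv.Perm (Fin n)) (μ : Fin n → F) (r : Fin n → F)
      (W : Finset (Fin n)), z ∈ M ∧ (∀ a, z ◆ e a = μ a • e (π a)) ∧ π ≠ 1 ∧
      (∀ a, π (π a) = a) ∧ (∀ a, μ a * μ (π a) = 1) ∧ W.card = 4 ∧ d ∈ W ∧
      (∀ a ∈ W, a ≠ d → P a = 0) ∧ π d = d ∧ μ d = -1 ∧ r ≠ 0 ∧ x ◆ r = -r ∧ f r P = 0 ∧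
      r d = 0 ∧ z ◆ P = -P ∧ z ◆ r = r ∧ (∀ a, π a ∈ W ↔ a ∈ W) ∧
      ∀ b c, b ∉ W → c ∉ W → z ◆ e b ≠ e b → z ◆ e c ≠ e c → c = b ∨ c = π b := by
  classical
  have h2 := two_ne S ho
  have rows := Refl.rows S NC hx hxM hxn
  set C := univ.filter fun a => P a = 0 with hC
  have hCc : 6 ≤ C.card := by
    have : C.card + (univ.filter fun a => P a ≠ 0).card = n := by
      rw [hC, show (univ.filter fun a => P a ≠ 0) = (univ.filter fun a => P a = 0)ᶜ by ext; simp,
        Finset.card_compl, Fintype.card_fin]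
      have := Finset.card_le_univ (univ.filter fun a => P a = 0)
      rw [Fintype.card_fin] at this
      omega
    omega
  obtain ⟨T, hT, hTc⟩ := Finset.exists_subset_card_eq (show 3 ≤ C.card by omega)
  have hTP : ∀ a ∈ T, P a = 0 := fun a ha => (Finset.mem_filter.mp (hT ha)).2
  have hdT : d ∉ T := fun h => hd (hTP d h)
  set W := insert d T with hW
  have hWc : W.card = 4 := by rw [hW, Finset.card_insert_of_notMem hdT, hTc]
  have hWP : ∀ a ∈ W, a ≠ d → P a = 0 := fun a ha h =>
    hTP a ((Finset.mem_insert.mp ha).resolve_left h)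
  have hiso : ∀ a ∈ W, a ≠ d → u d * v a ≠ u a * v d := fun a ha hne h => by
    have e0 := hWP a ha hne
    have ed := hd
    rw [Refl.span S ho hx hxP] at e0 ed
    simp at e0 ed
    rcases rows a with h' | h'
    · exact ed ((mul_eq_zero.mp (show (f P u * u d + f P v * v d) * u a = 0 by
        linear_combination u d * e0 - f P v * h)).resolve_right h')
    · exact ed ((mul_eq_zero.mp (show (f P u * u d + f P v * v d) * v a = 0 by
        linear_combination v d * e0 + f P u * h)).resolve_right h')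
  obtain ⟨z, π, μ, p, r, hzM, hze, hπ1, hπ, hμ, hW', hp0, hr0, hxp, hxr, hrp, hzp, hzr, horb⟩ :=
    split_plane S ho h3 hn hH hMG NC hx hxM hxn hWc (Finset.mem_insert_self d T) hiso
  obtain ⟨b, hbC, hbW, hb⟩ : ∃ b ∈ C, b ∉ W ∧ z ◆ e b = e b := by
    by_contra hc
    simp only [not_exists, not_and] at hc
    have h4 : 2 < (C \ W).card := by
      have he : C \ W = C \ T := by
        ext a
        simp only [hW, Finset.mem_sdiff, Finset.mem_insert, not_or]
        exact ⟨fun h => ⟨h.1, h.2.2⟩, fun h => ⟨h.1, fun e => hd (e ▸ (Finset.mem_filter.mp h.1).2),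
          h.2⟩⟩
      rw [he, Finset.card_sdiff_of_subset hT]
      omega
    obtain ⟨a, ha, b, hb, c, hc', hab, hac, hbc⟩ := Finset.two_lt_card.mp h4
    simp only [Finset.mem_sdiff] at ha hb hc'
    have o := fun y (hy : y ∈ C ∧ y ∉ W) => hc y hy.1 hy.2
    rcases horb a b ha.2 hb.2 (o a ha) (o b hb) with h | h
    · exact hab h.symm
    rcases horb a c ha.2 hc'.2 (o a ha) (o c hc') with h' | h'
    · exact hac h'.symm
    exact hbc (h.trans h'.symm)
  have hzi := (hMG hzM).1
  have hpb : p b = 0 := by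
    refine (mul_eq_zero.mp (show (2 : F) * p b = 0 by
      have := mem_isom.mp hzi p (e b)
      rw [hzp, hb, ← neg_one_smul F p, S.uf.smul_left, S.f_e] at this
      linear_combination -this)).resolve_left h2
  obtain ⟨k, hk⟩ := Refl.prop_of_zero S ho hx (rows b) hxp hxP hpb
    (Finset.mem_filter.mp hbC).2 hP0
  have hk0 : k ≠ 0 := fun h => hp0 (by rw [hk, h, zero_smul])
  have hzP : z ◆ P = -P := by
    apply smul_right_injective _ hk0
    show k • (z ◆ P) = k • -P
    rw [← mulVec_smul, ← hk, hzp, smul_neg, ← hk]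
  have cP : ∀ a, μ a * P a = -P (π a) := fun a => by rw [← mono_ap_coord hze P a, hzP]; rfl
  have hdd : π d = d := by
    by_contra h
    have h1 := hWP _ ((hW' d).mpr (Finset.mem_insert_self d T)) h
    have h2 := cP d
    rw [h1, neg_zero] at h2
    rcases mul_eq_zero.mp h2 with h' | h'
    · have := hμ d; rw [h', zero_mul] at this; exact zero_ne_one this
    · exact hd h'
  have hμd : μ d = -1 := mul_right_cancel₀ hd (by rw [cP, hdd, neg_one_mul])
  have hrd : r d = 0 := by
    have := mono_ap_coord hze r d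
    rw [hzr, hdd, hμd] at this
    exact (mul_eq_zero.mp (show (2 : F) * r d = 0 by linear_combination this)).resolve_left h2
  refine ⟨z, π, μ, r, W, hzM, hze, hπ1, hπ, hμ, hWc, Finset.mem_insert_self d T, hWP, hdd, hμd,
    hr0, hxr, ?_, hrd, hzP, hzr, hW', horb⟩
  have := hrp
  rw [hk, hsmul_right S.uf] at this
  exact (mul_eq_zero.mp this).resolve_left ((map_ne_zero σ).mpr hk0)

open scoped Classical in
/-- A vector of the plane with five zeros: some orthogonal vector of the plane vanishes at each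
coordinate of its support. -/
theorem small_orth (ho : Odd q) (h3 : 3 ≤ q) (hn : 10 ≤ n)
    (hH : ∀ h ∈ su f, Mono h → h ∈ M) (hMG : M ≤ su f) (NC : NoCoord M) {x : GL (Fin n) F}
    {u v : Fin n → F} (hx : Refl f x u v) (hxM : x ∈ M) (hxn : ¬ Mono x) {P : Fin n → F}
    (hP0 : P ≠ 0) (hxP : x ◆ P = -P)
    (hD : (univ.filter fun a => P a ≠ 0).card + 5 ≤ n) {d : Fin n} (hd : P d ≠ 0) :
    ∃ r : Fin n → F, r ≠ 0 ∧ x ◆ r = -r ∧ f r P = 0 ∧ r d = 0 := by
  classical
  have h2 := two_ne S ho
  have rows := Refl.rows S NC hx hxM hxn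
  set C := univ.filter fun a => P a = 0 with hC
  have hCc : 5 ≤ C.card := by
    have : C.card + (univ.filter fun a => P a ≠ 0).card = n := by
      rw [hC, show (univ.filter fun a => P a ≠ 0) = (univ.filter fun a => P a = 0)ᶜ by ext; simp,
        Finset.card_compl, Fintype.card_fin]
      have := Finset.card_le_univ (univ.filter fun a => P a = 0)
      rw [Fintype.card_fin] at this
      omega
    omega
  obtain ⟨T, hT, hTc⟩ := Finset.exists_subset_card_eq (show 3 ≤ C.card by omega)
  have hTP : ∀ a ∈ T, P a = 0 := fun a ha => (Finset.mem_filter.mp (hT ha)).2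
  have hdT : d ∉ T := fun h => hd (hTP d h)
  set W := insert d T with hW
  have hWc : W.card = 4 := by rw [hW, Finset.card_insert_of_notMem hdT, hTc]
  have hWP : ∀ a ∈ W, a ≠ d → P a = 0 := fun a ha h =>
    hTP a ((Finset.mem_insert.mp ha).resolve_left h)
  have hiso : ∀ a ∈ W, a ≠ d → u d * v a ≠ u a * v d := fun a ha hne h => by
    have e0 := hWP a ha hne
    have ed := hd
    rw [Refl.span S ho hx hxP] at e0 ed
    simp at e0 ed
    rcases rows a with h' | h'
    · exact ed ((mul_eq_zero.mp (show (f P u * u d + f P v * v d) * u a = 0 by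
        linear_combination u d * e0 - f P v * h)).resolve_right h')
    · exact ed ((mul_eq_zero.mp (show (f P u * u d + f P v * v d) * v a = 0 by
        linear_combination v d * e0 + f P u * h)).resolve_right h')
  obtain ⟨z, π, μ, p, r, hzM, hze, hπ1, hπ, hμ, hW', hp0, hr0, hxp, hxr, hrp, hzp, hzr, horb⟩ :=
    split_plane S ho h3 hn hH hMG NC hx hxM hxn hWc (Finset.mem_insert_self d T) hiso
  have hzi := (hMG hzM).1
  have hμ0 : ∀ a, μ a ≠ 0 := fun a h => by
    have := hμ a; rw [h, zero_mul] at this; exact zero_ne_one this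
  have cp : ∀ a, μ a * p a = -p (π a) := fun a => by rw [← mono_ap_coord hze p a, hzp]; rfl
  have cr : ∀ a, μ a * r a = r (π a) := fun a => by rw [← mono_ap_coord hze r a, hzr]
  -- the vector is an eigenvector of `z`
  have heig : (∃ k : F, P = k • p) ∨ ∃ k : F, P = k • r := by
    by_cases h : ∃ b ∈ C, p b = 0
    · obtain ⟨b, hb, hpb⟩ := h
      exact Or.inl (Refl.prop_of_zero S ho hx (rows b) hxP hxp (Finset.mem_filter.mp hb).2 hpb hp0)
    by_cases h' : ∃ b ∈ C, r b = 0
    · obtain ⟨b, hb, hrb⟩ := h'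
      exact Or.inr (Refl.prop_of_zero S ho hx (rows b) hxP hxr (Finset.mem_filter.mp hb).2 hrb hr0)
    exfalso
    simp only [not_exists, not_and] at h h'
    have hmv : ∀ b ∈ C, z ◆ e b ≠ e b := fun b hb he => h b hb
      ((mul_eq_zero.mp (show (2 : F) * p b = 0 by
        have := mem_isom.mp hzi p (e b)
        rw [hzp, he, ← neg_one_smul F p, S.uf.smul_left, S.f_e] at this
        linear_combination -this)).resolve_left h2)
    obtain ⟨b, hb, c, hc, hbc⟩ := Finset.one_lt_card.mp (show 1 < (C \ T).card by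
      rw [Finset.card_sdiff_of_subset hT]; omega)
    rw [Finset.mem_sdiff] at hb hc
    have hout : ∀ a, a ∈ C ∧ a ∉ T → a ∉ W := fun a ha hm => (Finset.mem_insert.mp hm).elim
      (fun e => hd (e ▸ (Finset.mem_filter.mp ha.1).2)) ha.2
    have hcb : c = π b := (horb b c (hout b hb) (hout c hc) (hmv b hb.1) (hmv c hc.1)).resolve_left
      (Ne.symm hbc)
    set w := r b • p - p b • r with hw
    have hxw : x ◆ w = -w := by
      rw [hw, mulVec_sub, mulVec_smul, mulVec_smul, hxp, hxr]; module
    obtain ⟨k, hk⟩ := Refl.prop_of_zero S ho hx (rows b) hxw hxP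
      (show w b = 0 by simp [hw, mul_comm]) (Finset.mem_filter.mp hb.1).2 hP0
    have hwc : r b * p c - p b * r c = 0 := by
      have := congrFun hk c
      simpa [hw, (Finset.mem_filter.mp hc.1).2] using this
    rw [hcb] at hwc
    exact mul_ne_zero (mul_ne_zero (mul_ne_zero h2 (hμ0 b)) (h b hb.1)) (h' b hb.1)
      (by linear_combination r b * cp b + p b * cr b - hwc)
  have hπd : ∀ ε : F, ε ≠ 0 → (∀ a, μ a * P a = ε * P (π a)) → π d = d := fun ε hε hP => by
    by_contra hne
    have h1 := hWP _ ((hW' d).mpr (Finset.mem_insert_self d T)) hne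
    exact mul_ne_zero (hμ0 d) hd (by rw [hP d, h1, mul_zero])
  rcases heig with ⟨k, hk⟩ | ⟨k, hk⟩
  · have hPc : ∀ a, μ a * P a = (-1 : F) * P (π a) := fun a => by
      rw [hk]; simp only [Pi.smul_apply, smul_eq_mul]; linear_combination k * cp a
    have hdd := hπd (-1) (neg_ne_zero.mpr one_ne_zero) hPc
    have hμd : μ d = -1 := mul_right_cancel₀ hd (by rw [hPc d, hdd])
    have hrd := cr d
    rw [hdd, hμd] at hrd
    exact ⟨r, hr0, hxr, by rw [hk, hsmul_right S.uf, hrp, mul_zero],
      (mul_eq_zero.mp (show (2 : F) * r d = 0 by linear_combination -hrd)).resolve_left h2⟩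
  · have hPc : ∀ a, μ a * P a = (1 : F) * P (π a) := fun a => by
      rw [hk]; simp only [Pi.smul_apply, smul_eq_mul]; linear_combination k * cr a
    have hdd := hπd 1 one_ne_zero hPc
    have hμd : μ d = 1 := mul_right_cancel₀ hd (by rw [hPc d, hdd])
    have hpd := cp d
    rw [hdd, hμd] at hpd
    exact ⟨p, hp0, hxp, by rw [hk, hsmul_right S.uf, hswap_zero S.uf hrp, mul_zero],
      (mul_eq_zero.mp (show (2 : F) * p d = 0 by linear_combination hpd)).resolve_left h2⟩

open scoped Classical in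
/-- A half-and-half disjointly supported pair commutes with a non-scalar torus element. -/
theorem no_half (h3 : 3 ≤ q) (hn : 10 ≤ n)
    (hH : ∀ h ∈ su f, Mono h → h ∈ M) (hMG : M ≤ su f) (NC : NoCoord M) {x : GL (Fin n) F}
    {u v : Fin n → F} (hx : Refl f x u v) (hxM : x ∈ M) (hxn : ¬ Mono x)
    (hdis : ∀ a, u a ≠ 0 → v a = 0)
    (hD : 2 * (univ.filter fun a => u a ≠ 0).card = n) : False := by
  classical
  obtain ⟨l, hl, hl2, -⟩ := exists_lam S h3
  have hlN := S.mem_circ.mp hl
  set s : Fin n → F := fun a => if u a ≠ 0 then l else σ l with hs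
  obtain ⟨y, hyi, hye, hyd⟩ := S.exists_mono 1 s fun a => by
    simp only [hs]; split_ifs
    · exact hlN
    · rw [S.inv, mul_comm]; exact hlN
  simp only [Equiv.Perm.coe_one, id_eq] at hye
  set A := univ.filter fun a => u a ≠ 0 with hA
  have hprod : ∏ a, s a = 1 := by
    simp only [hs]
    rw [Finset.prod_ite, Finset.prod_const, Finset.prod_const,
      show (univ.filter fun a => ¬ u a ≠ 0) = Aᶜ by ext; simp [hA], Finset.card_compl,
      Fintype.card_fin, show n - A.card = A.card by omega, ← mul_pow, hlN, one_pow]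
  have hyap : ∀ w : Fin n → F, y ◆ w = fun a => s a * w a := fun w => funext fun a =>
    mono_ap_coord (π := 1) (fun a => hye a) w a
  refine hxn (mono_of_comm S h3 hn hH hMG NC hxM (g := x) (z := y) (gl_ext_e fun a => ?_) hye ?_)
  · rw [ap_mul, ap_mul, hye, mulVec_smul, hx.2.2.2 (e a), hyap]
    funext i
    simp only [S.e_f, Pi.sub_apply, Pi.smul_apply, smul_eq_mul]
    by_cases hi : i = a
    · subst hi; ring
    · have he : (e a : Fin n → F) i = 0 := by simp [e, hi]
      rw [he]
      by_cases h1 : u a ≠ 0 <;> by_cases h2 : u i ≠ 0 <;>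
        simp only [hs, if_pos, h1, h2, if_false, not_false_eq_true, ne_eq]
      · rw [hdis a h1, not_not.mp h2]; simp
      · rw [hdis i h2, not_not.mp h1]; simp
  · obtain ⟨a, ha⟩ := Finset.card_pos.mp (show 0 < A.card by omega)
    obtain ⟨b, hb⟩ := Finset.card_pos.mp (show 0 < Aᶜ.card by
      rw [Finset.card_compl, Fintype.card_fin]; omega)
    refine ⟨a, b, fun h => hl2 ?_⟩
    simp only [hs, if_pos (show u a ≠ 0 from (Finset.mem_filter.mp ha).2),
      if_neg (show ¬ u b ≠ 0 by simpa [hA] using hb)] at h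
    conv_lhs => arg 2; rw [h]
    exact hlN

open scoped Classical in
/-- Disjointly supported eigenvectors: the small support is three coordinates. -/
theorem split_step (ho : Odd q) (h3 : 3 ≤ q) (hn : 10 ≤ n)
    (hH : ∀ h ∈ su f, Mono h → h ∈ M) (hMG : M ≤ su f) (NC : NoCoord M) {x : GL (Fin n) F}
    {u v : Fin n → F} (hx : Refl f x u v) (hxM : x ∈ M) (hxn : ¬ Mono x)
    (hdis : ∀ a, u a ≠ 0 → v a = 0) (hD : (univ.filter fun a => u a ≠ 0).card + 6 ≤ n) {d : Fin n}
    (hd : u d ≠ 0) : ∃ b c, b ≠ c ∧ b ≠ d ∧ c ≠ d ∧ u b ≠ 0 ∧ u c ≠ 0 ∧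
      (∀ a, u a ≠ 0 → a = d ∨ a = b ∨ a = c) ∧ u b * σ (u b) = u c * σ (u c) := by
  classical
  have h2 := two_ne S ho
  have rows := Refl.rows S NC hx hxM hxn
  obtain ⟨z, π, μ, r, W, hzM, hze, hπ1, hπ, hμ, hWc, hdW, hWu, hdd, hμd, hr0, hxr, hru, hrd,
      hzu, hzr, hW', horb⟩ :=
    small_step S ho h3 hn hH hMG NC hx hxM hxn (P := u) (fun h => hd (by rw [h]; rfl))
      (Refl.neg S hx).1 hD hd
  have hr := Refl.span S ho hx hxr
  rw [hru, zero_smul, zero_add] at hr
  have hzv : z ◆ v = v := by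
    have hk : f r v ≠ 0 := fun h => hr0 (by rw [hr, h, zero_smul])
    apply smul_right_injective _ hk
    show f r v • (z ◆ v) = f r v • v
    rw [← mulVec_smul, ← hr, hzr]
  have cu : ∀ a, μ a * u a = -u (π a) := fun a => by rw [← mono_ap_coord hze u a, hzu]; rfl
  have cv : ∀ a, μ a * v a = v (π a) := fun a => by rw [← mono_ap_coord hze v a, hzv]
  have hμ0 : ∀ a, μ a ≠ 0 := fun a h => by
    have := hμ a; rw [h, zero_mul] at this; exact zero_ne_one this
  have hDπ : ∀ a, u a ≠ 0 → u (π a) ≠ 0 := fun a ha h => by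
    have := cu a; rw [h, neg_zero] at this
    exact mul_ne_zero (hμ0 a) ha this
  have hmoved : ∀ a, u a ≠ 0 → z ◆ e a ≠ e a := fun a ha h => by
    rw [hze] at h
    by_cases hp : π a = a
    · rw [hp] at h
      have h1 : μ a = 1 := by simpa [e] using congrFun h a
      have := cu a
      rw [hp, h1, one_mul] at this
      exact ha ((mul_eq_zero.mp (show (2 : F) * u a = 0 by linear_combination this)).resolve_left h2)
    · have := congrFun h a
      simp [e, Ne.symm hp] at this
  have houtD : ∀ a, u a ≠ 0 → a ≠ d → a ∉ W := fun a ha hne h => ha (hWu a h hne)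
  have hfixC : ∀ a, π a = a → u a = 0 → μ a = 1 := fun a hp ha => by
    have hv : v a ≠ 0 := (rows a).resolve_left (not_not.mpr ha)
    exact mul_right_cancel₀ hv (by rw [one_mul, cv, hp])
  by_cases hsing : ∀ a, u a ≠ 0 → a = d
  · exfalso
    refine hxn (NC x hxM d d (-1) ?_)
    have hu : u = u d • e d := funext fun a => by
      by_cases h : a = d
      · subst h; simp [e]
      · simp [e, h]; exact not_not.mp fun h' => h (hsing a h')
    apply smul_right_injective _ hd
    show u d • (x ◆ e d) = u d • ((-1 : F) • e d)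
    rw [← mulVec_smul, ← hu, (Refl.neg S hx).1, smul_comm, ← hu, neg_one_smul]
  simp only [not_forall] at hsing
  obtain ⟨b, hb, hbd⟩ := hsing
  have hbW := houtD b hb hbd
  have horbD : ∀ a, u a ≠ 0 → a ≠ d → a = b ∨ a = π b := fun a ha hne =>
    horb b a hbW (houtD a ha hne) (hmoved b hb) (hmoved a ha)
  by_cases hbb : π b = b
  · exfalso
    have hμb : μ b = -1 := mul_right_cancel₀ hb (by rw [cu, hbb, neg_one_mul])
    have hout : ∀ a, a ∉ W.erase d → π a = a := fun a ha => by
      by_cases hW1 : a ∈ W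
      · rw [show a = d from not_not.mp fun h' => ha (Finset.mem_erase.mpr ⟨h', hW1⟩)]; exact hdd
      by_contra hp
      have hm : z ◆ e a ≠ e a := fun h => by
        rw [hze] at h
        have := congrFun h a
        simp [e, Ne.symm hp] at this
      rcases horb b a hbW hW1 (hmoved b hb) hm with h | h
      · exact hp (by rw [h, hbb])
      · exact hp (by rw [h, hbb]; exact hbb)
    obtain ⟨c, c', hcc, hsw, hc, hc'⟩ := swap_of_three hπ hπ1 (T := W.erase d)
      (by rw [Finset.card_erase_of_mem hdW, hWc]) hout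
    refine false_of_swap S ho (hMG hzM) hze hcc hsw ?_
    have hcb : ∀ y ∈ W.erase d, y ≠ b ∧ y ≠ d := fun y hy =>
      ⟨fun h => hbW (h ▸ (Finset.mem_erase.mp hy).2), (Finset.mem_erase.mp hy).1⟩
    rw [← Finset.prod_subset (Finset.subset_univ ({d, b, c, c'} : Finset (Fin n))) (fun a _ ha => by
        simp only [Finset.mem_insert, Finset.mem_singleton, not_or] at ha
        refine hfixC a (by rw [hsw, Equiv.swap_apply_of_ne_of_ne ha.2.2.1 ha.2.2.2]) ?_
        by_contra h
        rcases horbD a h ha.1 with h' | h'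
        · exact ha.2.1 h'
        · exact ha.2.1 (h'.trans hbb))]
    rw [Finset.prod_insert (by simp [Ne.symm hbd, (hcb c hc).2.symm, (hcb c' hc').2.symm]),
      Finset.prod_insert (by simp [(hcb c hc).1.symm, (hcb c' hc').1.symm]),
      Finset.prod_insert (by simp [hcc]), Finset.prod_singleton, hμd, hμb]
    have := hμ c
    rw [hsw, Equiv.swap_apply_left] at this
    linear_combination this
  · refine ⟨b, π b, Ne.symm hbb, hbd, fun h => hbd (by rw [← hπ b, h, hdd]), hb, hDπ b hb,
      fun a ha => (em (a = d)).imp id fun h => horbD a ha h, ?_⟩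
    have h1 : u (π b) = -(μ b * u b) := by rw [cu, neg_neg]
    have hN := norm_coeff S (hMG hzM).1 (hze b)
    rw [h1, map_neg, map_mul]
    linear_combination -(u b * σ (u b)) * hN

open scoped Classical in
/-- No disjointly supported pair with a small member. -/
theorem no_split (ho : Odd q) (h3 : 3 ≤ q) (hn : 10 ≤ n)
    (hH : ∀ h ∈ su f, Mono h → h ∈ M) (hMG : M ≤ su f) (NC : NoCoord M) {x : GL (Fin n) F}
    {u v : Fin n → F} (hx : Refl f x u v) (hxM : x ∈ M) (hxn : ¬ Mono x)
    (hdis : ∀ a, u a ≠ 0 → v a = 0) (hD : (univ.filter fun a => u a ≠ 0).card + 6 ≤ n) : False := by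
  classical
  have h2 := two_ne S ho
  obtain ⟨d, hd⟩ := Function.ne_iff.mp (show u ≠ 0 from fun h => by
    simpa [h, hzero_left S.uf] using hx.1)
  obtain ⟨b, c, hbc, hbd, hcd, hb, hc, hsupp, hN1⟩ :=
    split_step S ho h3 hn hH hMG NC hx hxM hxn hdis hD hd
  obtain ⟨b', c', hbc', hb'b, hc'b, hb', hc', -, hN2⟩ :=
    split_step S ho h3 hn hH hMG NC hx hxM hxn hdis hD hb
  set R := u b * σ (u b) with hR
  have hNc : u c * σ (u c) = R := hN1.symm
  have hNd : u d * σ (u d) = R := by
    rcases hsupp b' hb' with h | h | h <;> rcases hsupp c' hc' with h' | h' | h' <;>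
      first
      | exact absurd h hb'b
      | exact absurd h' hc'b
      | exact absurd (h.trans h'.symm) hbc'
      | (rw [h, h'] at hN2; first | exact hN2.trans hNc | exact hN2.symm.trans hNc)
  have h3R : 3 * R = 1 := by
    have := hx.1
    rw [S.self_sum, ← Finset.sum_subset (Finset.subset_univ ({d, b, c} : Finset (Fin n)))
      (fun a _ ha => by
        simp only [Finset.mem_insert, Finset.mem_singleton, not_or] at ha
        have : u a = 0 := not_not.mp fun h => by
          rcases hsupp a h with h' | h' | h'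
          exacts [ha.1 h', ha.2.1 h', ha.2.2 h']
        rw [this, zero_mul]),
      Finset.sum_insert (by simp [hbd.symm, hcd.symm]), Finset.sum_insert (by simp [hbc]),
      Finset.sum_singleton, hNd, hNc, ← hR] at this
    linear_combination this
  have hσR : σ R = R := S.norm_real _
  set ν : Fin n → F := Function.update (Function.update (Function.update (1 : Fin n → F) d (-1))
    c (-3 * u c * σ (u b))) b (-3 * u b * σ (u c)) with hν
  have hνN : ∀ a, ν a * σ (ν a) = 1 := fun a => by
    by_cases h1 : a = b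
    · subst h1
      rw [hν, Function.update_self]
      simp only [map_mul, map_neg, map_ofNat, S.inv]
      linear_combination 9 * (u c * σ (u c)) * hR.symm + 9 * R * hNc + (3 * R + 1) * h3R
    · by_cases h2 : a = c
      · subst h2
        rw [hν, Function.update_of_ne h1, Function.update_self]
        simp only [map_mul, map_neg, map_ofNat, S.inv]
        linear_combination 9 * (u a * σ (u a)) * hR.symm + 9 * R * hNc + (3 * R + 1) * h3R
      · by_cases h3 : a = d
        · subst h3; simp [hν, h1, h2]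
        · simp [hν, h1, h2, h3]
  obtain ⟨s, hsi, hse, hsd⟩ := S.exists_mono (Equiv.swap b c) ν hνN
  have hprod : ∏ a, ν a = -1 := by
    rw [← Finset.prod_subset (Finset.subset_univ ({d, b, c} : Finset (Fin n))) (fun a _ ha => by
        simp only [Finset.mem_insert, Finset.mem_singleton, not_or] at ha
        simp [hν, ha.1, ha.2.1, ha.2.2]),
      Finset.prod_insert (by simp [hbd.symm, hcd.symm]), Finset.prod_insert (by simp [hbc]),
      Finset.prod_singleton]
    simp only [hν, Function.update_self, Function.update_of_ne hbc.symm, Function.update_of_ne hbd.symm,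
      Function.update_of_ne hcd.symm]
    linear_combination -9 * (u c * σ (u c)) * hR.symm - 9 * R * hNc - (3 * R + 1) * h3R
  rw [hprod, Equiv.Perm.sign_swap hbc] at hsd
  have hsM : s ∈ M := hH s ⟨hsi, (mem_special_iff S).mpr (by simpa using hsd)⟩
    (mono_of_perm _ fun a => ⟨_, hse a⟩)
  set w0 : Fin n → F := fun a => if a = d then -2 * u a else u a with hw0
  have hww : f w0 w0 = 2 := by
    rw [S.self_sum, ← Finset.sum_subset (Finset.subset_univ ({d, b, c} : Finset (Fin n)))
      (fun a _ ha => by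
        simp only [Finset.mem_insert, Finset.mem_singleton, not_or] at ha
        have : u a = 0 := not_not.mp fun h => by
          rcases hsupp a h with h' | h' | h'
          exacts [ha.1 h', ha.2.1 h', ha.2.2 h']
        simp [hw0, ha.1, this]),
      Finset.sum_insert (by simp [hbd.symm, hcd.symm]), Finset.sum_insert (by simp [hbc]),
      Finset.sum_singleton]
    simp only [hw0, if_neg hbd, if_neg hcd, if_true, map_mul, map_neg, map_ofNat]
    linear_combination 4 * hNd + hR.symm + hNc + 2 * h3R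
  have hw0u : f w0 u = 0 := by
    rw [S.sum, ← Finset.sum_subset (Finset.subset_univ ({d, b, c} : Finset (Fin n)))
      (fun a _ ha => by
        simp only [Finset.mem_insert, Finset.mem_singleton, not_or] at ha
        have : u a = 0 := not_not.mp fun h => by
          rcases hsupp a h with h' | h' | h'
          exacts [ha.1 h', ha.2.1 h', ha.2.2 h']
        simp [hw0, this]),
      Finset.sum_insert (by simp [hbd.symm, hcd.symm]), Finset.sum_insert (by simp [hbc]),
      Finset.sum_singleton]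
    simp only [hw0, if_neg hbd, if_neg hcd, if_true]
    linear_combination -2 * hNd + hR.symm + hNc
  have hw0v : f w0 v = 0 := by
    rw [S.sum]
    refine Finset.sum_eq_zero fun a _ => ?_
    by_cases h : u a = 0
    · simp [hw0, h]
    · rw [hdis a h, map_zero, mul_zero]
  have huv : f u v = 0 := hx.2.2.1
  have hsform : ∀ y, s ◆ y = y - (2 * f y u) • u - f y w0 • w0 := by
    have hb' : ∀ a, s ◆ e a = e a - (2 * f (e a) u) • u - f (e a) w0 • w0 := by
      intro a
      funext i
      rw [hse]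
      simp only [Pi.sub_apply, Pi.smul_apply, smul_eq_mul, S.e_f]
      by_cases ha : a = d ∨ a = b ∨ a = c
      · by_cases hi : i = d ∨ i = b ∨ i = c
        · rcases ha with rfl | rfl | rfl <;> rcases hi with rfl | rfl | rfl <;>
            simp [hν, hw0, e, map_ofNat, Equiv.swap_apply_def, hbc, hbc.symm, hbd, hbd.symm, hcd, hcd.symm]
          all_goals first
            | linear_combination 6 * hNd + 2 * h3R
            | linear_combination 3 * hR.symm + h3R
            | linear_combination 3 * hNc + h3R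
            | linear_combination (6 * hNd + 2 * h3R) * (-1 : F)
            | linear_combination -3 * hR.symm - h3R
            | linear_combination -3 * hNc - h3R
            | ring
        · simp only [not_or] at hi
          have hu : u i = 0 := not_not.mp fun h => by
            rcases hsupp i h with h' | h' | h'
            exacts [hi.1 h', hi.2.1 h', hi.2.2 h']
          rcases ha with rfl | rfl | rfl <;>
            simp [hw0, e, hu, hi.1, hi.2.1, hi.2.2, Equiv.swap_apply_def, hbc, hbc.symm, hbd,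
              hbd.symm, hcd, hcd.symm]
      · simp only [not_or] at ha
        have hu : u a = 0 := not_not.mp fun h => by
          rcases hsupp a h with h' | h' | h'
          exacts [ha.1 h', ha.2.1 h', ha.2.2 h']
        simp [hν, hw0, hu, ha.1, ha.2.1, ha.2.2, Equiv.swap_apply_of_ne_of_ne]
    intro y
    rw [ap_eq_sum]
    simp only [hb', smul_sub, Finset.sum_sub_distrib, smul_smul, S.e_f, ← Finset.sum_smul, S.sum,
      Finset.mul_sum]
    rw [← pi_eq_sum_univ' y]
    congr 2
    congr 1
    exact Finset.sum_congr rfl fun i _ => by ring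
  obtain ⟨k, hk⟩ := S.exists_norm (r := (2 : F)⁻¹) (by rw [map_inv₀, map_ofNat])
  have hk2 : 2 * (k * σ k) = 1 := by rw [hk, mul_inv_cancel₀ h2]
  have hk0 : k ≠ 0 := fun h => by simp [h] at hk2
  have hx' : Refl f (x * s) (k • w0) v := by
    refine ⟨?_, hx.2.1, by rw [S.uf.smul_left, hw0v, mul_zero], fun y => ?_⟩
    · rw [S.uf.smul_left, hsmul_right S.uf, hww]; linear_combination hk2
    · rw [ap_mul, hsform, hx.2.2.2]
      have hwu : f u w0 = 0 := hswap_zero S.uf hw0u
      simp only [hsub_left S.uf, S.uf.smul_left, hx.1, huv, hw0u, hw0v, hsmul_right S.uf,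
        smul_smul]
      match_scalars
      all_goals first | linear_combination -(f y w0) * hk2 | linear_combination (f y w0) * hk2 | ring
  have hxn' : ¬ Mono (x * s) := fun h => hxn (by
    have := keeps_mul h (mono_of_perm _ fun a => ⟨_, hse a⟩ : Mono s).inv
    rwa [mul_inv_cancel_right] at this)
  have hsupp' : ∀ a, (k • w0) a ≠ 0 → u a ≠ 0 := fun a h h' => h (by simp [hw0, h'])
  have hcard : (univ.filter fun a => (k • w0) a ≠ 0).card + 6 ≤ n :=
    (Nat.add_le_add_right (Finset.card_le_card fun a ha => Finset.mem_filter.mpr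
      ⟨Finset.mem_univ _, hsupp' a (Finset.mem_filter.mp ha).2⟩) 6).trans hD
  have hwb : (k • w0) b ≠ 0 := by simp [hw0, hbd, hk0, hb]
  obtain ⟨b₂, c₂, hne, hb2, hc2, hub, huc, -, hN3⟩ := split_step S ho h3 hn hH hMG NC hx'
    (mul_mem hxM hsM) hxn' (fun a h => hdis a (hsupp' a h)) hcard hwb
  have hR0 : R ≠ 0 := fun h => by rw [h, mul_zero] at h3R; exact zero_ne_one h3R
  have hfin : (2 * u d) * σ (2 * u d) = u c * σ (u c) → False := fun h => by
    rw [map_mul, map_ofNat] at h
    have : 3 * R = 0 := by linear_combination h - 4 * hNd + hNc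
    rw [this] at h3R
    exact zero_ne_one h3R
  simp only [Pi.smul_apply, smul_eq_mul, map_mul] at hN3
  have hN4 : w0 b₂ * σ (w0 b₂) = w0 c₂ * σ (w0 c₂) := mul_left_cancel₀
    (show k * σ k ≠ 0 by simp [hk0]) (by linear_combination hN3)
  rcases hsupp _ (hsupp' _ hub) with h | h | h <;> rcases hsupp _ (hsupp' _ huc) with h' | h' | h' <;>
    first
    | exact absurd h hb2
    | exact absurd h' hc2
    | exact absurd (h.trans h'.symm) hne
    | (subst h h'; simp [hw0, hcd, map_ofNat] at hN4; refine hfin ?_; simp only [map_mul, map_ofNat]; linear_combination hN4)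
    | (subst h h'; simp [hw0, hcd, map_ofNat] at hN4; refine hfin ?_; simp only [map_mul, map_ofNat]; linear_combination -hN4)

/-- **Odd `q`.** An involution of `M` negating a plane and fixing its complement is monomial. -/
theorem mono_of_refl (ho : Odd q) (h3 : 3 ≤ q) (hn : 10 ≤ n)
    (hH : ∀ h ∈ su f, Mono h → h ∈ M) (hMG : M ≤ su f) (NC : NoCoord M) {x : GL (Fin n) F}
    {u v : Fin n → F} (hx : Refl f x u v) (hxM : x ∈ M) : Mono x := by
  classical
  by_contra hxn
  have h2 := two_ne S ho
  have rows := Refl.rows S NC hx hxM hxn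
  have hvu : f v u = 0 := hswap_zero S.uf hx.2.2.1
  by_cases hsmall : ∃ P, P ≠ 0 ∧ x ◆ P = -P ∧
      (univ.filter fun a => P a ≠ 0).card ≤ (if n ≤ 11 then 5 else 6)
  · obtain ⟨P, hP0, hxP, hcard⟩ := hsmall
    have eP := Refl.span S ho hx hxP
    set α := f P u
    set β := f P v
    set Q := σ β • u - σ α • v with hQ
    have hxQ : x ◆ Q = -Q := by
      have := Refl.neg_of_span S hx (σ β) (-σ α)
      rwa [neg_smul, ← sub_eq_add_neg] at this
    have hQd : ∀ d, P d ≠ 0 → Q d = 0 := by
      intro d hd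
      obtain ⟨r, hr0, hxr, hrP, hrd⟩ :=
        small_orth S ho h3 hn hH hMG NC hx hxM hxn hP0 hxP (by split_ifs at hcard <;> omega) hd
      have er := Refl.span S ho hx hxr
      set γ := f r u
      set δ := f r v
      rw [er, eP, S.uf.add_left, S.uf.smul_left, S.uf.smul_left, hadd_right S.uf, hadd_right S.uf,
        hsmul_right S.uf, hsmul_right S.uf, hsmul_right S.uf, hsmul_right S.uf, hx.1, hx.2.1,
        hx.2.2.1, hvu] at hrP
      rw [er] at hrd
      simp at hrd hrP
      simp [hQ]
      by_cases hγ : γ = 0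
      · have hδ : δ ≠ 0 := fun h => hr0 (by rw [er, hγ, h]; simp)
        exact mul_left_cancel₀ hδ (by rw [mul_zero]; linear_combination u d * hrP - σ α * hrd)
      · exact mul_left_cancel₀ hγ (by rw [mul_zero]; linear_combination -v d * hrP + σ β * hrd)
    set N := α * σ α + β * σ β with hN
    have eN : ∀ d, σ α * P d + β * Q d = N * u d ∧ σ β * P d - α * Q d = N * v d := fun d => by
      rw [eP, hQ]; simp; constructor <;> (rw [hN]; ring)
    have hN0 : N ≠ 0 := by
      obtain ⟨d, hd⟩ := Function.ne_iff.mp hP0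
      intro h
      obtain ⟨e1, e2⟩ := eN d
      rw [hQd d hd, h] at e1 e2
      simp at e1 e2
      have ha : α = 0 := e1.resolve_right hd
      have hb : β = 0 := e2.resolve_right hd
      exact hP0 (by rw [eP, ha, hb]; simp)
    obtain ⟨k, hk⟩ := S.exists_norm (r := N⁻¹) (by
      rw [map_inv₀, hN, map_add, S.norm_real, S.norm_real])
    have hkN : k * σ k * N = 1 := by rw [hk, inv_mul_cancel₀ hN0]
    have hk0 : k ≠ 0 := fun h => by simp [h] at hkN
    have hx' : Refl f x (k • P) (k • Q) := by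
      have hPP : f P P = N := by
        rw [eP, S.uf.add_left, S.uf.smul_left, S.uf.smul_left, hadd_right S.uf, hadd_right S.uf,
          hsmul_right S.uf, hsmul_right S.uf, hsmul_right S.uf, hsmul_right S.uf, hx.1, hx.2.1,
          hx.2.2.1, hvu]
        rw [hN]; ring
      have hQQ : f Q Q = N := by
        rw [hQ, hsub_left S.uf, S.uf.smul_left, S.uf.smul_left, hsub_right S.uf, hsub_right S.uf,
          hsmul_right S.uf, hsmul_right S.uf, hsmul_right S.uf, hsmul_right S.uf, hx.1, hx.2.1,
          hx.2.2.1, hvu, S.inv, S.inv, hN]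
        ring
      have hPQ : f P Q = 0 := by
        rw [eP, hQ, S.uf.add_left, S.uf.smul_left, S.uf.smul_left, hsub_right S.uf, hsub_right S.uf,
          hsmul_right S.uf, hsmul_right S.uf, hsmul_right S.uf, hsmul_right S.uf, hx.1, hx.2.1,
          hx.2.2.1, hvu, S.inv, S.inv]
        ring
      refine ⟨by rw [S.uf.smul_left, hsmul_right S.uf, hPP]; linear_combination hkN,
        by rw [S.uf.smul_left, hsmul_right S.uf, hQQ]; linear_combination hkN,
        by rw [S.uf.smul_left, hsmul_right S.uf, hPQ]; ring, fun y => ?_⟩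
      rw [hx.2.2.2, hsmul_right S.uf, hsmul_right S.uf]
      conv_rhs => rw [eP, hQ, hadd_right S.uf, hsub_right S.uf, hsmul_right S.uf, hsmul_right S.uf,
        hsmul_right S.uf, hsmul_right S.uf, S.inv, S.inv]
      match_scalars
      all_goals rw [hN] at hkN
      all_goals first
        | linear_combination (2 * f y u) * hkN
        | linear_combination (2 * f y v) * hkN
        | linear_combination (-2 * f y u) * hkN
        | linear_combination (-2 * f y v) * hkN
        | ring
    have hdis' : ∀ a, (k • P) a ≠ 0 → (k • Q) a = 0 := fun a ha => by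
      simp [hk0] at ha ⊢
      exact hQd a ha
    have hcard' : (univ.filter fun a => (k • P) a ≠ 0).card =
        (univ.filter fun a => P a ≠ 0).card := by simp [hk0]
    by_cases h6 : (univ.filter fun a => P a ≠ 0).card + 6 ≤ n
    · exact no_split S ho h3 hn hH hMG NC hx' hxM hxn hdis' (by rw [hcard']; exact h6)
    · exact no_half S h3 hn hH hMG NC hx' hxM hxn hdis'
        (by rw [hcard']; split_ifs at hcard <;> omega)
  simp only [not_exists, not_and, not_le] at hsmall
  set cl : Fin n → Finset (Fin n) := fun a => univ.filter fun b => u a * v b = u b * v a with hcl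
  have mem_cl : ∀ {a b}, b ∈ cl a ↔ u a * v b = u b * v a := fun {a b} => by simp [hcl]
  have cl_symm : ∀ {a b}, b ∈ cl a → a ∈ cl b := fun {a b} h => mem_cl.mpr (by
    have := mem_cl.mp h; linear_combination -this)
  have cl_trans : ∀ {a b c}, b ∈ cl a → c ∈ cl b → c ∈ cl a := fun {a b c} h h' => mem_cl.mpr (by
    have e1 := mem_cl.mp h
    have e2 := mem_cl.mp h'
    rcases rows b with hb | hb
    · exact mul_left_cancel₀ hb (by linear_combination u a * e2 + u c * e1)
    · exact mul_left_cancel₀ hb (by linear_combination v c * e1 + v a * e2))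
  have hline : ∀ {y : Fin n → F} {a}, y ≠ 0 → x ◆ y = -y → y a = 0 → ∀ b, y b = 0 ↔ b ∈ cl a := by
    intro y a hy hxy ha b
    have hxa : x ◆ (v a • u - u a • v) = -(v a • u - u a • v) := by
      have := Refl.neg_of_span S hx (v a) (-u a)
      rwa [neg_smul, ← sub_eq_add_neg] at this
    have hne : v a • u - u a • v ≠ 0 := fun h => by
      have e1 := congrArg (fun y => f y u) h
      have e2 := congrArg (fun y => f y v) h
      simp [hsub_left S.uf, S.uf.smul_left, hx.1, hx.2.1, hx.2.2.1, hvu, hzero_left S.uf] at e1 e2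
      exact (rows a).elim (fun h => h e2) (fun h => h e1)
    obtain ⟨c, hc⟩ := Refl.prop_of_zero S ho hx (rows a) hxy hxa ha (by simp; ring) hne
    have hc0 : c ≠ 0 := fun h => hy (by rw [hc, h, zero_smul])
    rw [mem_cl, hc]
    simp only [Pi.smul_apply, Pi.sub_apply, smul_eq_mul, mul_eq_zero, hc0, false_or]
    constructor <;> intro h <;> linear_combination -h
  have hsupp : ∀ {y : Fin n → F} {a}, y ≠ 0 → x ◆ y = -y → y a = 0 →
      (univ.filter fun b => y b ≠ 0) = (cl a)ᶜ := fun {y a} hy hxy ha => by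
    ext b; simp [hline hy hxy ha b]
  have hclc : ∀ a, (cl a).card + 6 ≤ n ∧ (¬ n ≤ 11 → (cl a).card + 7 ≤ n) := fun a => by
    have hxa : x ◆ (v a • u - u a • v) = -(v a • u - u a • v) := by
      have := Refl.neg_of_span S hx (v a) (-u a)
      rwa [neg_smul, ← sub_eq_add_neg] at this
    have hne : v a • u - u a • v ≠ 0 := fun h => by
      have e1 := congrArg (fun y => f y u) h
      have e2 := congrArg (fun y => f y v) h
      simp [hsub_left S.uf, S.uf.smul_left, hx.1, hx.2.1, hx.2.2.1, hvu, hzero_left S.uf] at e1 e2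
      exact (rows a).elim (fun h => h e2) (fun h => h e1)
    have h := hsmall _ hne hxa
    rw [hsupp hne hxa (a := a) (by simp; ring), Finset.card_compl, Fintype.card_fin] at h
    have := Finset.card_le_univ (cl a)
    rw [Fintype.card_fin] at this
    split_ifs at h <;> omega
  -- the isolated coordinate avoids, and the others meet, every largest class
  obtain ⟨d, T, hdT', hTc, hbig⟩ : ∃ (d : Fin n) (T : Finset (Fin n)), (∀ a ∈ T, a ∉ cl d) ∧
      T.card = 3 ∧ ∀ a, n ≤ 11 → (cl a).card + 6 = n → ∃ b ∈ T, b ∈ cl a := by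
    have ext3 : ∀ (d : Fin n) (R : Finset (Fin n)), R.card ≤ 3 → (∀ a ∈ R, a ∉ cl d) →
        ∃ T, R ⊆ T ∧ (∀ a ∈ T, a ∉ cl d) ∧ T.card = 3 := fun d R hR hRd => by
      have h1 : R ⊆ (cl d)ᶜ := fun a ha => Finset.mem_compl.mpr (hRd a ha)
      obtain ⟨T, hRT, hTd, hTc⟩ := Finset.exists_subsuperset_card_eq h1 hR (by
        rw [Finset.card_compl, Fintype.card_fin]
        have := (hclc d).1
        omega)
      exact ⟨T, hRT, fun a ha => Finset.mem_compl.mp (hTd ha), hTc⟩
    by_cases hb1 : n ≤ 11 ∧ ∃ a, (cl a).card + 6 = n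
    swap
    · obtain ⟨T, -, hT, hTc⟩ := ext3 ⟨0, by omega⟩ ∅ (by simp) (by simp)
      exact ⟨_, T, hT, hTc, fun a h h' => absurd ⟨h, a, h'⟩ hb1⟩
    obtain ⟨h11, a₁, ha₁⟩ := hb1
    by_cases hb2 : ∃ a, a ∉ cl a₁ ∧ (cl a).card + 6 = n
    · obtain ⟨a₂, ha₂n, ha₂⟩ := hb2
      have hdisj : Disjoint (cl a₁) (cl a₂) := Finset.disjoint_left.mpr fun b h1 h2 =>
        ha₂n (cl_trans h1 (cl_symm h2))
      obtain ⟨d, hd⟩ := Finset.card_pos.mp (show 0 < (cl a₁ ∪ cl a₂)ᶜ.card by
        rw [Finset.card_compl, Fintype.card_fin, Finset.card_union_of_disjoint hdisj]; omega)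
      rw [Finset.mem_compl, Finset.mem_union, not_or] at hd
      obtain ⟨T, hRT, hT, hTc⟩ := ext3 d {a₁, a₂} (Finset.card_le_two.trans (by omega)) (by
        intro a ha hm
        rcases Finset.mem_insert.mp ha with e | e
        · exact hd.1 (cl_symm (e ▸ hm))
        · exact hd.2 (cl_symm (Finset.mem_singleton.mp e ▸ hm)))
      refine ⟨d, T, hT, hTc, fun a _ ha => ?_⟩
      by_cases h1 : a ∈ cl a₁
      · exact ⟨a₁, hRT (by simp), cl_symm h1⟩
      by_cases h2 : a ∈ cl a₂
      · exact ⟨a₂, hRT (by simp), cl_symm h2⟩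
      exfalso
      have hd3 : Disjoint (cl a₁ ∪ cl a₂) (cl a) := Finset.disjoint_left.mpr fun b hb hb' => by
        rcases Finset.mem_union.mp hb with h | h
        · exact h1 (cl_trans h (cl_symm hb'))
        · exact h2 (cl_trans h (cl_symm hb'))
      have := Finset.card_le_univ ((cl a₁ ∪ cl a₂) ∪ cl a)
      rw [Finset.card_union_of_disjoint hd3, Finset.card_union_of_disjoint hdisj,
        Fintype.card_fin] at this
      omega
    · simp only [not_exists, not_and] at hb2
      obtain ⟨d, hd⟩ := Finset.card_pos.mp (show 0 < (cl a₁)ᶜ.card by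
        rw [Finset.card_compl, Fintype.card_fin]; omega)
      rw [Finset.mem_compl] at hd
      obtain ⟨T, hRT, hT, hTc⟩ := ext3 d {a₁} (by simp) (fun a ha hm => by
        rw [Finset.mem_singleton.mp ha] at hm
        exact hd (cl_symm hm))
      exact ⟨d, T, hT, hTc, fun a _ ha => ⟨a₁, hRT (by simp),
        cl_symm (not_not.mp fun h => hb2 a h ha)⟩⟩
  have hdT : d ∉ T := fun h => hdT' d h (mem_cl.mpr rfl)
  obtain ⟨z, π, μ, p, r, hzM, hze, -, -, -, -, hp0, -, hxp, -, -, hzp, -, horb⟩ :=
    split_plane S ho h3 hn hH hMG NC hx hxM hxn (W := insert d T)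
      (by rw [Finset.card_insert_of_notMem hdT, hTc]) (Finset.mem_insert_self d T)
      (fun a ha hne h => hdT' a ((Finset.mem_insert.mp ha).resolve_left hne) (mem_cl.mpr h))
  have hmoved : ∀ a, p a ≠ 0 → z ◆ e a ≠ e a := fun a ha h => ha
    ((mul_eq_zero.mp (show (2 : F) * p a = 0 by
      have := mem_isom.mp (hMG hzM).1 p (e a)
      rw [hzp, h, ← neg_one_smul F p, S.uf.smul_left, S.f_e] at this
      linear_combination -this)).resolve_left h2)
  have hlow : 6 ≤ (univ.filter fun a => p a ≠ 0).card := by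
    have := hsmall p hp0 hxp
    split_ifs at this <;> omega
  have hW4 : (insert d T).card = 4 := by rw [Finset.card_insert_of_notMem hdT, hTc]
  by_cases hout : ∀ a, p a ≠ 0 → a ∈ insert d T
  · have := Finset.card_le_card (show univ.filter (fun a => p a ≠ 0) ⊆ insert d T from
      fun a ha => hout a (Finset.mem_filter.mp ha).2)
    omega
  simp only [not_forall] at hout
  obtain ⟨b, hb, hbW⟩ := hout
  have hsub : univ.filter (fun a => p a ≠ 0) ⊆ insert d T ∪ {b, π b} :=
    fun a ha => Finset.mem_union.mpr (or_iff_not_imp_left.mpr fun h => by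
      have ha' := (Finset.mem_filter.mp ha).2
      simpa using horb b a hbW h (hmoved b hb) (hmoved a ha'))
  have h6 : (insert d T ∪ {b, π b}).card ≤ 6 := by
    have h1 := Finset.card_union_le (insert d T) {b, π b}
    have h2 := (Finset.card_le_two (a := b) (b := π b))
    omega
  have hfull : (univ.filter fun a => p a ≠ 0) = insert d T ∪ {b, π b} :=
    Finset.eq_of_subset_of_card_le hsub (by omega)
  have hn11 : n ≤ 11 := by
    by_contra h
    have := hsmall p hp0 hxp
    rw [if_neg h, hfull] at this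
    omega
  obtain ⟨a, ha⟩ := Finset.card_pos.mp (show 0 < (univ.filter fun a => p a ≠ 0)ᶜ.card by
    rw [Finset.card_compl, Fintype.card_fin, hfull]; omega)
  have hpa : p a = 0 := by simpa using ha
  have hs := hsupp hp0 hxp hpa
  have hca : (cl a).card + 6 = n := by
    have h1 := congrArg Finset.card hs
    rw [Finset.card_compl, Fintype.card_fin, hfull] at h1
    have := (hclc a).1
    rw [hfull] at hlow
    omega
  obtain ⟨c, hcT, hca'⟩ := hbig a hn11 hca
  have : p c ≠ 0 := (Finset.mem_filter.mp (hfull ▸ Finset.mem_union_left _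
    (Finset.mem_insert_of_mem hcT) : c ∈ univ.filter fun a => p a ≠ 0)).2
  exact this ((hline hp0 hxp hpa c).mpr hca')

/-- **Odd `q`.** Without coordinate images everything is monomial. -/
theorem all_mono_odd (ho : Odd q) (h3 : 3 ≤ q) (hn : 10 ≤ n)
    (hH : ∀ h ∈ su f, Mono h → h ∈ M) (hMG : M ≤ su f) (NC : NoCoord M) {g : GL (Fin n) F}
    (hg : g ∈ M) : Mono g := by
  classical
  have h2 := two_ne S ho
  have hgi := (hMG hg).1
  have small : ∀ i j, i ≠ j → (univ.filter fun a => (g ◆ e i) a ≠ 0 ∨ (g ◆ e j) a ≠ 0).card ≤ 4 := by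
    intro i j hij
    set u := g ◆ e i with hu
    set v := g ◆ e j with hv
    obtain ⟨t, hti, hte, htd⟩ := S.exists_mono 1
      (Function.update (Function.update (1 : Fin n → F) i (-1)) j (-1)) (fun a => by
        by_cases h : a = j
        · subst h; simp
        · by_cases h' : a = i
          · subst h'; simp [h]
          · simp [h, h'])
    simp only [Equiv.Perm.coe_one, id_eq] at hte
    rw [Fintype.prod_eq_mul i j hij (fun x hx => by simp [hx.1, hx.2]), Function.update_self,
      Function.update_of_ne hij, Function.update_self] at htd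
    have htM : t ∈ M := hH t ⟨hti, (mem_special_iff S).mpr (by simpa using htd)⟩
      (mono_of_perm 1 fun a => ⟨_, hte a⟩)
    have hx : Refl f (g * t * g⁻¹) u v := by
      refine ⟨(mem_isom.mp hgi _ _).trans (by rw [S.e_e, if_pos rfl]),
        (mem_isom.mp hgi _ _).trans (by rw [S.e_e, if_pos rfl]),
        (mem_isom.mp hgi _ _).trans (by rw [S.e_e, if_neg hij]), fun w => ?_⟩
      have hco : ∀ a : Fin n, ((g⁻¹ : GL (Fin n) F) ◆ w) a = f w (g ◆ e a) := fun a => by
        rw [← S.f_e ((g⁻¹ : GL (Fin n) F) ◆ w) a, ← mem_isom.mp hgi, mulVec_inv_mulVec]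
      have htx : ∀ y, t ◆ y = y - (2 * y i) • e i - (2 * y j) • e j := fun y => by
        funext a
        have := mono_ap_coord (π := 1) (fun a => hte a) y a
        rw [Equiv.Perm.one_apply] at this
        rw [this]
        by_cases h : a = j
        · subst h; simp [e, hij.symm]; ring
        · by_cases h' : a = i
          · subst h'; simp [e, h]; ring
          · simp [e, h, h']
      rw [ap_mul, ap_mul, htx, mulVec_sub, mulVec_sub, mulVec_smul, mulVec_smul, mulVec_inv_mulVec,
        hco, hco]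
    have hxM : g * t * g⁻¹ ∈ M := mul_mem (mul_mem hg htM) (inv_mem hg)
    obtain ⟨π, μ, hπμ⟩ := (mono_of_refl S ho h3 hn hH hMG NC hx hxM).exists_perm
    set x := g * t * g⁻¹ with hxd
    have hxe : ∀ a, x ◆ e a = μ a • e (π a) := fun a => (hπμ a).2
    have hπ : ∀ a, π (π a) = a := fun a => by
      have h : (x * x) ◆ e a = e a := by rw [Refl.sq S hx, Units.val_one, one_mulVec]
      rw [ap_mul, hxe, mulVec_smul, hxe, smul_smul] at h
      by_contra hp
      have := congrFun h (π (π a))
      simp [e, hp] at this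
      rcases this with h' | h'
      exacts [(hπμ a).1 h', (hπμ _).1 h']
    set w : Fin n → Fin n → F := fun b => e b - x ◆ e b with hw
    refine orbit_bound hπ _ w (fun a ha h => ?_) (fun a _ b h1 h2 => by simp [hw, hxe, e, h1, h2])
      (fun b => f (w b) u) (fun b => f (w b) v) (fun a b c _ _ _ k k1 k2 => ?_)
    · rcases (Finset.mem_filter.mp ha).2 with h' | h' <;>
      · have hfix : x ◆ e a = e a := by
          by_cases hp : π a = a
          · simp [hw, hxe, e, hp] at h
            rw [hxe, hp, ← sub_eq_zero.mp h, one_smul]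
          · simp [hw, hxe, e, Ne.symm hp] at h
        have e1 := mem_isom.mp (hMG hxM).1 (e a) u
        have e2 := mem_isom.mp (hMG hxM).1 (e a) v
        rw [hfix, (Refl.neg S hx).1, ← neg_one_smul F u, hsmul_right S.uf, S.e_f] at e1
        rw [hfix, (Refl.neg S hx).2, ← neg_one_smul F v, hsmul_right S.uf, S.e_f] at e2
        simp only [map_neg, map_one] at e1 e2
        first
        | exact h' ((map_eq_zero σ).mp ((mul_eq_zero.mp (show (2 : F) * σ (u a) = 0 by
            linear_combination -e1)).resolve_left h2))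
        | exact h' ((map_eq_zero σ).mp ((mul_eq_zero.mp (show (2 : F) * σ (v a) = 0 by
            linear_combination -e2)).resolve_left h2))
    · set K := k 0 • w a + k 1 • w b + k 2 • w c with hK
      have hfix : x ◆ K = K := Refl.fix S hx
        (by simp only [hK, S.uf.add_left, S.uf.smul_left]; exact k1)
        (by simp only [hK, S.uf.add_left, S.uf.smul_left]; exact k2)
      have hneg : x ◆ K = -K := by
        have : ∀ b, x ◆ w b = -w b := fun b => by
          simp only [hw, mulVec_sub, ← ap_mul, Refl.sq S hx, Units.val_one, one_mulVec, neg_sub]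
        simp only [hK, mulVec_add, mulVec_smul, this]; module
      funext i
      have := congrFun (hfix.symm.trans hneg) i
      exact (mul_eq_zero.mp (show (2 : F) * K i = 0 by
        simp at this; linear_combination this)).resolve_left h2
  have room : ∀ i j : Fin n, i ≠ j → ∃ m, (g ◆ e i) m = 0 ∧ (g ◆ e j) m = 0 := fun i j hij => by
    obtain ⟨m, -, hm⟩ := Finset.exists_mem_notMem_of_card_lt_card (t := univ)
      (s := univ.filter fun a => (g ◆ e i) a ≠ 0 ∨ (g ◆ e j) a ≠ 0)
      (by have := small i j hij; rw [Finset.card_univ, Fintype.card_fin]; omega)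
    exact ⟨m, by simpa [not_or] using hm⟩
  obtain ⟨i, -, j, -, k, -, hij, hik, hjk⟩ := Finset.two_lt_card.mp
    (show 2 < (univ : Finset (Fin n)).card by simp; omega)
  obtain ⟨m, h1, h2⟩ := room i j hij
  obtain ⟨m', h1', h2'⟩ := room i k hik
  exact mono_of_three S h3 hH hMG NC hg hij hik hjk h1 h2 h1' h2'

end Cfsg.Agent.UDec18
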