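import Cfsg.Agent.UDec18.Plane
import Cfsg.Agent.UDec18.Block

/-!
Lines (`k = 1`): from an element fixing a basis vector without being monomial to all roots
(helper18).
-/

set_option autoImplicit false
set_option linter.unusedSectionVars false

namespace Cfsg.Agent.UDec18

open Matrix Cfsg.Agent.MaxSub Cfsg.Agent.HermStab
open Finset (univ)

variable {F : Type*} [Field F] [Fintype F] {n q : ℕ}
variable {σ : F ≃+* F} {f : (Fin n → F) → (Fin n → F) → F} {M : Subgroup (GL (Fin n) F)}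

local notation:73 g:74 " ◆ " x:73 => (Units.val g) *ᵥ x

/-- Monomial. -/
abbrev Mono (g : GL (Fin n) F) : Prop := Keeps (id : Fin n → Fin n) g

theorem mono_of_perm {g : GL (Fin n) F} (p : Equiv.Perm (Fin n))
    (h : ∀ a, ∃ c : F, g ◆ e a = c • e (p a)) : Mono g :=
  keeps_of_monomial p p (fun _ => rfl) h

theorem Mono.exists_perm {g : GL (Fin n) F} (h : Mono g) :
    ∃ (p : Equiv.Perm (Fin n)) (μ : Fin n → F), ∀ a, μ a ≠ 0 ∧ g ◆ e a = μ a • e (p a) := by
  obtain ⟨π, hπ⟩ := h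
  have heq : ∀ a, g ◆ e a = (g ◆ e a) (π a) • e (π a) := fun a => funext fun b => by
    by_cases hb : b = π a
    · simp [e, hb]
    · have : (g ◆ e a) b = 0 := not_not.mp fun h => hb (hπ a b h)
      simp [e, hb, this]
  have hne : ∀ a, (g ◆ e a) (π a) ≠ 0 := fun a h => mulVec_ne_zero g
    (fun h' : e a = 0 => by simpa [e] using congrFun h' a) (by rw [heq a, h, zero_smul])
  have hinj : Function.Injective π := fun a b hab => by
    have h1 : g ◆ ((g ◆ e b) (π b) • e a - (g ◆ e a) (π a) • e b) = 0 := by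
      rw [mulVec_sub, mulVec_smul, mulVec_smul]
      conv_lhs => rw [heq a, heq b]
      simp [hab, e, smul_smul, mul_comm]
    by_contra hne'
    have := congrFun (mulVec_injective g (h1.trans (mulVec_zero _).symm)) a
    simp [e, hne'] at this
    exact hne b (by simpa [e] using this)
  exact ⟨Equiv.ofBijective π (Finite.injective_iff_bijective.mp hinj),
    fun a => (g ◆ e a) (π a), fun a => ⟨hne a, heq a⟩⟩

theorem Mono.inv {g : GL (Fin n) F} (h : Mono g) : Mono g⁻¹ := by
  obtain ⟨p, μ, hp⟩ := h.exists_perm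
  refine mono_of_perm p.symm fun a => ⟨(μ (p.symm a))⁻¹, mulVec_injective g ?_⟩
  show g ◆ ((g⁻¹ : GL (Fin n) F) ◆ e a) = g ◆ ((μ (p.symm a))⁻¹ • e (p.symm a))
  rw [mulVec_inv_mulVec, mulVec_smul, (hp _).2, smul_smul, inv_mul_cancel₀ (hp _).1, one_smul,
    Equiv.apply_symm_apply]

variable (S : Std q σ f)
include S

theorem norm_coeff {g : GL (Fin n) F} (hg : g ∈ isom f) {a b : Fin n} {c : F}
    (h : g ◆ e a = c • e b) : c * σ c = 1 := by
  have := mem_isom.mp hg (e a) (e a)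
  rwa [h, S.uf.smul_left, hsmul_right S.uf, S.e_e, S.e_e, if_pos rfl, if_pos rfl, mul_one] at this

theorem fix_zero {g : GL (Fin n) F} (hg : g ∈ isom f) {i : Fin n} (hi : g ◆ e i = e i)
    (x : Fin n → F) : (g ◆ x) i = x i := by
  have h := mem_isom.mp hg x (e i)
  rwa [hi, S.f_e, S.f_e] at h

/-- An element with a coordinate image gives one fixing that coordinate. -/
theorem exists_fix (hn : 3 ≤ n) (hH : ∀ h ∈ su f, Mono h → h ∈ M) (hMG : M ≤ su f)
    {g : GL (Fin n) F} (hg : g ∈ M) (hgH : ¬ Mono g) {i a : Fin n} {c : F}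
    (h : g ◆ e i = c • e a) : ∃ g' ∈ M, ¬ Mono g' ∧ g' ◆ e i = e i := by
  have hc := norm_coeff S (hMG hg).1 h
  have hc0 : c ≠ 0 := fun h0 => by simp [h0] at hc
  obtain ⟨z, -, hz⟩ := Finset.exists_mem_notMem_of_card_lt_card (s := ({a} : Finset (Fin n)))
    (t := univ) (by simp; omega)
  obtain ⟨k, hk, hkm, hke⟩ := S.exists_mono_su (Equiv.swap a i) (Function.update 1 a c⁻¹)
    (fun j => by
      by_cases hj : j = a
      · subst hj; rw [Function.update_self, map_inv₀, ← mul_inv, hc, inv_one]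
      · simp [hj]) z
  have hkM : Mono k := mono_of_perm (Equiv.swap a i) fun b =>
    let ⟨μ, _, hμ⟩ := hkm b; ⟨μ, hμ⟩
  refine ⟨k * g, mul_mem (hH k hk hkM) hg, fun hm => hgH ?_, ?_⟩
  · have := keeps_mul hkM.inv hm
    rwa [inv_mul_cancel_left] at this
  · rw [ap_mul, h, mulVec_smul, hke a (fun e => hz (by simp [e])), Function.update_self,
      Equiv.swap_apply_left, smul_smul, mul_inv_cancel₀ hc0, one_smul]

/-- `u` is the centre of a full homology group inside `N`. -/
def HomC (S : Std q σ f) (N : Subgroup (GL (Fin n) F)) (u : Fin n → F) : Prop :=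
  f u u = 1 ∧ ∀ l ∈ S.circ, ∃ h ∈ N, ∀ x, h ◆ x = x + ((l - 1) * f x u) • u

theorem HomC.map {N : Subgroup (GL (Fin n) F)} {u : Fin n → F} (hu : HomC S N u)
    {k : GL (Fin n) F} (hk : k ∈ N) (hki : k ∈ isom f) : HomC S N (k ◆ u) := by
  refine ⟨(mem_isom.mp hki u u).trans hu.1, fun l hl => ?_⟩
  obtain ⟨h, hh, hhx⟩ := hu.2 l hl
  refine ⟨k * h * k⁻¹, mul_mem (mul_mem hk hh) (inv_mem hk), fun x => ?_⟩
  rw [ap_mul, ap_mul, hhx, mulVec_add, mulVec_inv_mulVec, mulVec_smul]
  congr 3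
  conv_rhs => rw [← mulVec_inv_mulVec k x, mem_isom.mp hki]

/-- Two homology centres in general position. -/
theorem exists_homs (h3 : 3 ≤ q) {N : Subgroup (GL (Fin n) F)} {i₀ : Fin n}
    (hN : ∀ h ∈ N, h ∈ isom f ∧ h ◆ e i₀ = e i₀)
    (monoN : ∀ ν : Fin n → F, (∀ a, ν a * σ (ν a) = 1) → ν i₀ = 1 →
      ∃ h ∈ N, ∀ a, h ◆ e a = ν a • e a)
    {g : GL (Fin n) F} (hgN : g ∈ N) (hgH : ¬ Mono g) :
    ∃ u o, HomC S N u ∧ HomC S N o ∧ u i₀ = 0 ∧ o i₀ = 0 ∧ f o u ≠ 0 ∧
      f o u * σ (f o u) ≠ 1 := by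
  classical
  have hgi := (hN g hgN).2
  let O : Set (Fin n → F) := {u | u i₀ = 0 ∧ HomC S N u}
  have conjO : ∀ k ∈ N, ∀ u ∈ O, k ◆ u ∈ O := fun k hk u ⟨hu0, hu⟩ =>
    ⟨(fix_zero S (hN k hk).1 (hN k hk).2 u).trans hu0, HomC.map S hu hk (hN k hk).1⟩
  have heO : ∀ j, j ≠ i₀ → (e j : Fin n → F) ∈ O := fun j hj => by
    refine ⟨by simp [e, hj.symm], by rw [S.e_e, if_pos rfl], fun l hl => ?_⟩
    obtain ⟨h, hh, hhe⟩ := monoN (Function.update 1 j l) (fun a => by
      by_cases ha : a = j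
      · subst ha; simpa using S.mem_circ.mp hl
      · simp [ha]) (by simp [hj.symm])
    refine ⟨h, hh, fun x => ?_⟩
    rw [ap_eq_sum]
    funext b
    simp only [hhe, Finset.sum_apply, Pi.smul_apply, Pi.add_apply, smul_eq_mul, S.f_e]
    rw [Finset.sum_eq_single b (fun c _ hc => by simp [e, hc.symm]) (by simp)]
    by_cases hb : b = j
    · subst hb; simp [e]; ring
    · simp [e, hb]
  suffices ∃ u ∈ O, ∃ o ∈ O, f o u ≠ 0 ∧ f o u * σ (f o u) ≠ 1 by
    obtain ⟨u, ⟨hu0, hu⟩, o, ⟨ho0, ho⟩, h⟩ := this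
    exact ⟨u, o, hu, ho, hu0, ho0, h⟩
  obtain ⟨j, hj⟩ : ∃ j, ∀ b (c : F), g ◆ e j ≠ c • e b := by
    by_contra hc
    simp only [not_exists, not_forall, not_not] at hc
    choose π c hπ using hc
    refine hgH ⟨π, fun a b hab => ?_⟩
    rw [hπ a] at hab
    by_contra hb
    simp only [id_eq] at hb
    simp [e, hb] at hab
  have hji : j ≠ i₀ := fun h => hj i₀ 1 (by rw [h, hgi, one_smul])
  set p := g ◆ e j with hp
  have hpO : p ∈ O := conjO g hgN _ (heO j hji)
  have hpi : p i₀ = 0 := hpO.1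
  have hp0 : p ≠ 0 := fun h => by simpa [h, hzero_left S.uf] using hpO.2.1
  obtain ⟨a, ha⟩ := Function.ne_iff.mp hp0
  have ha' : a ≠ i₀ := fun h => ha (h ▸ hpi)
  by_cases hall : ∀ b, p b ≠ 0 → p b * σ (p b) = 1
  swap
  · simp only [not_forall] at hall
    obtain ⟨b, hb, hb1⟩ := hall
    exact ⟨e b, heO b (fun h => hb (h ▸ hpi)), p, hpO, by rw [S.f_e]; exact hb,
      by rw [S.f_e]; exact hb1⟩
  obtain ⟨b, hb, hba⟩ : ∃ b, p b ≠ 0 ∧ b ≠ a := by
    by_contra hc
    simp only [not_exists, not_and, not_not] at hc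
    refine hj a (p a) (funext fun i => ?_)
    by_cases hi : i = a
    · simp [e, hi]
    · simp [e, hi]; exact not_not.mp fun h => hi (hc i h)
  have hb' : b ≠ i₀ := fun h => hb (h ▸ hpi)
  have key : ∀ ξ η : F, ξ ∈ S.circ → η ∈ S.circ → 1 + (ξ - 1) + (η - 1) ≠ 0 →
      (1 + (ξ - 1) + (η - 1)) * σ (1 + (ξ - 1) + (η - 1)) ≠ 1 →
      ∃ u ∈ O, ∃ o ∈ O, f o u ≠ 0 ∧ f o u * σ (f o u) ≠ 1 := by
    intro ξ η hξ hη h0 h1
    obtain ⟨d, hd, hde⟩ := monoN (Function.update (Function.update 1 a ξ) b η) (fun i => by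
      by_cases h : i = b
      · subst h; simpa using S.mem_circ.mp hη
      · by_cases h' : i = a
        · subst h'; simpa [h] using S.mem_circ.mp hξ
        · simp [h, h']) (by simp [ha'.symm, hb'.symm])
    have hφ : f (d ◆ p) p = 1 + (ξ - 1) + (η - 1) := by
      rw [ap_eq_sum, S.sum]
      simp only [hde, Finset.sum_apply, Pi.smul_apply, smul_eq_mul]
      have hs : ∀ i, (∑ l, p l * (Function.update (Function.update (1 : Fin n → F) a ξ) b η l *
          (e l : Fin n → F) i)) * σ (p i) =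
          p i * σ (p i) + (if i = a then ξ - 1 else 0) + (if i = b then η - 1 else 0) := by
        intro i
        rw [Finset.sum_eq_single i (fun c _ hc => by simp [e, hc.symm]) (by simp)]
        by_cases h : i = b
        · subst h
          rw [if_pos rfl, if_neg hba, Function.update_self]
          simp [e]
          linear_combination (η - 1) * hall i hb
        · by_cases h' : i = a
          · subst h'
            rw [if_pos rfl, if_neg h, Function.update_of_ne h, Function.update_self]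
            simp [e]
            linear_combination (ξ - 1) * hall i ha
          · simp [e, h, h']
      rw [Finset.sum_congr rfl fun i _ => hs i, Finset.sum_add_distrib, Finset.sum_add_distrib,
        ← S.self_sum, hpO.2.1]
      simp
    exact ⟨p, hpO, d ◆ p, conjO d hd p hpO, by rw [hφ]; exact h0, by rw [hφ]; exact h1⟩
  by_cases h2 : (2 : F) = 0
  · -- characteristic two
    have h11 : σ (1 : F) = 1 := map_one σ
    have hcard := S.card_le_two_image (A := (1 : F)) one_ne_zero 0 S.circ subset_rfl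
    rw [S.card_circ] at hcard
    obtain ⟨y, hy, hyn⟩ := Finset.exists_mem_notMem_of_card_lt_card (s := ({0, 1} : Finset F))
      (t := S.circ.image fun ξ => (1 : F) * ξ + σ ((1 : F) * ξ) + 0) (by
        refine Finset.card_le_two.trans_lt ?_
        by_contra hle
        have h4 : q ≠ 3 := fun h => by
          have := FiniteField.cast_card_eq_zero (K := F)
          rw [S.card, h] at this
          exact one_ne_zero (α := F) (by push_cast at this; linear_combination this - 4 * h2)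
        omega)
    obtain ⟨ξ, hξ, rfl⟩ := Finset.mem_image.mp hy
    simp only [one_mul, add_zero, Finset.mem_insert, Finset.mem_singleton, not_or] at hyn
    have hξ' : σ ξ ∈ S.circ := by rw [S.mem_circ, S.inv, mul_comm]; exact S.mem_circ.mp hξ
    refine key ξ (σ ξ) hξ hξ' (fun h => hyn.2 (by linear_combination h + h2 * 0 + 0)) ?_
    intro h
    simp only [map_add, map_sub, map_one, S.inv] at h
    refine hyn.1 ?_
    have : (ξ + σ ξ) * (ξ + σ ξ) = 0 := by linear_combination h + (ξ + σ ξ) * h2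
    exact mul_self_eq_zero.mp this
  · obtain ⟨ξ, hξ, hne⟩ := Finset.exists_mem_notMem_of_card_lt_card (s := ({1, -1} : Finset F))
      (t := S.circ) (Finset.card_le_two.trans_lt (by rw [S.card_circ]; omega))
    simp only [Finset.mem_insert, Finset.mem_singleton, not_or] at hne
    have hξN := S.mem_circ.mp hξ
    refine key ξ ξ hξ hξ (fun h => ?_) fun h => ?_
    · have h' : 2 * ξ = 1 := by linear_combination h
      have h'' : 2 * σ ξ = 1 := by
        have := congrArg σ h'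
        rwa [map_mul, map_ofNat, map_one] at this
      refine hne.2 ?_
      have h3' : (3 : F) = 0 := by linear_combination (2 * σ ξ) * h' + h'' - 4 * hξN
      linear_combination -h' + ξ * h3'
    · simp only [map_add, map_sub, map_one] at h
      have h' : ξ + σ ξ = 2 := mul_left_cancel₀ h2 (by linear_combination -h + 4 * hξN)
      refine hne.1 (sub_eq_zero.mp (mul_self_eq_zero.mp ?_))
      linear_combination ξ * h' - hξN

/-- Two homology groups in general position generate transvections. -/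
theorem centre_of_homs {N : Subgroup (GL (Fin n) F)} {u o : Fin n → F} {i₀ : Fin n}
    (hu : HomC S N u) (ho : HomC S N o) (hu0 : u i₀ = 0) (ho0 : o i₀ = 0)
    (hφ0 : f o u ≠ 0) (hφ1 : f o u * σ (f o u) ≠ 1) :
    ∃ v : Fin n → F, v ≠ 0 ∧ v i₀ = 0 ∧ f v v = 0 ∧
      ∀ c : F, c + σ c = 0 → ∃ h ∈ N, ∀ x, h ◆ x = x + (c * f x v) • v := by
  classical
  -- the plane
  set φ := f o u with hφ
  set e' := o - φ • u with he'
  set ν := 1 - φ * σ φ with hν
  have hν0 : ν ≠ 0 := sub_ne_zero.mpr fun h => hφ1 h.symm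
  have hσν : σ ν = ν := by rw [hν, map_sub, map_one, S.norm_real]
  have hue : f e' u = 0 := by
    rw [he', hsub_left S.uf, S.uf.smul_left, hu.1, mul_one, ← hφ, sub_self]
  have hue' : f u e' = 0 := hswap_zero S.uf hue
  have hee : f e' e' = ν := by
    conv_lhs => arg 2; rw [he']
    rw [hsub_right S.uf, hsmul_right S.uf, hue, mul_zero, sub_zero, he', hsub_left S.uf,
      S.uf.smul_left, ho.1, S.uf.herm u o, ← hφ]
  have hfo : ∀ x, f x o = σ φ * f x u + f x e' := fun x => by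
    rw [he', hsub_right S.uf, hsmul_right S.uf]; ring
  let E : (Fin 2 → F) → (Fin n → F) := fun z => z 0 • u + z 1 • e'
  let cc : (Fin n → F) → (Fin 2 → F) := fun x => ![f x u, f x e' / ν]
  have hcE : ∀ z, cc (E z) = z := fun z => funext fun i => by
    fin_cases i
    · simp [cc, E, S.uf.add_left, S.uf.smul_left, hu.1, hue]
    · simp [cc, E, S.uf.add_left, S.uf.smul_left, hue', hee, hν0]
  let B := f2 σ ν
  have hEE : ∀ y z, f (E y) (E z) = B y z := fun y z => by
    simp [E, B, f2, S.uf.add_left, S.uf.smul_left, hadd_right S.uf, hsmul_right S.uf, hu.1, hue,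
      hue', hee]
    ring
  have hcc : ∀ x z, f x (E z) = B (cc x) z := fun x z => by
    simp only [E, B, f2, cc, hadd_right S.uf, hsmul_right S.uf, cons_val_zero, cons_val_one]
    field_simp
    
  let lift : GL (Fin 2) F → (Fin n → F) → (Fin n → F) := fun A x =>
    x + E (A ◆ cc x - cc x)
  let L : Subgroup (GL (Fin 2) F) :=
    { carrier := {A | (∀ x y, B (A ◆ x) (A ◆ y) = B x y) ∧ ∃ h ∈ N, ∀ x, h ◆ x = lift A x}
      one_mem' := ⟨fun x y => by simp, 1, one_mem _, fun x => by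
        simp only [lift, Units.val_one, one_mulVec, sub_self]; simp [E]⟩
      mul_mem' := fun {A A'} ⟨hA, h, hh, hhx⟩ ⟨hA', h', hh', hhx'⟩ =>
        ⟨fun x y => by rw [ap_mul, ap_mul, hA, hA'], h * h', mul_mem hh hh', fun x => by
          rw [ap_mul, hhx', hhx]
          have e1 : cc (lift A' x) = A' ◆ cc x := by
            funext i
            have hlin : cc (lift A' x) i = cc x i + cc (E (A' ◆ cc x - cc x)) i := by
              fin_cases i <;> simp [lift, cc, S.uf.add_left, add_div]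
            rw [hlin, hcE]; simp
          show lift A' x + E (A ◆ cc (lift A' x) - cc (lift A' x)) = lift (A * A') x
          rw [e1]
          simp only [lift, E, ap_mul, Pi.sub_apply, sub_smul]
          abel⟩
      inv_mem' := fun {A} ⟨hA, h, hh, hhx⟩ => ⟨fun x y => by
          conv_rhs => rw [← mulVec_inv_mulVec A x, ← mulVec_inv_mulVec A y, hA],
        h⁻¹, inv_mem hh, fun x => mulVec_injective h (by
          show h ◆ ((h⁻¹ : GL (Fin n) F) ◆ x) = h ◆ lift A⁻¹ x
          rw [mulVec_inv_mulVec, hhx]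
          have e1 : cc (lift A⁻¹ x) = (A⁻¹ : GL (Fin 2) F) ◆ cc x := by
            funext i
            have hlin : cc (lift A⁻¹ x) i =
                cc x i + cc (E ((A⁻¹ : GL (Fin 2) F) ◆ cc x - cc x)) i := by
              fin_cases i <;> simp [lift, cc, S.uf.add_left, add_div]
            rw [hlin, hcE]; simp
          show x = lift A⁻¹ x + E (A ◆ cc (lift A⁻¹ x) - cc (lift A⁻¹ x))
          rw [e1, mulVec_inv_mulVec]
          simp only [lift, E, Pi.sub_apply, sub_smul]
          abel)⟩ }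
  let hom : ∀ (z : Fin 2 → F), B z z = 1 → HomC S N (E z) → ∀ l ∈ S.circ, ∃ A ∈ L,
      ∀ x, A ◆ x = x + ((l - 1) * B x z) • z := by
    intro z hz hzO l hl
    obtain ⟨h, hh, hhx⟩ := hzO.2 l hl
    have hap : ∀ x, (1 + vecMulVec ((l - 1) • z) ![σ (z 0), ν * σ (z 1)]) *ᵥ x =
        x + ((l - 1) * B x z) • z := fun x => by
      rw [add_mulVec, one_mulVec, vecMulVec_mulVec, op_smul_eq_smul, smul_smul]
      congr 2
      simp [B, f2, dotProduct, Fin.sum_univ_two]; ring
    have hdet : (1 + vecMulVec ((l - 1) • z) ![σ (z 0), ν * σ (z 1)]).det = l := by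
      rw [vecMulVec_eq Unit, det_one_add_replicateCol_mul_replicateRow]
      simp [dotProduct, Fin.sum_univ_two]
      have h1 : z 0 * σ (z 0) + ν * z 1 * σ (z 1) = 1 := hz
      linear_combination (l - 1) * h1
    refine ⟨GeneralLinearGroup.mkOfDetNeZero _ (by rw [hdet]; exact S.circ_ne_zero hl),
      ⟨fun x y => ?_, h, hh, fun x => ?_⟩, hap⟩
    · show B ((1 + vecMulVec _ _) *ᵥ x) ((1 + vecMulVec _ _) *ᵥ y) = B x y
      rw [hap, hap]
      have h1 : z 0 * σ (z 0) + ν * z 1 * σ (z 1) = 1 := hz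
      have h2 := S.mem_circ.mp hl
      simp only [B, f2, Pi.add_apply, Pi.smul_apply, smul_eq_mul, map_add, map_mul, map_sub,
        map_one, S.inv, hσν]
      linear_combination ((l - 1) * (σ l - 1) * (x 0 * σ (z 0) + ν * x 1 * σ (z 1)) *
          (z 0 * σ (y 0) + ν * z 1 * σ (y 1))) * h1
        + ((x 0 * σ (z 0) + ν * x 1 * σ (z 1)) * (z 0 * σ (y 0) + ν * z 1 * σ (y 1))) * h2
    · rw [hhx]
      show _ = x + E ((1 + vecMulVec _ _) *ᵥ cc x - cc x)
      rw [hap, add_sub_cancel_left, hcc]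
      simp [E, smul_smul, smul_add]
  obtain ⟨w, hw0, hww, hw⟩ : ∃ w : Fin 2 → F, w ≠ 0 ∧ B w w = 0 ∧
      ∀ c : F, c + σ c = 0 → ∃ h ∈ N, ∀ x, h ◆ x = x + (c * f x (E w)) • E w := by
    -- adjoin the scalars
    let scal : F → GL (Fin 2) F → Prop := fun c Z => ∀ x, Z ◆ x = c • x
    let L' : Subgroup (GL (Fin 2) F) :=
      { carrier := {A | ∃ A₀ ∈ L, ∃ c ∈ S.circ, ∀ x, A ◆ x = c • (A₀ ◆ x)}
        one_mem' := ⟨1, one_mem _, 1, S.one_mem_circ, fun x => by simp⟩
        mul_mem' := fun {A A'} ⟨A₀, hA₀, c, hc, hA⟩ ⟨A₁, hA₁, d, hd, hA'⟩ =>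
          ⟨A₀ * A₁, mul_mem hA₀ hA₁, c * d, by
            rw [S.mem_circ, map_mul]
            linear_combination (d * σ d) * S.mem_circ.mp hc + S.mem_circ.mp hd, fun x => by
            rw [ap_mul, hA', hA, mulVec_smul, ap_mul, smul_smul]⟩
        inv_mem' := fun {A} ⟨A₀, hA₀, c, hc, hA⟩ =>
          ⟨A₀⁻¹, inv_mem hA₀, c⁻¹, by
            rw [S.mem_circ, map_inv₀, ← mul_inv, S.mem_circ.mp hc, inv_one],
            fun x => mulVec_injective A (by
            show A ◆ ((A⁻¹ : GL (Fin 2) F) ◆ x) = A ◆ (c⁻¹ • ((A₀⁻¹ : GL (Fin 2) F) ◆ x))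
            rw [mulVec_inv_mulVec, mulVec_smul, hA, mulVec_inv_mulVec, smul_smul,
              inv_mul_cancel₀ (S.circ_ne_zero hc), one_smul])⟩ }
    have hscal : ∀ l ∈ S.circ, ∃ A ∈ L', ∀ x, A ◆ x = l • x := fun l hl => by
      have h : (l • (1 : Matrix (Fin 2) (Fin 2) F)).det ≠ 0 := by
        simp [S.circ_ne_zero hl]
      refine ⟨GeneralLinearGroup.mkOfDetNeZero _ h, ⟨1, one_mem _, l, hl, fun x => ?_⟩, fun x => ?_⟩
      · show (l • (1 : Matrix (Fin 2) (Fin 2) F)) *ᵥ x = _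
        simp [smul_mulVec]
      · show (l • (1 : Matrix (Fin 2) (Fin 2) F)) *ᵥ x = _
        simp [smul_mulVec]
    have hBsm : ∀ (a b : F) x y, B (a • x) (b • y) = a * σ b * B x y := fun a b x y => by
      simp [B, f2, map_mul]; ring
    have incl : ∀ A ∈ L, A ∈ L' := fun A hA => ⟨A, hA, 1, S.one_mem_circ, fun x => by simp⟩
    have hE0 : E ![1, 0] = u := by simp [E]
    have hE1 : E ![φ, 1] = o := by simp [E, e']
    obtain ⟨w, hw0, hww, hw⟩ := plane_transvections S hσν hν0 hφ0 (by rw [hν]; ring) L'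
      (fun A ⟨A₀, hA₀, c, hc, hA⟩ x y => by
        show B _ _ = B _ _
        rw [hA, hA, hBsm, hA₀.1, S.mem_circ.mp hc, one_mul]) hscal
      (fun l hl => by
        obtain ⟨A, hA, hAx⟩ := hom ![1, 0] (by simp [B, f2]) (by rw [hE0]; exact hu) l hl
        refine ⟨A, incl A hA, fun x => ?_⟩
        rw [hAx]
        funext i
        fin_cases i <;> simp [B, f2]
        ring)
      (fun l hl => by
        obtain ⟨A, hA, hAx⟩ := hom ![φ, 1] (by simp [B, f2, hν]) (by rw [hE1]; exact ho) l hl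
        exact ⟨A, incl A hA, hAx⟩)
    refine ⟨w, hw0, hww, fun c hc => ?_⟩
    obtain ⟨T, ⟨A₀, hA₀, l, hl, hT⟩, hTx⟩ := hw c hc
    -- raise to the power `q + 1`
    have hl0 := S.circ_ne_zero hl
    have hA₀x : ∀ m : ℕ, ∀ x, (A₀ ^ m) ◆ x = (l⁻¹) ^ m • (x + (((m : F) * c) * B x w) • w) := by
      intro m
      induction m with
      | zero => intro x; simp
      | succ m ih =>
        intro x
        have h1 : A₀ ◆ x = l⁻¹ • (x + (c * B x w) • w) := by
          show _ = l⁻¹ • (x + (c * f2 σ ν x w) • w)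
          rw [← hTx, hT, smul_smul, inv_mul_cancel₀ hl0, one_smul]
        rw [pow_succ, ap_mul, h1, mulVec_smul, ih, smul_smul, ← pow_succ']
        congr 1
        have hB : B (x + (c * B x w) • w) w = B x w := by
          have : B (x + (c * B x w) • w) w = B x w + (c * B x w) * B w w := by
            simp [B, f2]; ring
          rw [this, show B w w = 0 from hww, mul_zero, add_zero]
        rw [hB, Nat.cast_succ]
        module
    obtain ⟨-, h, hh, hhx⟩ := pow_mem hA₀ (q + 1)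
    refine ⟨h, hh, fun x => ?_⟩
    have hq0 : (q : F) = 0 := by
      have := FiniteField.cast_card_eq_zero (K := F)
      rw [S.card] at this
      simpa using this
    have hl1 : (l⁻¹) ^ (q + 1) = 1 := by
      rw [inv_pow, ← S.norm_eq, S.mem_circ.mp hl, inv_one]
    rw [hhx]
    show x + E ((A₀ ^ (q + 1)) ◆ cc x - cc x) = _
    rw [hA₀x, hl1, one_smul, add_sub_cancel_left, Nat.cast_succ, hq0, zero_add, one_mul, ← hcc]
    simp [E, smul_smul, smul_add]
  have hiso : f (E w) (E w) = 0 := (hEE w w).trans hww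
  have hEi : E w i₀ = 0 := by
    simp [E, e', hu0, ho0]
  refine ⟨E w, fun h => hw0 ?_, hEi, hiso, hw⟩
  · rw [← hcE w, h]
    funext i
    fin_cases i <;> simp [cc, hzero_left S.uf]

/-- An element fixing a basis vector without being monomial gives a full transvection group. -/
theorem centre_of_fix (h3 : 3 ≤ q) (hH : ∀ h ∈ su f, Mono h → h ∈ M) (hMG : M ≤ su f)
    {g : GL (Fin n) F} (hg : g ∈ M) (hgH : ¬ Mono g) {i₀ : Fin n} (hgi : g ◆ e i₀ = e i₀) :
    ∃ v : Fin n → F, v ≠ 0 ∧ v i₀ = 0 ∧ Centre σ f M v := by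
  classical
  let Δ : GL (Fin n) F → Prop := fun δ => δ ∈ isom f ∧ ∀ a, a ≠ i₀ → δ ◆ e a = e a
  have Δ₀ : ∀ δ, Δ δ → δ ◆ e i₀ = (δ ◆ e i₀) i₀ • e i₀ := fun δ hδ => funext fun b => by
    by_cases hb : b = i₀
    · simp [e, hb]
    · have h1 := mem_isom.mp hδ.1 (e i₀) (e b)
      rw [hδ.2 b hb, S.f_e, S.f_e] at h1
      simpa [e, hb] using h1
  have comm : ∀ h δ, h ∈ isom f → h ◆ e i₀ = e i₀ → Δ δ → h * δ = δ * h := by
    intro h δ hh hhi hδ
    refine gl_ext_e fun a => ?_
    rw [ap_mul, ap_mul]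
    by_cases ha : a = i₀
    · subst ha; rw [hhi, Δ₀ δ hδ, mulVec_smul, hhi]
    · rw [hδ.2 a ha, ap_eq_sum δ]
      conv_lhs => rw [pi_eq_sum_univ' (h ◆ e a)]
      refine Finset.sum_congr rfl fun b _ => ?_
      by_cases hb : b = i₀
      · subst hb
        rw [fix_zero S hh hhi]
        simp [e, Ne.symm ha]
      · rw [hδ.2 b hb]
  let N : Subgroup (GL (Fin n) F) :=
    { carrier := {h | h ∈ isom f ∧ h ◆ e i₀ = e i₀ ∧ ∃ δ, Δ δ ∧ h * δ ∈ M}
      one_mem' := ⟨one_mem _, by rw [Units.val_one, one_mulVec], 1,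
        ⟨one_mem _, fun a _ => by rw [Units.val_one, one_mulVec]⟩, by simp [one_mem]⟩
      mul_mem' := fun {a b} ⟨ha, hai, δ, hδ, haM⟩ ⟨hb, hbi, δ', hδ', hbM⟩ =>
        ⟨mul_mem ha hb, by rw [ap_mul, hbi, hai], δ * δ',
          ⟨mul_mem hδ.1 hδ'.1, fun x hx => by rw [ap_mul, hδ'.2 x hx, hδ.2 x hx]⟩, by
          have : a * b * (δ * δ') = a * δ * (b * δ') := by
            rw [mul_assoc a b, ← mul_assoc b, comm b δ hb hbi hδ]; simp only [mul_assoc]
          rw [this]; exact mul_mem haM hbM⟩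
      inv_mem' := fun {a} ⟨ha, hai, δ, hδ, haM⟩ => by
        have hai' : (a⁻¹ : GL (Fin n) F) ◆ e i₀ = e i₀ := by
          conv_lhs => rw [← hai, inv_mulVec_mulVec]
        refine ⟨inv_mem ha, hai', δ⁻¹, ⟨inv_mem hδ.1, fun x hx => by
          conv_lhs => rw [← hδ.2 x hx, inv_mulVec_mulVec]⟩, ?_⟩
        rw [← _root_.mul_inv_rev, ← comm a δ ha hai hδ]
        exact inv_mem haM }
  have hgN : g ∈ N := ⟨(hMG hg).1, hgi, 1,
    ⟨one_mem _, fun a _ => by rw [Units.val_one, one_mulVec]⟩, by simpa using hg⟩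
  have monoN : ∀ ν : Fin n → F, (∀ a, ν a * σ (ν a) = 1) → ν i₀ = 1 →
      ∃ h ∈ N, ∀ a, h ◆ e a = ν a • e a := by
    intro ν hν hν0
    obtain ⟨h, hh, hhe, -⟩ := S.exists_mono 1 ν hν
    simp only [Equiv.Perm.coe_one, id_eq] at hhe
    obtain ⟨δ, hδ, hmem, -, hδe, μ, -, hδc⟩ := S.exists_corr hh i₀
    refine ⟨h, ⟨hh, by rw [hhe, hν0, one_smul], δ, ⟨hδ, hδe⟩, hH _ hmem (keeps_mul
      (mono_of_perm 1 fun a => ⟨ν a, hhe a⟩) (mono_of_perm 1 fun a => ?_))⟩, hhe⟩
    by_cases ha : a = i₀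
    · subst ha; exact ⟨μ, hδc⟩
    · exact ⟨1, by rw [hδe a ha, one_smul]; rfl⟩
  obtain ⟨u, o, hu, ho, hu0, ho0, hφ0, hφ1⟩ :=
    exists_homs S h3 (N := N) (fun h hh => ⟨hh.1, hh.2.1⟩) monoN hgN hgH
  obtain ⟨v, hv0, hvi, hiso, hw⟩ := centre_of_homs S hu ho hu0 ho0 hφ0 hφ1
  refine ⟨v, hv0, hvi, hiso, fun c hc => ?_⟩
  obtain ⟨h, ⟨hhi, hh0, δ, hδ, hM⟩, hhx⟩ := hw c hc
  have hut : h = ut f v c := gl_ext fun x => by rw [hhx, ut_mulVec S.uf hiso]
  have hdet : (h : Matrix (Fin n) (Fin n) F).det = 1 := by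
    rw [hut]; exact (mem_special_iff S).mp (ut_mem_su S.uf hiso hc).2
  have hδdet : (δ : Matrix (Fin n) (Fin n) F).det = 1 := by
    have := (mem_special_iff S).mp (hMG hM).2
    rwa [Units.val_mul, det_mul, hdet, one_mul] at this
  have hδ1 : δ = 1 := by
    refine gl_ext_e fun a => ?_
    by_cases ha : a = i₀
    · subst ha
      set μ := (δ ◆ e a) a
      have hm : (δ : Matrix (Fin n) (Fin n) F) = diagonal (Function.update 1 a μ) := by
        refine Matrix.ext_of_mulVec_single fun b => ?_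
        show δ ◆ e b = diagonal _ *ᵥ e b
        by_cases hb : b = a
        · rw [hb, Δ₀ δ hδ]
          funext l
          by_cases hl : l = a
          · subst hl; simp [mulVec_diagonal, e, μ]
          · simp [mulVec_diagonal, e, hl]
        · rw [hδ.2 b hb]
          funext l
          by_cases hl : l = b
          · subst hl; simp [mulVec_diagonal, e, hb]
          · simp [mulVec_diagonal, e, hl]
      rw [hm, det_diagonal, Finset.prod_update_of_mem (Finset.mem_univ a)] at hδdet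
      simp at hδdet
      rw [Δ₀ δ hδ]
      show μ • e a = (1 : GL (Fin n) F) ◆ e a
      rw [hδdet, one_smul, Units.val_one, one_mulVec]
    · rw [hδ.2 a ha, Units.val_one, one_mulVec]
  rw [← hut]
  simpa [hδ1] using hM

/-- Roots from one non-trivial centre avoiding a coordinate. -/
theorem root_of_centre (hH : ∀ h ∈ su f, Mono h → h ∈ M) {v : Fin n → F}
    {i₀ : Fin n} (hv0 : v ≠ 0) (hvi : v i₀ = 0) (hv : Centre σ f M v) :
    ∃ (a b : Fin n) (α β : F), a ≠ b ∧ α ≠ 0 ∧ β ≠ 0 ∧ α * σ α + β * σ β = 0 ∧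
      Centre σ f M (two a α b β) := by
  classical
  obtain ⟨a, ha⟩ := Function.ne_iff.mp hv0
  have hx : ∀ {i}, v i ≠ 0 → v i * σ (v i) ≠ 0 := fun h => mul_ne_zero h ((map_ne_zero σ).mpr h)
  have hex : ∃ b, b ≠ a ∧ v b ≠ 0 := by
    by_contra hc
    simp only [not_exists, not_and, not_not] at hc
    have := hv.1
    rw [S.self_sum, Finset.sum_eq_single a (fun i _ hi => by rw [hc i hi, zero_mul]) (by simp)] at this
    exact hx ha this
  obtain ⟨b, hba, hb⟩ := hex
  by_cases hthree : ∀ l, l ≠ a → l ≠ b → v l = 0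
  · have e := eq_two hba.symm hthree
    refine ⟨a, b, v a, v b, hba.symm, ha, hb, ?_, e ▸ hv⟩
    rw [← S.two_two hba.symm, ← e]; exact hv.1
  simp only [not_forall] at hthree
  obtain ⟨l, hla, hlb, hl⟩ := hthree
  obtain ⟨a, b, hab, ha, hb, hgood⟩ : ∃ a b, a ≠ b ∧ v a ≠ 0 ∧ v b ≠ 0 ∧
      ((2 : F) = 0 ∨ v a * σ (v a) + v b * σ (v b) ≠ 0) := by
    by_cases h2 : (2 : F) = 0
    · exact ⟨a, b, hba.symm, ha, hb, Or.inl h2⟩
    by_cases h1 : v a * σ (v a) + v b * σ (v b) = 0
    · by_cases h3 : v a * σ (v a) + v l * σ (v l) = 0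
      · refine ⟨b, l, Ne.symm hlb, hb, hl, Or.inr fun h4 => mul_ne_zero h2 (hx ha) ?_⟩
        linear_combination h1 + h3 - h4
      · exact ⟨a, l, Ne.symm hla, ha, hl, Or.inr h3⟩
    · exact ⟨a, b, hba.symm, ha, hb, Or.inr h1⟩
  set xa := v a * σ (v a)
  set xb := v b * σ (v b)
  set T := S.circ.erase 1
  have hT : T.card = q := by rw [Finset.card_erase_of_mem S.one_mem_circ, S.card_circ]; rfl
  have hsub : ∀ ξ ∈ T, ξ ∈ S.circ ∧ ξ + σ ξ - 2 ≠ 0 := fun ξ hξ => by
    obtain ⟨hne, hξc⟩ := Finset.mem_erase.mp hξ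
    refine ⟨hξc, fun h => hne (sub_eq_zero.mp (mul_self_eq_zero.mp ?_))⟩
    linear_combination ξ * h - S.mem_circ.mp hξc
  have hA := S.card_le_two_image (A := xa) (hx ha) (-(2 * xa)) T (Finset.erase_subset _ _)
  have hB := S.card_le_two_image (A := -xb) (neg_ne_zero.mpr (hx hb)) (2 * xb) T
    (Finset.erase_subset _ _)
  rw [hT] at hA hB
  have hσa : σ xa = xa := S.norm_real _
  have hσb : σ xb = xb := S.norm_real _
  obtain ⟨r, hrA, hrB⟩ := exists_mem_mem_of_card S (C := S.reals.erase 0)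
    (A := T.image fun ξ => xa * ξ + σ (xa * ξ) + -(2 * xa))
    (B := T.image fun ξ => -xb * ξ + σ (-xb * ξ) + 2 * xb)
    (fun r hr => by
      obtain ⟨ξ, hξ, rfl⟩ := Finset.mem_image.mp hr
      refine Finset.mem_erase.mpr ⟨fun h => mul_ne_zero (hx ha) (hsub ξ hξ).2 ?_,
        S.image_real (by rw [map_neg, map_mul, map_ofNat, hσa]) ξ⟩
      rw [map_mul, hσa] at h; linear_combination h)
    (fun r hr => by
      obtain ⟨ξ, hξ, rfl⟩ := Finset.mem_image.mp hr
      refine Finset.mem_erase.mpr ⟨fun h => mul_ne_zero (hx hb) (hsub ξ hξ).2 ?_,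
        S.image_real (by rw [map_mul, map_ofNat, hσb]) ξ⟩
      rw [map_mul, map_neg, hσb] at h; linear_combination -h)
    (by
      rw [Finset.card_erase_of_mem (S.mem_reals.mpr (map_zero σ)), S.card_reals]
      have := S.two_le
      omega)
  obtain ⟨ξ, hξ, rfl⟩ := Finset.mem_image.mp hrA
  obtain ⟨η, hη, hη'⟩ := Finset.mem_image.mp hrB
  rw [map_mul, map_mul, map_neg, hσa, hσb] at hη'
  obtain ⟨hξc, -⟩ := hsub ξ hξ
  obtain ⟨hηc, -⟩ := hsub η hη
  have hξ1 : ξ ≠ 1 := (Finset.mem_erase.mp hξ).1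
  have hη1 : η ≠ 1 := (Finset.mem_erase.mp hη).1
  have hreal : (ξ - 1) * xa + (η - 1) * xb + σ ((ξ - 1) * xa + (η - 1) * xb) = 0 := by
    simp only [map_add, map_mul, map_sub, map_one, hσa, hσb]
    linear_combination -hη'
  obtain ⟨η', hη'c, hη'1, hskew, hF0⟩ : ∃ η', η' ∈ S.circ ∧ η' ≠ 1 ∧
      (ξ - 1) * xa + (η' - 1) * xb + σ ((ξ - 1) * xa + (η' - 1) * xb) = 0 ∧
      (ξ - 1) * xa + (η' - 1) * xb ≠ 0 := by
    by_cases h0 : (ξ - 1) * xa + (η - 1) * xb = 0
    swap
    · exact ⟨η, hηc, hη1, hreal, h0⟩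
    refine ⟨σ η, by rw [S.mem_circ, S.inv, mul_comm]; exact S.mem_circ.mp hηc,
      fun h => hη1 (by rw [← S.inv η, h, map_one]), ?_, fun h => ?_⟩
    · simp only [map_add, map_mul, map_sub, map_one, hσa, hσb, S.inv] at hreal ⊢
      linear_combination hreal
    · have hηr : σ η = η := mul_right_cancel₀ (hx hb) (by linear_combination h - h0)
      have hη2 : η = -1 := by
        have h1 := S.mem_circ.mp hηc
        rw [hηr] at h1
        exact (mul_self_eq_one_iff.mp h1).resolve_left hη1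
      have hξr : σ ξ = ξ := by
        have h1 := congrArg σ h0
        simp only [map_add, map_mul, map_sub, map_one, map_zero, hσa, hσb, hηr] at h1
        exact mul_right_cancel₀ (hx ha) (by linear_combination h1 - h0)
      have hξ2 : ξ = -1 := by
        have h1 := S.mem_circ.mp hξc
        rw [hξr] at h1
        exact (mul_self_eq_one_iff.mp h1).resolve_left hξ1
      rcases hgood with h2 | h2
      · exact hη1 (by rw [hη2]; linear_combination -h2)
      · rw [hξ2, hη2] at h0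
        rcases mul_eq_zero.mp (show (2 : F) * (xa + xb) = 0 by linear_combination -h0) with h' | h'
        · exact hη1 (by rw [hη2]; linear_combination -h')
        · exact h2 h'
  set Φ := (ξ - 1) * xa + (η' - 1) * xb with hΦ
  set ν : Fin n → F := Function.update (Function.update 1 a ξ) b η' with hν
  have hνN : ∀ i, ν i * σ (ν i) = 1 := fun i => by
    by_cases h : i = b
    · subst h; simpa [hν] using S.mem_circ.mp hη'c
    · by_cases h' : i = a
      · subst h'; simpa [hν, h] using S.mem_circ.mp hξc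
      · simp [hν, h, h']
  obtain ⟨h, hh, hhm, hhe⟩ := S.exists_mono_su 1 ν hνN i₀
  have hC := centre_map S.uf hv (hH h hh (mono_of_perm 1 fun c =>
    let ⟨μ, _, hμ⟩ := hhm c; ⟨μ, hμ⟩)) hh.1
  have hhv : h ◆ v = v + two a ((ξ - 1) * v a) b ((η' - 1) * v b) := by
    funext i
    rw [ap_eq_sum, Finset.sum_apply, Finset.sum_eq_single i (fun c _ hc => by
      obtain ⟨μ, -, hμ⟩ := hhm c
      rw [hμ]; simp [e, hc.symm]) (by simp)]
    rw [Pi.add_apply, two_apply hab]
    by_cases hi : i = i₀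
    · subst hi
      simp [hvi]
      split_ifs with h1 h2
      · exact absurd (h1 ▸ hvi) ha
      · exact absurd (h2 ▸ hvi) hb
      · simp
    · rw [hhe i hi]
      by_cases h : i = b
      · subst h; simp [hν, e, hab.symm]; ring
      · by_cases h' : i = a
        · subst h'; simp [hν, e, h]; ring
        · simp [hν, e, h, h']
  have hf : f (h ◆ v) v = Φ := by
    rw [hhv, S.uf.add_left, hv.1, zero_add, S.two_f, hΦ]; ring
  have hc : -Φ⁻¹ + σ (-Φ⁻¹) = 0 := by
    have : σ Φ = -Φ := eq_neg_of_add_eq_zero_right hskew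
    rw [map_neg, map_inv₀, this, inv_neg]; ring
  have h5 := centre_move S.uf hv hC hc
  rw [hf, neg_mul, inv_mul_cancel₀ hF0, neg_one_smul, hhv, add_neg_cancel_comm] at h5
  refine ⟨a, b, _, _, hab, mul_ne_zero (sub_ne_zero.mpr hξ1) ha,
    mul_ne_zero (sub_ne_zero.mpr hη'1) hb, ?_, h5⟩
  rw [← S.two_two hab]; exact h5.1

/-- One root gives all. -/
theorem roots_of_root (hn : 3 ≤ n) (hH : ∀ h ∈ su f, Mono h → h ∈ M) {a b : Fin n} {α β : F}
    (hab : a ≠ b) (hα : α ≠ 0) (hβ : β ≠ 0) (hαβ : α * σ α + β * σ β = 0)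
    (hC : Centre σ f M (two a α b β)) : Roots σ f M := by
  classical
  intro x y γ δ hxy hγδ
  by_cases hγ : γ = 0
  · have hδ0 : δ = 0 := by rw [hγ] at hγδ; simpa using hγδ
    simpa [hγ, hδ0, two] using centre_zero (M := M) S.uf
  obtain ⟨p, hpa, hpb⟩ : ∃ p : Equiv.Perm (Fin n), p a = x ∧ p b = y := by
    refine ⟨Equiv.swap (Equiv.swap a x b) y * Equiv.swap a x, ?_, by simp⟩
    rw [Equiv.Perm.mul_apply, Equiv.swap_apply_left]
    refine Equiv.swap_apply_of_ne_of_ne (fun h => hab ?_) hxy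
    exact (Equiv.swap a x).injective (by rw [Equiv.swap_apply_left, ← h])
  set lam := γ / α with hlam
  have hlam0 : lam ≠ 0 := div_ne_zero hγ hα
  set ν : Fin n → F := Function.update 1 b (δ / (lam * β)) with hν
  have hνn : ∀ i, ν i * σ (ν i) = 1 := fun i => by
    by_cases h : i = b
    · subst h
      have h1 : σ α ≠ 0 := (map_ne_zero σ).mpr hα
      have h2 : σ β ≠ 0 := (map_ne_zero σ).mpr hβ
      have h3 : σ γ ≠ 0 := (map_ne_zero σ).mpr hγ
      rw [hν, Function.update_self, hlam]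
      simp only [map_div₀, map_mul]
      field_simp
      linear_combination (α * σ α) * hγδ - (γ * σ γ) * hαβ
    · simp [hν, h]
  obtain ⟨z, -, hz⟩ := Finset.exists_mem_notMem_of_card_lt_card (s := ({a, b} : Finset (Fin n)))
    (t := univ) (Finset.card_le_two.trans_lt (by simp; omega))
  simp only [Finset.mem_insert, Finset.mem_singleton, not_or] at hz
  obtain ⟨h, hh, hhm, hhe⟩ := S.exists_mono_su p ν hνn z
  have hin := hH h hh (mono_of_perm p fun c => let ⟨μ, _, hμ⟩ := hhm c; ⟨μ, hμ⟩)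
  have h5 := centre_smul S.uf (centre_map S.uf hC hin hh.1) lam
  rw [mulVec_add, mulVec_smul, mulVec_smul, hhe a (Ne.symm hz.1), hhe b (Ne.symm hz.2), hpa,
    hpb] at h5
  convert h5 using 1
  simp only [hν, Function.update_self, Function.update_of_ne hab, Pi.one_apply, one_smul,
    smul_add, smul_smul, two]
  rw [hlam, div_mul_cancel₀ _ hα]
  congr 2
  rw [← hlam]
  field_simp

end Cfsg.Agent.UDec18
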