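import Cfsg.Agent.UDec18.PlaneCount

/-!
A subgroup of the isometries of a non-degenerate unitary plane with two different homology groups
contains a full transvection group (helper18).
-/

set_option autoImplicit false
set_option linter.unusedSectionVars false

namespace Cfsg.Agent.UDec18

open Matrix Cfsg.Agent.MaxSub
open scoped LinearAlgebra.Projectivization
open Finset (univ)

variable {F : Type*} [Field F] [Fintype F] {n q : ℕ}
variable {σ : F ≃+* F} {f : (Fin n → F) → (Fin n → F) → F}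

local notation:73 g:74 " ◆ " x:73 => (Units.val g) *ᵥ x

/-- A quadratic with fixed coefficients has a root. -/
theorem Std.exists_root (S : Std q σ f) {b c : F} (hb : σ b = b) (hc : σ c = c) :
    ∃ x : F, x ^ 2 + b * x + c = 0 := by
  classical
  rw [S.pow] at hb hc
  obtain ⟨p, k, hp, -, hchar, hqp⟩ := Unitary.exists_prime_pow S.card
  let Ω := AlgebraicClosure F
  have : CharP Ω p := charP_of_injective_algebraMap (algebraMap F Ω).injective p
  have := Fact.mk hp
  have hadd : ∀ u v : Ω, (u + v) ^ q = u ^ q + v ^ q := fun u v => by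
    rw [hqp]; exact add_pow_char_pow u v p k
  set b' := algebraMap F Ω b
  set c' := algebraMap F Ω c
  have hdeg : (Polynomial.X ^ 2 + Polynomial.C b' * Polynomial.X + Polynomial.C c' :
      Polynomial Ω).degree ≠ 0 := by
    rw [show Polynomial.X ^ 2 + Polynomial.C b' * Polynomial.X + Polynomial.C c' =
      Polynomial.C 1 * Polynomial.X ^ 2 + Polynomial.C b' * Polynomial.X + Polynomial.C c' by simp,
      Polynomial.degree_quadratic one_ne_zero]
    exact two_ne_zero
  obtain ⟨x, hx⟩ := IsAlgClosed.exists_root _ hdeg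
  simp only [Polynomial.IsRoot, Polynomial.eval_add, Polynomial.eval_mul, Polynomial.eval_C,
    Polynomial.eval_pow, Polynomial.eval_X] at hx
  have hb' : b' ^ q = b' := by simp only [b', ← map_pow, hb]
  have hc' : c' ^ q = c' := by simp only [c', ← map_pow, hc]
  have root : ∀ y : Ω, y ^ 2 + b' * y + c' = 0 → y ^ q = y ∨ y ^ q = -b' - y := by
    intro y hy
    have h := congrArg (· ^ q) hy
    simp only [hadd, mul_pow, hb', hc', ← pow_mul, mul_comm 2 q] at h
    rw [pow_mul, zero_pow (Unitary.q_pos S.card).ne'] at h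
    rcases mul_eq_zero.mp (show (y ^ q - y) * (y ^ q + y + b') = 0 by
      linear_combination h - hy) with h | h
    · exact Or.inl (sub_eq_zero.mp h)
    · exact Or.inr (by linear_combination h)
  have hxx : x ^ (q ^ 2) = x := by
    rw [sq, pow_mul]
    rcases root x hx with h | h
    · rw [h, h]
    · rcases root (-b' - x) (by linear_combination hx) with h' | h'
      · have hm := hadd (-b' - x) x
        rw [h', sub_add_cancel] at hm
        have hnb : (-b') ^ q = -b' := by
          have := hadd (-b') b'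
          rw [neg_add_cancel, zero_pow (Unitary.q_pos S.card).ne', hb'] at this
          linear_combination -this
        rw [hnb] at hm
        have : x ^ q = x := by linear_combination -hm
        rw [this, this]
      · rw [h, h']; ring
  let P : Polynomial F := Polynomial.X ^ (q ^ 2) - Polynomial.X
  have hP : P ≠ 0 := FiniteField.X_pow_card_sub_X_ne_zero F
    (by have := S.two_le; nlinarith)
  have hroots : (P.map (algebraMap F Ω)).roots = univ.val.map (algebraMap F Ω) := by
    have h1 : P.roots = univ.val := by rw [← FiniteField.roots_X_pow_card_sub_X F, S.card]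
    have h2 : Multiset.card P.roots = P.natDegree := by
      rw [h1, FiniteField.X_pow_card_sub_X_natDegree_eq F (by have := S.two_le; nlinarith)]
      simpa using S.card
    rw [← Polynomial.roots_map_of_injective_of_card_eq_natDegree (algebraMap F Ω).injective h2, h1]
  have hxr : x ∈ (P.map (algebraMap F Ω)).roots := by
    rw [Polynomial.mem_roots ((Polynomial.map_ne_zero_iff (algebraMap F Ω).injective).mpr hP)]
    simp [P, hxx]
  rw [hroots, Multiset.mem_map] at hxr
  obtain ⟨x₀, -, rfl⟩ := hxr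
  exact ⟨x₀, (algebraMap F Ω).injective (by simpa [b', c'] using hx)⟩

/-- The form `diag(1, ν)` on the plane. -/
def f2 (σ : F ≃+* F) (ν : F) (x y : Fin 2 → F) : F := x 0 * σ (y 0) + ν * x 1 * σ (y 1)

theorem mem_pair {v w : Fin 2 → F} (hv : v ≠ 0) (h : ∀ c : F, c • v ≠ w) (x : Fin 2 → F) :
    ∃ α β : F, α • v + β • w = x :=
  NotMax.mem_pair_of_finrank_two (W := ⊤) (by simp) trivial trivial hv h trivial

theorem smul_mk_eq_iff (g : GL (Fin 2) F) {v : Fin 2 → F} (hv : v ≠ 0) :
    g • Projectivization.mk F v hv = Projectivization.mk F v hv ↔ ∃ c : F, c • v = g ◆ v := by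
  rw [Projectivization.smul_mk, Projectivization.mk_eq_mk_iff']
  exact Iff.rfl

theorem gl2_ext {g h : GL (Fin 2) F} (H : ∀ x, g ◆ x = h ◆ x) : g = h := gl_ext H

set_option maxHeartbeats 1600000 in
/-- Two homology groups in a non-degenerate plane give a full transvection group. -/
theorem plane_transvections (S : Std q σ f) {ν φ : F} (hν : σ ν = ν) (hν0 : ν ≠ 0) (hφ : φ ≠ 0)
    (hφν : φ * σ φ + ν = 1) (L : Subgroup (GL (Fin 2) F))
    (hiso : ∀ g ∈ L, ∀ x y, f2 σ ν (g ◆ x) (g ◆ y) = f2 σ ν x y)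
    (hscal : ∀ l ∈ S.circ, ∃ g ∈ L, ∀ x, g ◆ x = l • x)
    (hdiag : ∀ l ∈ S.circ, ∃ g ∈ L, ∀ x, g ◆ x = ![l * x 0, x 1])
    (hhom : ∀ l ∈ S.circ, ∃ g ∈ L, ∀ x, g ◆ x = x + ((l - 1) * f2 σ ν x ![φ, 1]) • ![φ, 1]) :
    ∃ w : Fin 2 → F, w ≠ 0 ∧ f2 σ ν w w = 0 ∧
      ∀ c : F, c + σ c = 0 → ∃ g ∈ L, ∀ x, g ◆ x = x + (c * f2 σ ν x w) • w := by
  classical
  set B := f2 σ ν with hB
  have Bsl : ∀ (r : F) x y, B (r • x) y = r * B x y := fun r x y => by
    simp [B, f2]; ring
  have Bsr : ∀ (r : F) x y, B x (r • y) = σ r * B x y := fun r x y => by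
    simp [B, f2]; ring
  have Bal : ∀ x x' y, B (x + x') y = B x y + B x' y := fun x x' y => by simp [B, f2]; ring
  have Bar : ∀ x y y', B x (y + y') = B x y + B x y' := fun x y y' => by simp [B, f2]; ring
  have Bhm : ∀ x y, B y x = σ (B x y) := fun x y => by simp [B, f2, S.inv, hν]; ring
  have hPq : 3 ≤ q + 1 := by have := S.two_le; omega
  obtain ⟨ω, hω⟩ := S.exists_norm (r := -ν) (by rw [map_neg, hν])
  have hω0 : ω ≠ 0 := fun h => hν0 (by simpa [h] using hω.symm)
  set w : Fin 2 → F := ![ω, 1] with hw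
  have hww : B w w = 0 := by simp [B, f2, w]; linear_combination hω
  have hw0 : w ≠ 0 := fun h => by simpa [w] using congrFun h 1
  have he0 : (![1, 0] : Fin 2 → F) ≠ 0 := fun h => by simpa using congrFun h 0
  have he1 : (![0, 1] : Fin 2 → F) ≠ 0 := fun h => by simpa using congrFun h 1
  have perpw : ∀ y, B y w = 0 → ∃ r : F, r • w = y := fun y hy => by
    refine ⟨y 1, funext fun i => ?_⟩
    have h : y 0 * σ ω + ν * y 1 = 0 := by simpa [B, f2, w] using hy
    fin_cases i
    · simp [w]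
      refine mul_right_cancel₀ ((map_ne_zero σ).mpr hω0) ?_
      linear_combination (y 1) * hω - h
    · simp [w]
  -- points
  let pt : ∀ v : Fin 2 → F, v ≠ 0 → ℙ F (Fin 2 → F) := fun v hv => Projectivization.mk F v hv
  set s := pt w hw0
  set e0 := pt ![1, 0] he0
  set e1 := pt ![0, 1] he1
  haveI : Fintype (ℙ F (Fin 2 → F)) := Fintype.ofFinite _
  have hfix' : ∀ (g : L) v (hv : v ≠ 0), g • pt v hv = pt v hv ↔
      ∃ c : F, c • v = g.1 ◆ v := fun g v hv => smul_mk_eq_iff g.1 hv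
  -- scalars
  let Z : Subgroup L :=
    { carrier := {g | ∃ c : F, ∀ x, g.1 ◆ x = c • x}
      one_mem' := ⟨1, fun x => by simp⟩
      mul_mem' := fun {g h} ⟨a, ha⟩ ⟨b, hb⟩ => ⟨a * b, fun x => by
        rw [Subgroup.coe_mul, Units.val_mul, ← mulVec_mulVec, hb, mulVec_smul, ha, smul_smul,
          mul_comm]⟩
      inv_mem' := fun {g} ⟨a, ha⟩ => ⟨a⁻¹, fun x => by
        have ha0 : a ≠ 0 := fun h => mulVec_ne_zero g.1 hw0 (by rw [ha, h, zero_smul])
        refine mulVec_injective g.1 ?_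
        show g.1 ◆ ((g.1⁻¹ : GL (Fin 2) F) ◆ x) = g.1 ◆ (a⁻¹ • x)
        rw [mulVec_inv_mulVec, mulVec_smul, ha, smul_smul, inv_mul_cancel₀ ha0, one_smul]⟩ }
  have hZfix : ∀ g ∈ Z, ∀ x : ℙ F (Fin 2 → F), g • x = x := by
    rintro g ⟨c, hc⟩ x
    rw [← x.mk_rep]
    exact (hfix' g _ x.rep_nonzero).mpr ⟨c, (hc _).symm⟩
  have hcirc : ∀ g ∈ L, ∀ (c : F) (v : Fin 2 → F), c • v = g ◆ v → B v v ≠ 0 → c ∈ S.circ := by
    intro g hg c v hc hv
    have h := hiso g hg v v
    rw [← hc, Bsl, Bsr, ← mul_assoc] at h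
    rw [S.mem_circ]
    exact mul_right_cancel₀ hv (by rw [h, one_mul])
  have hB0 : B ![1, 0] ![1, 0] = 1 := by simp [B, f2]
  have hB1 : B ![0, 1] ![0, 1] = ν := by simp [B, f2]
  have hzc : Nat.card Z = q + 1 := by
    rw [← S.card_circ, ← Nat.card_eq_finsetCard]
    refine Nat.card_eq_of_bijective (fun g => (⟨g.2.choose, hcirc g.1.1 g.1.2 _ ![1, 0]
      (g.2.choose_spec _).symm (by rw [hB0]; exact one_ne_zero)⟩ : S.circ)) ⟨fun g h hgh => ?_, ?_⟩
    · refine Subtype.ext (Subtype.ext (gl2_ext fun x => ?_))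
      have h' : g.2.choose = h.2.choose := congrArg Subtype.val hgh
      rw [g.2.choose_spec, h.2.choose_spec, h']
    · rintro ⟨l, hl⟩
      obtain ⟨g, hg, hgx⟩ := hscal l hl
      refine ⟨⟨⟨g, hg⟩, l, hgx⟩, Subtype.ext ?_⟩
      have h1 := (⟨l, hgx⟩ : ∃ c : F, ∀ x, g ◆ x = c • x).choose_spec ![1, 0]
      rw [hgx] at h1
      simpa using (congrFun h1 0).symm
  -- three fixed lines make a scalar
  have three : ∀ g : L, ∀ v₁ v₂ v₃ (h₁ : v₁ ≠ 0) (h₂ : v₂ ≠ 0) (h₃ : v₃ ≠ 0),
      pt v₁ h₁ ≠ pt v₂ h₂ → pt v₁ h₁ ≠ pt v₃ h₃ → pt v₂ h₂ ≠ pt v₃ h₃ →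
      g • pt v₁ h₁ = pt v₁ h₁ → g • pt v₂ h₂ = pt v₂ h₂ → g • pt v₃ h₃ = pt v₃ h₃ → g ∈ Z := by
    intro g v₁ v₂ v₃ h₁ h₂ h₃ d12 d13 d23 f1 f2' f3
    obtain ⟨a, ha⟩ := (hfix' g v₁ h₁).mp f1
    obtain ⟨b, hb⟩ := (hfix' g v₂ h₂).mp f2'
    obtain ⟨c, hc⟩ := (hfix' g v₃ h₃).mp f3
    have hind : ∀ r : F, r • v₁ ≠ v₂ := fun r h => d12
      ((Projectivization.mk_eq_mk_iff' F _ _ h₂ h₁).mpr ⟨r, h⟩).symm
    obtain ⟨α, β, h3⟩ := mem_pair h₁ hind v₃
    have hα : α ≠ 0 := fun h => d23 ((Projectivization.mk_eq_mk_iff' F _ _ h₃ h₂).mpr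
      ⟨β, by rw [← h3, h, zero_smul, zero_add]⟩).symm
    have hβ : β ≠ 0 := fun h => d13 ((Projectivization.mk_eq_mk_iff' F _ _ h₃ h₁).mpr
      ⟨α, by rw [← h3, h, zero_smul, add_zero]⟩).symm
    have e : (α * (c - a)) • v₁ + (β * (c - b)) • v₂ = 0 := by
      have h := hc
      rw [← h3, mulVec_add, mulVec_smul, mulVec_smul, ← ha, ← hb] at h
      rw [← sub_eq_zero] at h
      rw [← h]; module
    have hli : LinearIndependent F ![v₁, v₂] := (LinearIndependent.pair_iff' h₁).2 hind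
    obtain ⟨e1', e2'⟩ := LinearIndependent.pair_iff.mp hli _ _ e
    have hca : c = a := sub_eq_zero.mp ((mul_eq_zero.mp e1').resolve_left hα)
    have hcb : c = b := sub_eq_zero.mp ((mul_eq_zero.mp e2').resolve_left hβ)
    refine ⟨a, fun x => ?_⟩
    obtain ⟨r, r', rfl⟩ := mem_pair h₁ hind x
    rw [mulVec_add, mulVec_smul, mulVec_smul, ← ha, ← hb, ← hcb, hca, smul_add, smul_smul,
      smul_smul, smul_smul, smul_smul, mul_comm r, mul_comm r']
  -- isotropic points form one orbit
  have isoform : ∀ v, v ≠ 0 → B v v = 0 → ∃ ξ ∈ S.circ, ∃ r : F, r • ![ω * ξ, 1] = v := by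
    intro v hv hvv
    have h : v 0 * σ (v 0) + ν * (v 1 * σ (v 1)) = 0 := by
      rw [← hvv]; simp [B, f2]; ring
    have h1 : v 1 ≠ 0 := fun h1 => hv (funext fun i => by
      rw [h1, zero_mul, mul_zero, add_zero] at h
      fin_cases i
      · simpa using h
      · simpa using h1)
    have h1' : σ (v 1) ≠ 0 := (map_ne_zero σ).mpr h1
    have hω' : σ ω ≠ 0 := (map_ne_zero σ).mpr hω0
    refine ⟨v 0 / (v 1 * ω), ?_, v 1, funext fun i => ?_⟩
    · rw [S.mem_circ, map_div₀, map_mul]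
      field_simp
      linear_combination h - (v 1 * σ (v 1)) * hω
    · fin_cases i <;> simp
      field_simp
  have hptξ : ∀ ξ : F, (![ω * ξ, 1] : Fin 2 → F) ≠ 0 := fun ξ h => by simpa using congrFun h 1
  have orbit_iso : ∀ ξ ∈ S.circ, pt _ (hptξ ξ) ∈ MulAction.orbit L s := fun ξ hξ => by
    obtain ⟨g, hg, hgx⟩ := hdiag ξ hξ
    refine ⟨⟨g, hg⟩, ?_⟩
    show g • Projectivization.mk F w hw0 = _
    rw [Projectivization.smul_mk, Projectivization.mk_eq_mk_iff']
    exact ⟨1, by rw [one_smul]; show _ = g ◆ w; rw [hgx]; simp [w, mul_comm]⟩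
  have mem_orb : ∀ v (hv : v ≠ 0), pt v hv ∈ MulAction.orbit L s ↔ B v v = 0 := by
    intro v hv
    constructor
    · rintro ⟨g, hg⟩
      have h : Projectivization.mk F (g.1 ◆ w) (mulVec_ne_zero g.1 hw0) = pt v hv := hg
      obtain ⟨r, hr⟩ := (Projectivization.mk_eq_mk_iff' F _ _ hv _).mp h.symm
      rw [← hr, Bsl, Bsr, hiso g.1 g.2 w w, hww, mul_zero, mul_zero]
    · intro hvv
      obtain ⟨ξ, hξ, r, rfl⟩ := isoform v hv hvv
      convert orbit_iso ξ hξ using 1
      exact (Projectivization.mk_eq_mk_iff' F _ _ _ _).mpr ⟨r, rfl⟩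
  have ho : (MulAction.orbit L s).ncard = q + 1 := by
    rw [← S.card_circ, ← Set.ncard_coe_finset S.circ]
    refine (Set.ncard_congr (fun ξ _ => pt _ (hptξ ξ)) (fun ξ hξ => orbit_iso ξ hξ)
      (fun ξ η _ _ h => ?_) fun x hx => ?_).symm
    · obtain ⟨r, hr⟩ := (Projectivization.mk_eq_mk_iff' F _ _ _ _).mp h
      have h0 := congrFun hr 0
      have h1 := congrFun hr 1
      simp at h0 h1
      rw [h1, one_mul] at h0
      exact (mul_left_cancel₀ hω0 h0).symm
    · rw [← x.mk_rep] at hx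
      obtain ⟨ξ, hξ, r, hr⟩ := isoform _ x.rep_nonzero ((mem_orb _ x.rep_nonzero).mp hx)
      exact ⟨ξ, hξ, by
        conv_rhs => rw [← x.mk_rep]
        exact ((Projectivization.mk_eq_mk_iff' F _ _ x.rep_nonzero _).mpr ⟨r, hr⟩).symm⟩
  -- the two axes
  have perp_line : ∀ g ∈ L, ∀ v v' : Fin 2 → F, B v v ≠ 0 → B v' v = 0 → v' ≠ 0 →
      (∃ c : F, c • v = g ◆ v) → ∃ c : F, c • v' = g ◆ v' := by
    rintro g hg v v' hvv hperp hv' ⟨c, hc⟩
    have hc0 : c ≠ 0 := S.circ_ne_zero (hcirc g hg c v hc hvv)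
    have h := hiso g hg v' v
    rw [← hc, Bsr, hperp] at h
    have h0 : B (g ◆ v') v = 0 := (mul_eq_zero.mp h).resolve_left ((map_ne_zero σ).mpr hc0)
    have hv0 : v ≠ 0 := fun h => hvv (by simp [B, f2, h])
    have hind : ∀ r : F, r • v ≠ v' := fun r h => by
      rw [← h, Bsl] at hperp
      rcases mul_eq_zero.mp hperp with hr | hr
      · exact hv' (by rw [← h, hr, zero_smul])
      · exact hvv hr
    obtain ⟨α, β, hαβ⟩ := mem_pair hv0 hind (g ◆ v')
    rw [← hαβ, Bal, Bsl, Bsl, hperp, mul_zero, add_zero] at h0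
    exact ⟨β, by rw [← hαβ, (mul_eq_zero.mp h0).resolve_right hvv, zero_smul, zero_add]⟩
  have hp01 : B ![0, 1] ![1, 0] = 0 := by simp [B, f2]
  have hp10 : B ![1, 0] ![0, 1] = 0 := by simp [B, f2]
  have hst : MulAction.stabilizer L e0 = MulAction.stabilizer L e1 := by
    ext g
    simp only [MulAction.mem_stabilizer_iff, e0, e1, hfix']
    exact ⟨perp_line g.1 g.2 _ _ (by rw [hB0]; exact one_ne_zero) hp01 he1,
      perp_line g.1 g.2 _ _ (by rw [hB1]; exact hν0) hp10 he0⟩
  have he : Nat.card (MulAction.stabilizer L e0) = (q + 1) * (q + 1) := by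
    rw [← S.card_circ, ← Finset.card_product, ← Nat.card_eq_finsetCard (S.circ ×ˢ S.circ)]
    symm
    have mk : ∀ p ∈ S.circ ×ˢ S.circ, ∃ g : MulAction.stabilizer L e0,
        ∀ x, g.1.1 ◆ x = ![p.1 * x 0, p.2 * x 1] := by
      rintro ⟨a, b⟩ hab
      rw [Finset.mem_product] at hab
      obtain ⟨g₁, hg₁, h₁⟩ := hscal b hab.2
      obtain ⟨g₂, hg₂, h₂⟩ := hdiag (a / b) (by
        have hb := S.circ_ne_zero hab.2
        have hb' : σ b ≠ 0 := (map_ne_zero σ).mpr hb
        rw [S.mem_circ, map_div₀]; field_simp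
        linear_combination S.mem_circ.mp hab.1 - S.mem_circ.mp hab.2)
      have happ : ∀ x, (g₁ * g₂) ◆ x = ![a * x 0, b * x 1] := fun x => by
        rw [Units.val_mul, ← mulVec_mulVec, h₂, h₁]
        funext i
        have := S.circ_ne_zero hab.2
        fin_cases i <;> simp
        field_simp
      refine ⟨⟨⟨g₁ * g₂, mul_mem hg₁ hg₂⟩, ?_⟩, happ⟩
      rw [MulAction.mem_stabilizer_iff]
      refine (hfix' ⟨g₁ * g₂, mul_mem hg₁ hg₂⟩ _ he0).mpr ⟨a, ?_⟩
      show _ = (g₁ * g₂) ◆ _
      rw [happ]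
      funext i; fin_cases i <;> simp
    choose g hg using mk
    refine Nat.card_eq_of_bijective (fun p => g p.1 p.2) ⟨fun p p' h => ?_, fun h => ?_⟩
    · have h0 := hg p.1 p.2 ![1, 1]
      simp only at h
      rw [h, hg p'.1 p'.2] at h0
      exact Subtype.ext (Prod.ext (by simpa using (congrFun h0 0).symm)
        (by simpa using (congrFun h0 1).symm))
    · have h0 : h.1 • e0 = e0 := h.2
      have h1 : h.1 • e1 = e1 := hst.le h.2
      obtain ⟨a, ha⟩ := (hfix' h.1 _ he0).mp h0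
      obtain ⟨b, hb⟩ := (hfix' h.1 _ he1).mp h1
      have hab : (a, b) ∈ S.circ ×ˢ S.circ := Finset.mem_product.mpr
        ⟨hcirc _ h.1.2 _ _ ha (by rw [hB0]; exact one_ne_zero),
          hcirc _ h.1.2 _ _ hb (by rw [hB1]; exact hν0)⟩
      refine ⟨⟨(a, b), hab⟩, Subtype.ext (Subtype.ext (gl2_ext fun x => ?_))⟩
      rw [hg]
      conv_rhs => rw [show x = x 0 • ![1, 0] + x 1 • ![0, 1] by
        funext i; fin_cases i <;> simp, mulVec_add, mulVec_smul, mulVec_smul, ← ha, ← hb]
      funext i; fin_cases i <;> simp [mul_comm]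
  -- eigenvectors
  have eigen : ∀ g : L, ∃ v, ∃ hv : v ≠ 0, g • pt v hv = pt v hv := by
    intro g
    set A : Matrix (Fin 2) (Fin 2) F := g.1.1
    have hA : ∀ x i, (A *ᵥ x) i = A i 0 * x 0 + A i 1 * x 1 := fun x i => by
      simp [mulVec, dotProduct, Fin.sum_univ_two]
    have h00 := hiso g.1 g.2 ![1, 0] ![1, 0]
    have h10 := hiso g.1 g.2 ![0, 1] ![1, 0]
    have h01 := hiso g.1 g.2 ![1, 0] ![0, 1]
    have h11 := hiso g.1 g.2 ![0, 1] ![0, 1]
    simp only [B, f2] at h00 h10 h01 h11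
    rw [hA, hA] at h00 h11
    rw [hA, hA, hA, hA] at h10 h01
    simp at h00 h10 h01 h11
    set D := A 0 0 * A 1 1 - A 0 1 * A 1 0 with hD
    set T := A 0 0 + A 1 1 with hT
    have hσ0 : D * σ (A 0 0) = A 1 1 := by linear_combination (A 1 1) * h00 - (A 1 0) * h10
    have hσ1 : D * σ (A 1 1) = A 0 0 := by
      refine mul_right_cancel₀ hν0 ?_
      linear_combination (A 0 0) * h11 - (A 0 1) * h01
    have hDn : D * σ D = 1 := by
      have hdet : (A.transpose * diagonal ![1, ν] * A.map σ).det = ν := by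
        have : A.transpose * diagonal ![1, ν] * A.map σ = diagonal ![1, ν] := by
          ext i j
          fin_cases i <;> fin_cases j <;> simp [mul_apply, Fin.sum_univ_two, diagonal]
          · linear_combination h00
          · linear_combination h01
          · linear_combination h10
          · linear_combination h11
        rw [this, det_diagonal]; simp [Fin.prod_univ_two]
      rw [det_mul, det_mul, det_transpose, det_diagonal, Fin.prod_univ_two, det_fin_two A,
        det_fin_two (A.map σ)] at hdet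
      simp at hdet
      refine mul_right_cancel₀ hν0 ?_
      rw [hD, map_sub, map_mul, map_mul]
      linear_combination hdet
    have hD0 : D ≠ 0 := fun h => by simp [h] at hDn
    have hσT : D * σ T = T := by rw [hT, map_add]; linear_combination hσ0 + hσ1
    obtain ⟨X, hX⟩ : ∃ X : F, X ^ 2 - T * X + D = 0 := by
      by_cases hT0 : T = 0
      · obtain ⟨μ, hμ, hμD⟩ : ∃ μ : F, μ ≠ 0 ∧ D * σ μ = μ := by
          by_cases h1 : 1 + D = 0
          · have hD1 : D = -1 := by linear_combination h1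
            obtain ⟨c, hc, hc'⟩ := exists_skew S.uf
            exact ⟨c, hc, by rw [hD1]; linear_combination -hc'⟩
          · exact ⟨1 + D, h1, by rw [map_add, map_one]; linear_combination hDn⟩
        have hσμ : σ μ ≠ 0 := (map_ne_zero σ).mpr hμ
        obtain ⟨Y, hY⟩ := S.exists_root (b := 0) (c := D / μ ^ 2) (map_zero σ) (by
          rw [map_div₀, map_pow]
          field_simp
          have h1 : D ^ 2 * σ μ ^ 2 = μ ^ 2 := by linear_combination (D * σ μ + μ) * hμD
          linear_combination (D * σ μ ^ 2) * hDn - (σ D) * h1)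
        refine ⟨μ * Y, ?_⟩
        rw [hT0]
        field_simp at hY
        linear_combination hY
      · obtain ⟨Y, hY⟩ := S.exists_root (b := -1) (c := D / T ^ 2) (by simp) (by
          have hσT0 : σ T ≠ 0 := (map_ne_zero σ).mpr hT0
          rw [map_div₀, map_pow]
          field_simp
          have h1 : D ^ 2 * σ T ^ 2 = T ^ 2 := by linear_combination (D * σ T + T) * hσT
          linear_combination (D * σ T ^ 2) * hDn - (σ D) * h1)
        refine ⟨T * Y, ?_⟩
        field_simp at hY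
        linear_combination hY
    have hdet0 : (A - X • (1 : Matrix (Fin 2) (Fin 2) F)).det = 0 := by
      rw [det_fin_two]; simp; linear_combination hX
    obtain ⟨v, hv, hAv⟩ := exists_mulVec_eq_zero_iff.mpr hdet0
    refine ⟨v, hv, (hfix' g v hv).mpr ⟨X, ?_⟩⟩
    rw [sub_mulVec, smul_mulVec, one_mulVec, sub_eq_zero] at hAv
    exact hAv.symm
  -- fixed point numbers
  let nfix : L → ℕ := fun g => Nat.card {x : ℙ F (Fin 2 → F) // g • x = x}
  have two_or_Z : ∀ g : L, g ∉ Z → nfix g ≤ 2 := by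
    intro g hg
    by_contra h
    simp only [nfix, Nat.card_eq_fintype_card, Fintype.card_subtype, not_le] at h
    obtain ⟨a, b, c, ha, hb, hc, hab, hac, hbc⟩ := Finset.two_lt_card_iff.mp h
    simp only [Finset.mem_filter, Finset.mem_univ, true_and] at ha hb hc
    rw [← a.mk_rep] at ha hab hac
    rw [← b.mk_rep] at hb hab hbc
    rw [← c.mk_rep] at hc hac hbc
    exact hg (three g _ _ _ a.rep_nonzero b.rep_nonzero c.rep_nonzero hab hac hbc ha hb hc)
  have one_iso : ∀ g : L, nfix g = 1 → ∀ v (hv : v ≠ 0), g • pt v hv = pt v hv → B v v = 0 := by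
    intro g h1 v hv hgv
    by_contra hvv
    have hv'0 : (![-ν * σ (v 1), σ (v 0)] : Fin 2 → F) ≠ 0 := fun h => hvv (by
      have e0 := congrFun h 0
      have e1 := congrFun h 1
      simp [hν0] at e0 e1
      simp [B, f2, e0, e1])
    have hperp : B ![-ν * σ (v 1), σ (v 0)] v = 0 := by simp [B, f2]; ring
    obtain ⟨c, hc⟩ := (hfix' g v hv).mp hgv
    obtain ⟨c', hc'⟩ := perp_line g.1 g.2 v _ hvv hperp hv'0 ⟨c, hc⟩
    have hf := (hfix' g _ hv'0).mpr ⟨c', hc'⟩
    obtain ⟨⟨x, hx⟩, hx'⟩ := Nat.card_eq_one_iff_exists.mp h1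
    have e1 := hx' ⟨_, hgv⟩
    have e2 := hx' ⟨_, hf⟩
    have : pt v hv = pt _ hv'0 := Subtype.ext_iff.mp (e1.trans e2.symm)
    obtain ⟨r, hr⟩ := (Projectivization.mk_eq_mk_iff' F _ _ hv hv'0).mp this
    refine hvv ?_
    nth_rewrite 1 [← hr]
    rw [Bsl, hperp, mul_zero]
  -- the stabiliser of the isotropic point
  let G₀ := MulAction.stabilizer L s
  have heig : ∀ g : G₀, ∃ a : F, a • w = g.1.1 ◆ w := fun g => (hfix' g.1 w hw0).mp g.2
  choose ev hev using heig
  have hev0 : ∀ g, ev g ≠ 0 := fun g h => mulVec_ne_zero g.1.1 hw0 (by rw [← hev, h, zero_smul])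
  have hevu : ∀ g (a : F), a • w = g.1.1 ◆ w → ev g = a := fun g a h =>
    smul_left_injective F hw0 ((hev g).trans h.symm)
  let ψ : G₀ →* Fˣ :=
    { toFun := fun g => Units.mk0 (ev g * σ (ev g))
        (mul_ne_zero (hev0 g) ((map_ne_zero σ).mpr (hev0 g)))
      map_one' := Units.ext (by
        rw [Units.val_mk0, hevu 1 1 (by simp), map_one, mul_one, Units.val_one])
      map_mul' := fun g h => Units.ext (by
        rw [Units.val_mk0, hevu (g * h) (ev g * ev h) (by
          rw [Subgroup.coe_mul, Subgroup.coe_mul, Units.val_mul, ← mulVec_mulVec, ← hev,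
            mulVec_smul, ← hev, smul_smul, mul_comm]), map_mul, Units.val_mul, Units.val_mk0,
          Units.val_mk0]
        ring) }
  -- the transvection constants
  let C : AddSubgroup F :=
    { carrier := {c | c + σ c = 0 ∧ ∃ g ∈ L, ∀ x, g ◆ x = x + (c * B x w) • w}
      zero_mem' := ⟨by simp, 1, one_mem _, fun x => by simp⟩
      add_mem' := fun {c d} ⟨hc, g, hg, hgx⟩ ⟨hd, h, hh, hhx⟩ => ⟨by
        rw [map_add]; linear_combination hc + hd, g * h, mul_mem hg hh, fun x => by
        rw [Units.val_mul, ← mulVec_mulVec, hhx, hgx, Bal, Bsl, hww, mul_zero, add_zero, add_assoc,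
          ← add_smul]
        ring_nf⟩
      neg_mem' := fun {c} ⟨hc, g, hg, hgx⟩ => ⟨by rw [map_neg]; linear_combination -hc, g⁻¹,
        inv_mem hg, fun x => mulVec_injective g (by
          show g ◆ ((g⁻¹ : GL (Fin 2) F) ◆ x) = g ◆ (x + (-c * B x w) • w)
          rw [mulVec_inv_mulVec, hgx, Bal, Bsl, hww]
          module)⟩ }
  set A := Nat.card C with hA
  set m := Nat.card ψ.range with hm
  have shape : ∀ g : G₀, ev g * σ (ev g) = 1 → ∃ c ∈ C, ∀ x,
      g.1.1 ◆ x = ev g • (x + (c * B x w) • w) := by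
    intro g hN
    set a := ev g
    have ha0 : a ≠ 0 := hev0 g
    obtain ⟨h₀, hh₀, hh₀x⟩ := hscal a⁻¹ (by
      rw [S.mem_circ, map_inv₀, ← mul_inv, hN, inv_one])
    set T := h₀ * g.1.1 with hT
    have hTL : T ∈ L := mul_mem hh₀ g.1.2
    have hTw : T ◆ w = w := by
      rw [hT, Units.val_mul, ← mulVec_mulVec, ← hev, hh₀x, smul_smul, inv_mul_cancel₀ ha0, one_smul]
    have hd : ∀ x, ∃ r : F, r • w = T ◆ x - x := fun x => perpw _ (by
      have h := hiso T hTL x w
      rw [hTw] at h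
      rw [sub_eq_add_neg, ← neg_one_smul F x, Bal, Bsl, h]; ring)
    choose r hr using hd
    have hradd : ∀ (α β : F) (x y : Fin 2 → F), r (α • x + β • y) = α * r x + β * r y :=
      fun α β x y => smul_left_injective F hw0 (by
        simp only [add_smul, mul_smul, hr]
        rw [mulVec_add, mulVec_smul, mulVec_smul]; module)
    have hy : B ![1, 0] w = σ ω := by simp [B, f2, w]
    have hyw : ∀ c : F, c • w ≠ ![1, 0] := fun c h => by
      have := congrFun h 1
      simp [w] at this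
      simpa [this] using congrFun h 0
    have hrw : r w = 0 := smul_left_injective F hw0 (by
      show r w • w = (0 : F) • w
      rw [hr, hTw, sub_self, zero_smul])
    set c := r ![1, 0] / σ ω
    have hTx : ∀ x, T ◆ x = x + (c * B x w) • w := by
      intro x
      obtain ⟨α, β, rfl⟩ := mem_pair hw0 hyw x
      have h : r (α • w + β • ![1, 0]) = c * B (α • w + β • ![1, 0]) w := by
        rw [hradd, hrw, Bal, Bsl, Bsl, hww, hy]
        have : σ ω ≠ 0 := (map_ne_zero σ).mpr hω0
        simp only [c]; field_simp; ring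
      rw [← h, hr]; abel
    have hskew : c + σ c = 0 := by
      have h := hiso T hTL ![1, 0] ![1, 0]
      rw [hTx] at h
      simp only [Bal, Bar, Bsl, Bsr, hww, hy, hB0, Bhm ![1, 0] w, map_mul, S.inv] at h
      rcases mul_eq_zero.mp (show (ω * σ ω) * (c + σ c) = 0 by linear_combination h) with h' | h'
      · exact absurd (by rw [hω, neg_eq_zero] at h'; exact h') hν0
      · exact h'
    refine ⟨c, ⟨hskew, T, hTL, hTx⟩, fun x => ?_⟩
    rw [← hTx x, hT, Units.val_mul, ← mulVec_mulVec, hh₀x, smul_smul, mul_inv_cancel₀ ha0, one_smul]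
  have hker : Nat.card ψ.ker = (q + 1) * A := by
    rw [hA, ← S.card_circ, ← Nat.card_eq_finsetCard S.circ, ← Nat.card_prod]
    have hc : ∀ g : ψ.ker, ev g.1 * σ (ev g.1) = 1 := fun g => congrArg Units.val g.2
    choose sc hsc using fun g : ψ.ker => shape g.1 (hc g)
    refine Nat.card_eq_of_bijective (fun g =>
      ((⟨ev g.1, S.mem_circ.mpr (hc g)⟩ : S.circ), (⟨sc g, (hsc g).1⟩ : C))) ⟨fun g h hgh => ?_, ?_⟩
    · refine Subtype.ext (Subtype.ext (Subtype.ext (gl2_ext fun x => ?_)))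
      simp only [Prod.mk.injEq, Subtype.mk.injEq] at hgh
      rw [(hsc g).2, (hsc h).2, hgh.1, hgh.2]
    · rintro ⟨⟨a, ha⟩, ⟨c, hc'⟩⟩
      obtain ⟨g₁, hg₁, h₁⟩ := hscal a ha
      obtain ⟨g₂, hg₂, h₂⟩ := hc'.2
      have hgw : (g₁ * g₂) ◆ w = a • w := by
        rw [Units.val_mul, ← mulVec_mulVec, h₂, h₁, hww, mul_zero, zero_smul, add_zero]
      have hmem : (⟨g₁ * g₂, mul_mem hg₁ hg₂⟩ : L) ∈ G₀ :=
        MulAction.mem_stabilizer_iff.mpr ((hfix' _ w hw0).mpr ⟨a, hgw.symm⟩)
      have hev' : ev ⟨_, hmem⟩ = a := hevu _ a hgw.symm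
      have hk : (⟨_, hmem⟩ : G₀) ∈ ψ.ker := Units.ext (by
        show ev _ * σ (ev _) = 1
        rw [hev']; exact S.mem_circ.mp ha)
      refine ⟨⟨_, hk⟩, Prod.ext (Subtype.ext hev') (Subtype.ext ?_)⟩
      have hx : a • ((![1, 0] : Fin 2 → F) + (c * B ![1, 0] w) • w) =
          a • ((![1, 0] : Fin 2 → F) + (sc ⟨_, hk⟩ * B ![1, 0] w) • w) := by
        have := (hsc ⟨_, hk⟩).2 ![1, 0]
        simp only [Units.val_mul, hev'] at this
        rw [← this, ← mulVec_mulVec, h₂, h₁]
      have h1 := smul_left_injective F hw0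
        (add_left_cancel (smul_right_injective _ (S.circ_ne_zero ha) hx))
      refine mul_right_cancel₀ (b := B ![1, 0] w) ?_ h1.symm
      simpa [B, f2, w] using hω0
  have hs : Nat.card G₀ = (q + 1) * A * m := by
    rw [← Subgroup.card_mul_index ψ.ker, Subgroup.index_ker, hker]
  -- exactly one fixed point
  have one_iff : ∀ g : G₀, g.1 ∉ Z → (nfix g.1 = 1 ↔ g ∈ ψ.ker) := by
    intro g hgZ
    constructor
    · intro h1
      by_contra hne
      have hN : ev g * σ (ev g) ≠ 1 := fun h => hne (Units.ext h)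
      have hσa : σ (ev g) ≠ 0 := (map_ne_zero σ).mpr (hev0 g)
      set a := ev g with ha
      set b := (σ a)⁻¹
      obtain ⟨r, hr⟩ := perpw (g.1.1 ◆ ![1, 0] - b • ![1, 0]) (by
        have h := hiso g.1.1 g.1.2 ![1, 0] w
        rw [← hev, Bsr] at h
        rw [sub_eq_add_neg, ← neg_smul, Bal, Bsl, ← h]
        have hne' : σ (ev g) ≠ 0 := hσa
        simp only [b, a]; field_simp; ring)
      have hba : b - a ≠ 0 := fun h => hN (by
        have e : (σ a)⁻¹ = a := sub_eq_zero.mp h
        nth_rewrite 1 [← e]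
        exact inv_mul_cancel₀ hσa)
      set v : Fin 2 → F := ![1, 0] + (r / (b - a)) • w with hv
      have hgv : g.1.1 ◆ v = b • v := by
        rw [hv, mulVec_add, mulVec_smul, ← hev, ← ha, ← sub_add_cancel (g.1.1 ◆ ![1, 0]) (b • ![1, 0]),
          ← hr, smul_add, smul_smul, smul_smul]
        have : b * (r / (b - a)) = r + r / (b - a) * a := by field_simp; ring
        rw [this, add_smul]; abel
      have hv0 : v ≠ 0 := fun h => by
        have := congrArg (fun z => B z w) h
        simp only [hv, Bal, Bsl, hww, mul_zero, add_zero] at this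
        simp [B, f2, w, hω0] at this
      obtain ⟨⟨x, hx⟩, hx'⟩ := Nat.card_eq_one_iff_exists.mp h1
      have e1 := hx' ⟨_, (hfix' g.1 v hv0).mpr ⟨b, hgv.symm⟩⟩
      have e2 := hx' ⟨s, g.2⟩
      obtain ⟨r', hr'⟩ := (Projectivization.mk_eq_mk_iff' F _ _ hv0 hw0).mp
        (Subtype.ext_iff.mp (e1.trans e2.symm))
      rw [← hr', mulVec_smul, ← hev, smul_smul, smul_smul] at hgv
      have hr'0 : r' ≠ 0 := fun h => hv0 (by rw [← hr', h, zero_smul])
      exact hba (sub_eq_zero.mpr (mul_right_cancel₀ hr'0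
        ((smul_left_injective F hw0 hgv).symm.trans (mul_comm r' a))))
    · intro hk
      have hN : ev g * σ (ev g) = 1 := congrArg Units.val hk
      obtain ⟨c, -, hgx⟩ := shape g hN
      refine Nat.card_eq_one_iff_exists.mpr ⟨⟨s, g.2⟩, fun ⟨x, hx⟩ => Subtype.ext ?_⟩
      show x = s
      rw [← x.mk_rep] at hx ⊢
      obtain ⟨b, hb⟩ := (hfix' g.1 _ x.rep_nonzero).mp hx
      rw [hgx, smul_add, smul_smul] at hb
      have hcB : (ev g - b) • x.rep = -((ev g * (c * B x.rep w)) • w) := by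
        rw [sub_smul, hb]; abel
      by_cases hev' : ev g = b
      · rw [hev', sub_self, zero_smul, eq_comm, neg_eq_zero, smul_eq_zero] at hcB
        rcases mul_eq_zero.mp (hcB.resolve_right hw0) with h | h
        · exact absurd (hev'.trans h) (hev0 g)
        rcases mul_eq_zero.mp h with h | h
        · exact absurd ⟨ev g, fun y => by rw [hgx, h, zero_mul, zero_smul, add_zero]⟩ hgZ
        · obtain ⟨r, hr⟩ := perpw _ h
          exact (Projectivization.mk_eq_mk_iff' F _ _ _ hw0).mpr ⟨r, hr⟩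
      · refine (Projectivization.mk_eq_mk_iff' F _ _ _ hw0).mpr
          ⟨(ev g - b)⁻¹ * (-(ev g * (c * B x.rep w))), ?_⟩
        rw [mul_smul, neg_smul, ← hcB, smul_smul, inv_mul_cancel₀ (sub_ne_zero.mpr hev'), one_smul]
  have hone2 : Nat.card {g : L // g • s = s ∧ g ∉ Z ∧ nfix g = 1} + (q + 1) = (q + 1) * A := by
    have hZG : ∀ g ∈ Z, g ∈ G₀ := fun g hg => MulAction.mem_stabilizer_iff.mpr (hZfix g hg s)
    rw [← hker, ← hzc]
    haveI := Fintype.ofFinite L
    have e1 : Nat.card ψ.ker = Nat.card {g : L // ∃ h : g ∈ G₀, (⟨g, h⟩ : G₀) ∈ ψ.ker} :=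
      Nat.card_congr
        { toFun := fun g => ⟨g.1.1, g.1.2, g.2⟩
          invFun := fun g => ⟨⟨g.1, g.2.1⟩, g.2.2⟩
          left_inv := fun _ => rfl
          right_inv := fun _ => rfl }
    rw [e1]
    simp only [Nat.card_eq_fintype_card, Fintype.card_subtype]
    rw [← Finset.card_filter_add_card_filter_not
      (s := univ.filter fun g : L => ∃ h : g ∈ G₀, (⟨g, h⟩ : G₀) ∈ ψ.ker) (p := fun g => g ∈ Z),
      Finset.filter_filter, Finset.filter_filter, add_comm]
    congr 1
    · refine congrArg Finset.card (Finset.ext fun g => ?_)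
      simp only [Finset.mem_filter, Finset.mem_univ, true_and]
      refine ⟨fun h => ⟨⟨hZG g h, ?_⟩, h⟩, fun h => h.2⟩
      obtain ⟨a, ha⟩ := h
      refine Units.ext ?_
      show ev _ * σ (ev _) = 1
      rw [hevu _ a (ha w).symm]
      exact S.mem_circ.mp (hcirc g.1 g.2 a ![1, 0] (ha _).symm (by rw [hB0]; exact one_ne_zero))
    · refine congrArg Finset.card (Finset.ext fun g => ?_)
      simp only [Finset.mem_filter, Finset.mem_univ, true_and]
      constructor
      · rintro ⟨hgs, hgZ, h1⟩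
        exact ⟨⟨hgs, (one_iff ⟨g, hgs⟩ hgZ).mp h1⟩, hgZ⟩
      · rintro ⟨⟨hgs, hk⟩, hgZ⟩
        exact ⟨hgs, hgZ, (one_iff ⟨g, hgs⟩ hgZ).mpr hk⟩
  have hee : e0 ≠ e1 := fun h => by
    obtain ⟨r, hr⟩ := (Projectivization.mk_eq_mk_iff' F _ _ he0 he1).mp h
    simpa using congrFun hr 0
  obtain ⟨l, hl, hl2⟩ : ∃ l ∈ S.circ, l * l ≠ 1 := by
    obtain ⟨l, hl, hne⟩ := Finset.exists_mem_notMem_of_card_lt_card (s := ({1, -1} : Finset F))
      (t := S.circ) (Finset.card_le_two.trans_lt (by rw [S.card_circ]; omega))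
    refine ⟨l, hl, fun h => ?_⟩
    simp only [Finset.mem_insert, Finset.mem_singleton, not_or] at hne
    exact (mul_self_eq_one_iff.mp h).elim hne.1 hne.2
  obtain ⟨R, hR, hRx⟩ := hhom l hl
  have hoo : B ![φ, 1] ![φ, 1] = 1 := by simp [B, f2]; exact hφν
  have hR2 : ∀ x, (R * R) ◆ x = x + ((l * l - 1) * B x ![φ, 1]) • ![φ, 1] := fun x => by
    rw [Units.val_mul, ← mulVec_mulVec, hRx, hRx, Bal, Bsl, hoo]
    module
  have hR2e : (⟨R * R, mul_mem hR hR⟩ : L) • e0 ≠ e0 := fun h => by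
    obtain ⟨a, ha⟩ := (hfix' _ _ he0).mp h
    have := congrFun ha 1
    rw [show (⟨R * R, mul_mem hR hR⟩ : L).1 = R * R from rfl, hR2] at this
    simp [B, f2, sub_eq_zero, hl2] at this
    exact hφ this
  have hAC : A ≤ q := by
    rw [hA, ← Unitary.card_trace_ker S.card]
    exact Nat.card_le_card_of_injective
      (fun c : C => (⟨c.1, by rw [← S.pow]; exact c.2.1⟩ : {x : F // x + x ^ q = 0}))
      fun c d h => Subtype.ext (congrArg (fun z : {x : F // x + x ^ q = 0} => z.1) h)
  have hA1 : 1 ≤ A := Nat.card_pos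
  have hm1 : 1 ≤ m := Nat.card_pos
  -- the stabiliser acts on the constants
  have hmA : 2 ≤ A → m + 1 ≤ A := by
    intro h2
    obtain ⟨⟨c₀, hc₀⟩, hne⟩ : ∃ c : C, c ≠ 0 := by
      haveI : Nontrivial C := Finite.one_lt_card_iff_nontrivial.mp (by rw [← hA]; omega)
      exact exists_ne 0
    have hc0' : c₀ ≠ 0 := fun h => hne (Subtype.ext h)
    have hmul : ∀ u : ψ.range, (u.1 : F) * c₀ ∈ C := by
      rintro ⟨u, g, rfl⟩
      obtain ⟨hsk, T, hT, hTx⟩ := hc₀
      refine ⟨?_, g.1.1 * T * g.1.1⁻¹, mul_mem (mul_mem g.1.2 hT) (inv_mem g.1.2), fun x => ?_⟩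
      · show ev g * σ (ev g) * c₀ + σ (ev g * σ (ev g) * c₀) = 0
        rw [map_mul, S.norm_real]; linear_combination (ev g * σ (ev g)) * hsk
      · set y := (g.1.1⁻¹ : GL (Fin 2) F) ◆ x
        have hxy : x = g.1.1 ◆ y := (mulVec_inv_mulVec _ _).symm
        rw [Units.val_mul, Units.val_mul, ← mulVec_mulVec, ← mulVec_mulVec, hTx, mulVec_add,
          mulVec_smul, ← hev]
        have hBy : B y w = σ (ev g) * B x w := by
          rw [hxy, ← Bsr, hev, hiso _ g.1.2]
        show _ = x + (ev g * σ (ev g) * c₀ * B x w) • w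
        rw [← hxy, smul_smul, hBy]; ring_nf
    let ι' : Option ψ.range → C := fun o => o.elim 0 fun u => ⟨_, hmul u⟩
    have hι : Function.Injective ι' := by
      rintro (_ | u) (_ | v) h
      · rfl
      · exfalso
        exact mul_ne_zero (Units.ne_zero v.1) hc0' (Subtype.ext_iff.mp h).symm
      · exfalso
        exact mul_ne_zero (Units.ne_zero u.1) hc0' (Subtype.ext_iff.mp h)
      · exact congrArg some (Subtype.ext (Units.ext (mul_right_cancel₀ hc0' (Subtype.ext_iff.mp h))))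
    have := Nat.card_le_card_of_injective ι' hι
    rwa [Finite.card_option] at this
  have hres := count_cases Z s e0 e1 (q + 1) A m hPq hA1 hm1 hzc hZfix hee
    (fun h => by rw [mem_orb, hB0] at h; exact one_ne_zero h)
    (fun h => by rw [mem_orb, hB1] at h; exact hν0 h) ho hs he (by rw [← hst]; exact he)
    ⟨_, hR2e⟩
    (fun g hg => ⟨by
      obtain ⟨v, hv, hgv⟩ := eigen g
      haveI : Nonempty {x : ℙ F (Fin 2 → F) // g • x = x} := ⟨⟨_, hgv⟩⟩
      exact Nat.card_pos, two_or_Z g hg⟩)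
    (fun g hg h1 x hx => by
      rw [← x.mk_rep] at hx ⊢
      exact (mem_orb _ x.rep_nonzero).mpr (one_iso g h1 _ x.rep_nonzero hx)) hone2
  have hAeq : A = q := by
    by_contra hne
    have hlt : A < q := lt_of_le_of_ne hAC hne
    have h2 : A * m = 2 := by
      rcases hres with h2 | h
      · exact h2
      rcases Nat.lt_or_ge A 2 with hA2 | hA2
      · obtain hA' : A = 1 := by omega
        rw [hA'] at h
        omega
      · have h3 := hmA hA2
        rcases (show A = 2 ∨ 3 ≤ A by omega) with hA' | hA'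
        · rw [hA'] at h3 ⊢
          have : m = 1 := by omega
          rw [this]
        · exfalso
          obtain ⟨j, hj⟩ : ∃ j, A = j + 3 := ⟨A - 3, by omega⟩
          obtain ⟨i, rfl⟩ : ∃ i, q = A + 1 + i := ⟨q - A - 1, by omega⟩
          rw [hj] at h h3
          nlinarith
    have hidx : (MulAction.stabilizer L e0).index = 2 := by
      have h1 := Subgroup.card_mul_index (MulAction.stabilizer L e0)
      have h3 := Subgroup.card_mul_index (MulAction.stabilizer L s)
      rw [MulAction.index_stabilizer, ho] at h3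
      rw [he, ← h3, show Nat.card (MulAction.stabilizer L s) = (q + 1) * A * m from hs] at h1
      refine Nat.eq_of_mul_eq_mul_left (show 0 < (q + 1) * (q + 1) by positivity) (h1.trans ?_)
      rw [← h2]; ring
    have := Subgroup.sq_mem_of_index_two hidx ⟨R, hR⟩
    rw [sq, MulAction.mem_stabilizer_iff] at this
    exact hR2e this
  have hCall : ∀ c : F, c + σ c = 0 → c ∈ C := by
    intro c hc
    have hinj : Function.Injective
        (fun c : C => (⟨c.1, by rw [← S.pow]; exact c.2.1⟩ : {x : F // x + x ^ q = 0})) :=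
      fun c d h => Subtype.ext (congrArg (fun z : {x : F // x + x ^ q = 0} => z.1) h)
    obtain ⟨d, hd⟩ := (Function.Injective.bijective_of_nat_card_le hinj
      (by rw [Unitary.card_trace_ker S.card, ← hA, hAeq])).2 ⟨c, by rw [← S.pow]; exact hc⟩
    rw [show c = d.1 from (congrArg Subtype.val hd).symm]
    exact d.2
  exact ⟨w, hw0, hww, fun c hc => (hCall c hc).2⟩

end Cfsg.Agent.UDec18
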