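import Cfsg.Agent.UDec18.Basic
import Cfsg.Agent.Classical10.NotMax.Basic
import Mathlib.LinearAlgebra.Projectivization.Action
import Mathlib.FieldTheory.IsAlgClosed.AlgebraicClosure

/-!
A subgroup of the isometries of a non-degenerate unitary plane with two different homology groups
contains a full transvection group (helper18).
-/

set_option autoImplicit false
set_option linter.unusedSectionVars false

namespace Cfsg.Agent.UDec18

open Finset (univ)

section Count

variable {G Ω : Type*} [Group G] [MulAction G Ω]

/-- Fixed-point counting for a group with two special orbits. -/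
theorem count_cases [Finite G] [Fintype Ω] (Z : Subgroup G) (s e e' : Ω) (P A m : ℕ) (hP : 3 ≤ P)
    (hA : 1 ≤ A) (hm : 1 ≤ m) (hzc : Nat.card Z = P) (hZ : ∀ g ∈ Z, ∀ x : Ω, g • x = x)
    (hee : e ≠ e') (hes : e ∉ MulAction.orbit G s) (he's : e' ∉ MulAction.orbit G s)
    (ho : (MulAction.orbit G s).ncard = P) (hs : Nat.card (MulAction.stabilizer G s) = P * A * m)
    (he : Nat.card (MulAction.stabilizer G e) = P * P)
    (he' : Nat.card (MulAction.stabilizer G e') = P * P)
    (hmv : ∃ g : G, g • e ≠ e)
    (hfix : ∀ g ∉ Z, 1 ≤ Nat.card {x : Ω // g • x = x} ∧ Nat.card {x : Ω // g • x = x} ≤ 2)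
    (hone1 : ∀ g ∉ Z, Nat.card {x : Ω // g • x = x} = 1 →
      ∀ x : Ω, g • x = x → x ∈ MulAction.orbit G s)
    (hone2 : Nat.card {g : G // g • s = s ∧ g ∉ Z ∧ Nat.card {x : Ω // g • x = x} = 1} + P = P * A) :
    A * m = 2 ∨ P * A + 2 = A * m + 2 * P := by
  classical
  haveI := Fintype.ofFinite G
  let fx : G → ℕ := fun g => (univ.filter fun x : Ω => g • x = x).card
  have hfx : ∀ g, Nat.card {x : Ω // g • x = x} = fx g := fun g => by
    rw [Nat.card_eq_fintype_card, Fintype.card_subtype]
  let O : Finset Ω := univ.filter fun x => x ∈ MulAction.orbit G s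
  let st : Ω → ℕ := fun x => (univ.filter fun g : G => g ∉ Z ∧ g • x = x).card
  let N : Finset G := univ.filter fun g => g ∉ Z
  let One : Finset G := univ.filter fun g => g ∉ Z ∧ fx g = 1
  have hT : ∑ g ∈ N, fx g = ∑ x : Ω, st x := by
    simp only [fx, st, Finset.card_filter, N]
    rw [Finset.sum_comm]
    refine Finset.sum_congr rfl fun x _ => ?_
    rw [Finset.sum_filter]
    exact Finset.sum_congr rfl fun g _ => by split_ifs <;> simp_all
  have hN : N.card + P = Fintype.card G := by
    rw [← hzc, Nat.card_eq_fintype_card, Fintype.card_subtype, ← Finset.card_univ,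
      ← Finset.card_filter_add_card_filter_not (s := (univ : Finset G)) (p := fun g => g ∉ Z)]
    simp [N]
  have h2 : ∑ g ∈ N, fx g + One.card = 2 * N.card := by
    rw [show One = N.filter fun g => fx g = 1 by
      ext g; simp [One, N], Finset.card_filter, ← Finset.sum_add_distrib, Finset.card_eq_sum_ones,
      Finset.mul_sum]
    refine Finset.sum_congr rfl fun g hg => ?_
    have := hfix g (Finset.mem_filter.mp hg).2
    rw [hfx] at this
    split_ifs <;> omega
  have hst : ∀ x : Ω, st x + P = Nat.card (MulAction.stabilizer G x) := by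
    intro x
    rw [Nat.card_eq_fintype_card, Fintype.card_subtype, ← hzc, Nat.card_eq_fintype_card,
      Fintype.card_subtype,
      ← Finset.card_filter_add_card_filter_not (s := univ.filter fun g : G => g ∈ MulAction.stabilizer G x)
        (p := fun g => g ∉ Z), Finset.filter_filter, Finset.filter_filter]
    congr 1
    · exact congrArg Finset.card (Finset.ext fun g => by
        simp [MulAction.mem_stabilizer_iff, and_comm])
    · exact congrArg Finset.card (Finset.ext fun g => by
        simp only [Finset.mem_filter, Finset.mem_univ, true_and, not_not,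
          MulAction.mem_stabilizer_iff]
        exact ⟨fun h => ⟨hZ g h x, h⟩, fun h => h.2⟩)
  have hOS : ∀ x : Ω, Nat.card (MulAction.stabilizer G x) * (MulAction.orbit G x).ncard =
      Fintype.card G := fun x => by
    rw [← MulAction.index_stabilizer, Subgroup.card_mul_index, Nat.card_eq_fintype_card]
  have hG : Fintype.card G = P * A * m * P := by rw [← hOS s, hs, ho]
  have hsame : ∀ x : Ω, ∀ y ∈ MulAction.orbit G x, st y = st x := fun x y hy => by
    have h1 := hOS x
    have h2 := hOS y
    rw [MulAction.orbit_eq_iff.mpr hy] at h2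
    have hpos : 0 < (MulAction.orbit G x).ncard := (Set.ncard_pos).mpr ⟨x, MulAction.mem_orbit_self x⟩
    have := hst x
    have := hst y
    have := Nat.eq_of_mul_eq_mul_right hpos (h2.trans h1.symm)
    omega
  let orb : Ω → Finset Ω := fun x => univ.filter fun y => y ∈ MulAction.orbit G x
  have horb : ∀ x : Ω, (orb x).card = (MulAction.orbit G x).ncard := fun x => by
    rw [Set.ncard_eq_toFinset_card']; exact congrArg Finset.card (Finset.ext fun y => by simp [orb])
  have hsum : ∀ x : Ω, ∑ y ∈ orb x, st y = (MulAction.orbit G x).ncard * st x := fun x => by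
    rw [Finset.sum_congr rfl fun y hy => hsame x y (Finset.mem_filter.mp hy).2, Finset.sum_const,
      horb, smul_eq_mul]
  have hdisj : ∀ x y : Ω, y ∉ MulAction.orbit G x → Disjoint (orb x) (orb y) := fun x y h => by
    refine Finset.disjoint_left.mpr fun z hz hz' => h ?_
    simp only [orb, Finset.mem_filter, Finset.mem_univ, true_and] at hz hz'
    rw [← MulAction.orbit_eq_iff.mpr hz, MulAction.orbit_eq_iff.mpr hz']
    exact MulAction.mem_orbit_self y
  -- the elements with one fixed point
  have hOne : One.card = P * (P * A - P) := by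
    have hex : ∀ g ∈ One, (O.filter fun x => g • x = x).card = 1 := by
      intro g hg
      obtain ⟨hgZ, hg1⟩ := (Finset.mem_filter.mp hg).2
      rw [← hg1]
      refine congrArg Finset.card (Finset.ext fun x => ?_)
      simp only [O, Finset.mem_filter, Finset.mem_univ, true_and]
      exact ⟨fun h => h.2, fun h => ⟨hone1 g hgZ (by rw [hfx]; exact hg1) x h, h⟩⟩
    have hc : ∀ x ∈ O, (One.filter fun g => g • x = x).card = (One.filter fun g => g • s = s).card := by
      intro x hx
      obtain ⟨h, rfl⟩ := (Finset.mem_filter.mp hx).2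
      have conjfx : ∀ g k : G, fx (k * g * k⁻¹) = fx g := fun g k =>
        Finset.card_bij (fun y _ => k⁻¹ • y)
          (fun y hy => by
            simp only [Finset.mem_filter, Finset.mem_univ, true_and] at hy ⊢
            rw [mul_smul, mul_smul] at hy
            conv_rhs => rw [← hy, inv_smul_smul])
          (fun _ _ _ _ h => smul_left_cancel _ h)
          (fun y hy => ⟨k • y, by
            simp only [Finset.mem_filter, Finset.mem_univ, true_and] at hy ⊢
            rw [mul_smul, mul_smul, inv_smul_smul, hy], inv_smul_smul k y⟩)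
      have conjOne : ∀ g k : G, g ∈ One → k * g * k⁻¹ ∈ One := fun g k hg => by
        obtain ⟨-, hg1⟩ := (Finset.mem_filter.mp hg).2
        refine Finset.mem_filter.mpr ⟨Finset.mem_univ _, fun hz => ?_, (conjfx g k).trans hg1⟩
        have : fx (k * g * k⁻¹) = Fintype.card Ω := by
          rw [← Finset.card_univ]
          exact congrArg Finset.card (Finset.filter_true_of_mem fun y _ => hZ _ hz y)
        rw [conjfx, hg1] at this
        exact hee ((Fintype.card_le_one_iff.mp this.symm.le) e e')
      refine Finset.card_bij (fun g _ => h⁻¹ * g * h) (fun g hg => ?_) (fun _ _ _ _ e => by simpa using e)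
        (fun g hg => ?_)
      · rw [Finset.mem_filter] at hg ⊢
        refine ⟨by simpa using conjOne g h⁻¹ hg.1, ?_⟩
        rw [mul_smul, mul_smul, hg.2, inv_smul_smul]
      · rw [Finset.mem_filter] at hg
        refine ⟨h * g * h⁻¹, ?_, by group⟩
        rw [Finset.mem_filter]
        exact ⟨conjOne g h hg.1, by simp only [mul_smul, inv_smul_smul, hg.2]⟩
    have hs1 : (One.filter fun g => g • s = s).card + P = P * A := by
      rw [← hone2, Nat.card_congr (Equiv.subtypeEquivRight
        (q := fun g => g ∈ One.filter fun g => g • s = s) fun g => by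
          simp only [One, Finset.mem_filter, Finset.mem_univ, true_and, ← hfx]; tauto), Nat.card_eq_fintype_card, Fintype.card_coe]
    calc One.card = ∑ g ∈ One, (O.filter fun x => g • x = x).card := by
            rw [Finset.card_eq_sum_ones]; exact Finset.sum_congr rfl fun g hg => (hex g hg).symm
      _ = ∑ x ∈ O, (One.filter fun g => g • x = x).card := by
            simp only [Finset.card_filter]; exact Finset.sum_comm
      _ = P * (P * A - P) := by
            rw [Finset.sum_congr rfl hc, Finset.sum_const, smul_eq_mul,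
              show O.card = P from (horb s).trans ho]
            congr 1; omega
  have hoe : ∀ x : Ω, Nat.card (MulAction.stabilizer G x) = P * P →
      (MulAction.orbit G x).ncard = A * m := fun x hx => by
    have := hOS x
    rw [hx, hG] at this
    refine Nat.eq_of_mul_eq_mul_left (show 0 < P * P by positivity) (this.trans ?_)
    ring
  have hsum_le : ∀ x : Ω, x ∈ MulAction.orbit G x := MulAction.mem_orbit_self
  have hS1 : ∑ y ∈ orb s, st y + P * P = P * (P * A * m) := by
    rw [hsum, ho, ← hs, ← hst s]; ring
  have hS2 : ∀ x : Ω, Nat.card (MulAction.stabilizer G x) = P * P →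
      ∑ y ∈ orb x, st y + A * m * P = A * m * (P * P) := fun x hx => by
    rw [hsum, hoe x hx, ← hx, ← hst x]; ring
  have hAm : 2 ≤ A * m := by
    by_contra hlt
    have h1 : A * m = 1 := by
      have : 1 ≤ A * m := Nat.mul_pos hA hm
      omega
    obtain ⟨g, hg⟩ := hmv
    refine hg ?_
    have := (hoe e he).trans h1
    obtain ⟨y, hy⟩ := Set.ncard_eq_one.mp this
    have h3 : g • e ∈ MulAction.orbit G e := MulAction.mem_orbit e g
    have h4 := hsum_le e
    rw [hy, Set.mem_singleton_iff] at h3 h4
    rw [h3, ← h4]
  have hOneZ : One.card + P * P = P * (P * A) := by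
    rw [hOne, ← Nat.mul_add, Nat.sub_add_cancel (Nat.le_mul_of_pos_right P hA)]
  by_cases hsame' : e' ∈ MulAction.orbit G e
  swap
  · exfalso
    have hd : Disjoint (orb s ∪ orb e) (orb e') :=
      Finset.disjoint_union_left.mpr ⟨hdisj s e' he's, hdisj e e' hsame'⟩
    have hle : ∑ y ∈ orb s ∪ orb e ∪ orb e', st y ≤ ∑ x : Ω, st x :=
      Finset.sum_le_sum_of_subset (Finset.subset_univ _)
    rw [Finset.sum_union hd, Finset.sum_union (hdisj s e hes)] at hle
    have h3 := hS2 e he
    have h4 := hS2 e' he'
    have key : P * (P * (A * m) + P * A + 2) ≤ P * (2 * (A * m) + 2 * P) := by linarith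
    have key' := Nat.le_of_mul_le_mul_left key (by omega)
    obtain ⟨j, rfl⟩ : ∃ j, P = j + 3 := ⟨P - 3, by omega⟩
    have : j * 2 ≤ j * (A * m) := Nat.mul_le_mul_left j hAm
    have : (j + 3) * 1 ≤ (j + 3) * A := Nat.mul_le_mul_left _ hA
    linarith
  let R : Finset Ω := univ \ (orb s ∪ orb e)
  have hsplit : ∑ x : Ω, st x = ∑ y ∈ orb s, st y + ∑ y ∈ orb e, st y + ∑ y ∈ R, st y := by
    rw [← Finset.sum_union (hdisj s e hes), ← Finset.sum_sdiff (Finset.subset_univ (orb s ∪ orb e))]
    ring
  by_cases hR : ∃ x ∈ R, st x ≠ 0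
  · left
    obtain ⟨x, hxR, hx0⟩ := hR
    simp only [R, Finset.mem_sdiff, Finset.mem_union, not_or] at hxR
    have hsub : orb x ⊆ R := by
      intro y hy
      simp only [R, Finset.mem_sdiff, Finset.mem_union, not_or, Finset.mem_univ, true_and]
      simp only [orb, Finset.mem_filter, Finset.mem_univ, true_and] at hy hxR ⊢
      constructor <;> intro h
      · exact hxR.1 (by rw [← MulAction.orbit_eq_iff.mpr h, MulAction.orbit_eq_iff.mpr hy]; exact hsum_le x)
      · exact hxR.2 (by rw [← MulAction.orbit_eq_iff.mpr h, MulAction.orbit_eq_iff.mpr hy]; exact hsum_le x)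
    obtain ⟨k, hk⟩ : P ∣ Nat.card (MulAction.stabilizer G x) := hzc ▸
      Subgroup.card_dvd_of_le fun g hg => MulAction.mem_stabilizer_iff.mpr (hZ g hg x)
    have hk2 : 2 ≤ k := by
      have := hst x
      have hpos : 0 < Nat.card (MulAction.stabilizer G x) := Nat.card_pos
      rcases k with _ | _ | k
      · rw [hk, mul_zero] at hpos; exact absurd hpos (lt_irrefl 0)
      · omega
      · omega
    have hst' : 2 * st x ≥ Nat.card (MulAction.stabilizer G x) := by
      have := hst x
      have : P * 2 ≤ P * k := Nat.mul_le_mul_left P hk2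
      omega
    have h3 : Fintype.card G ≤ 2 * ∑ y ∈ R, st y := by
      refine le_trans ?_ (Nat.mul_le_mul_left 2 (Finset.sum_le_sum_of_subset hsub))
      rw [hsum, ← hOS x]
      calc Nat.card (MulAction.stabilizer G x) * (MulAction.orbit G x).ncard
          ≤ 2 * st x * (MulAction.orbit G x).ncard := Nat.mul_le_mul_right _ hst'
        _ = _ := by ring
    have h4 := hS2 e he
    by_contra hne
    have h5 : 3 ≤ A * m := by omega
    have key : P * (P * (A * m) + 2 * (P * A) + 4) ≤ P * (2 * (A * m) + 4 * P) := by linarith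
    have key' := Nat.le_of_mul_le_mul_left key (by omega)
    obtain ⟨j, rfl⟩ : ∃ j, P = j + 3 := ⟨P - 3, by omega⟩
    have h6 : j * 3 ≤ j * (A * m) := Nat.mul_le_mul_left j h5
    rcases Nat.lt_or_ge A 2 with hA1 | hA2
    · obtain rfl : A = 1 := by omega
      linarith
    · have h7 : (j + 3) * 2 ≤ (j + 3) * A := Nat.mul_le_mul_left _ hA2
      linarith
  · right
    simp only [not_exists, not_and, not_not] at hR
    have h0 : ∑ y ∈ R, st y = 0 := Finset.sum_eq_zero hR
    have h4 := hS2 e he
    refine Nat.eq_of_mul_eq_mul_left (show 0 < P by omega) ?_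
    linarith

end Count

end Cfsg.Agent.UDec18
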