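import Cfsg.Agent.UDec18.Even
import Cfsg.Agent.UDec18.Odd
import Cfsg.Agent.UDec18.Block

/-!
Lines (`k = 1`) over `GF(4)` (helper18).
-/

set_option autoImplicit false
set_option linter.unusedSectionVars false

namespace Cfsg.Agent.UDec18

open Matrix Cfsg.Agent.MaxSub Cfsg.Agent.HermStab
open Finset (univ)

variable {F : Type*} [Field F] [Fintype F] {n q : ℕ}
variable {σ : F ≃+* F} {f : (Fin n → F) → (Fin n → F) → F} {M : Subgroup (GL (Fin n) F)}

local notation:73 g:74 " ◆ " x:73 => (Units.val g) *ᵥ x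

variable (S : Std q σ f)
include S

theorem centre_of_swapC (h2 : q = 2) {v : Fin n → F} (hv : SwapC f M v) : Centre σ f M v := by
  refine ⟨hv.1, fun c hc => ?_⟩
  have hc2 := two_char S h2
  have h : c * (c - 1) = 0 := by
    have : σ c = c * c := by rw [S.pow, h2, pow_two]
    rw [this] at hc
    linear_combination hc - c * hc2
  rcases mul_eq_zero.mp h with h | h
  · rw [h, show ut f v (0 : F) = 1 from gl_ext fun x => by
      rw [ut_mulVec S.uf hv.1, zero_mul, zero_smul, add_zero, Units.val_one, one_mulVec]]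
    exact one_mem M
  · rw [sub_eq_zero.mp h]; exact hv.2

theorem sp_cast (h2 : q = 2) (v : Fin n → F) : f v v = ((sp v).card : F) := by
  classical
  rw [S.self_sum, ← Finset.sum_subset (Finset.subset_univ (sp v)) (fun i _ hi => by
    rw [not_not.mp (mt mem_sp.mpr hi), zero_mul])]
  rw [Finset.sum_congr rfl fun i hi => norm_two S h2 (mem_sp.mp hi)]
  simp

/-- Some root image is long. -/
theorem exists_long (h2 : q = 2) (hn : 10 ≤ n) {g : GL (Fin n) F} (hgi : g ∈ isom f)
    (hgH : ¬ Mono g) :
    ∃ (a b : Fin n) (ξ : F), a ≠ b ∧ ξ * σ ξ = 1 ∧ 4 ≤ (sp (g ◆ two a 1 b ξ)).card := by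
  classical
  have hc2 := two_char S h2
  by_contra hcon
  simp only [not_exists, not_and, not_le] at hcon
  have hsmall : ∀ a b, a ≠ b → ∀ ξ ∈ S.circ, (sp (g ◆ two a 1 b ξ)).card ≤ 2 := by
    intro a b hab ξ hξ
    have h3 := hcon a b ξ hab (S.mem_circ.mp hξ)
    by_contra h
    have hc : (sp (g ◆ two a 1 b ξ)).card = 3 := by omega
    have h0 := sp_cast S h2 (g ◆ two a 1 b ξ)
    rw [mem_isom.mp hgi, S.two_two hab, map_one, S.mem_circ.mp hξ, hc] at h0
    push_cast at h0
    exact one_ne_zero (α := F) (by linear_combination -h0)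
  obtain ⟨ζ, hζ, η, hη, hne⟩ := Finset.one_lt_card.mp
    (show 1 < S.circ.card by rw [S.card_circ]; omega)
  have key : ∀ a, (sp (g ◆ e a)).card = 1 ∨ (sp (g ◆ e a)).card = 3 := by
    intro a
    obtain ⟨b, -, hb⟩ := Finset.exists_mem_notMem_of_card_lt_card (s := ({a} : Finset (Fin n)))
      (t := univ) (by simp; omega)
    have hab : a ≠ b := fun h => hb (by simp [h])
    have hle : (sp (g ◆ e a)).card ≤ 4 := by
      refine le_trans (Finset.card_le_card (t := sp (g ◆ two a 1 b ζ) ∪ sp (g ◆ two a 1 b η))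
        fun i hi => ?_) ((Finset.card_union_le _ _).trans (by
          have := hsmall a b hab ζ hζ; have := hsmall a b hab η hη; omega))
      rw [Finset.mem_union]
      by_contra h
      simp [two, mulVec_add, mulVec_smul] at h
      simp at hi
      exact hi ((mul_eq_zero.mp (show (η - ζ) * (g : Matrix (Fin n) (Fin n) F) i a = 0 by
        linear_combination η * h.1 - ζ * h.2)).resolve_left (sub_ne_zero.mpr (Ne.symm hne)))
    have h0 := sp_cast S h2 (g ◆ e a)
    rw [mem_isom.mp hgi, S.e_e, if_pos rfl] at h0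
    rcases (show (sp (g ◆ e a)).card = 0 ∨ (sp (g ◆ e a)).card = 1 ∨ (sp (g ◆ e a)).card = 2 ∨
        (sp (g ◆ e a)).card = 3 ∨ (sp (g ◆ e a)).card = 4 by omega) with h | h | h | h | h
    · rw [h] at h0; simp at h0
    · exact Or.inl h
    · rw [h] at h0; push_cast at h0
      exact absurd (show (1 : F) = 0 by linear_combination h0 + hc2) one_ne_zero
    · exact Or.inr h
    · rw [h] at h0; push_cast at h0
      exact absurd (show (1 : F) = 0 by linear_combination h0 + 2 * hc2) one_ne_zero
  by_cases hthree : ∃ a, (sp (g ◆ e a)).card = 3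
  · obtain ⟨a, ha⟩ := hthree
    set L := sp (g ◆ e a) with hL
    have sub : ∀ b, ∀ m, m ∉ L → (g ◆ e b) m = 0 := by
      intro b m hm
      by_cases hab : b = a
      · subst hab; exact not_not.mp (mt mem_sp.mpr hm)
      set x := g ◆ e a with hx
      set y := g ◆ e b with hy
      have hxy : ∀ ξ, g ◆ two a 1 b ξ = x + ξ • y := fun ξ => by
        simp only [two, mulVec_add, mulVec_smul, one_smul, hx, hy]
      have hz : ∀ ξ ∈ S.circ, ∃ l ∈ L, x l + ξ * y l = 0 := by
        intro ξ hξ
        by_contra h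
        simp only [not_exists, not_and] at h
        have := Finset.card_le_card (show L ⊆ sp (g ◆ two a 1 b ξ) from fun l hl => by
          rw [mem_sp, hxy]; simpa using h l hl)
        have := hsmall a b (Ne.symm hab) ξ hξ
        omega
      choose φ hφL hφ using hz
      have hinj : ∀ ξ (hξ : ξ ∈ S.circ) ζ (hζ : ζ ∈ S.circ), φ ξ hξ = φ ζ hζ → ξ = ζ := by
        intro ξ hξ ζ hζ he
        have e1 := hφ ξ hξ
        have e2 := hφ ζ hζ
        rw [← he] at e2
        by_contra hne
        have hy0 : y (φ ξ hξ) = 0 := (mul_eq_zero.mp (show (ξ - ζ) * y (φ ξ hξ) = 0 by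
          linear_combination e1 - e2)).resolve_left (sub_ne_zero.mpr hne)
        rw [hy0, mul_zero, add_zero] at e1
        exact mem_sp.mp (hφL ξ hξ) e1
      by_contra hym
      -- every `ξ` kills exactly one coordinate of `L` and then three coordinates remain
      have hξ1 : (1 : F) ∈ S.circ := S.one_mem_circ
      have hsub : insert m (L.erase (φ 1 hξ1)) ⊆ sp (g ◆ two a 1 b 1) := by
        intro l hl
        rw [mem_sp, hxy]
        simp only [Pi.add_apply, Pi.smul_apply, one_smul]
        rcases Finset.mem_insert.mp hl with rfl | hl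
        · rw [show x l = 0 from not_not.mp (mt mem_sp.mpr hm), zero_add]; exact hym
        obtain ⟨hne', hlL⟩ := Finset.mem_erase.mp hl
        intro h0
        have himg : (S.circ.attach.image fun ξ => φ ξ.1 ξ.2) = L := by
          refine Finset.eq_of_subset_of_card_le (fun i hi => ?_) ?_
          · obtain ⟨ξ, -, rfl⟩ := Finset.mem_image.mp hi; exact hφL _ _
          · rw [Finset.card_image_of_injective _ (fun p r h => Subtype.ext (hinj _ _ _ _ h)),
              Finset.card_attach, S.card_circ, h2, ha]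
        rw [← himg, Finset.mem_image] at hlL
        obtain ⟨ξ, -, rfl⟩ := hlL
        have e1 := hφ ξ.1 ξ.2
        by_cases h1 : ξ.1 = 1
        · exact hne' (by congr 1)
        have hy0 : y (φ ξ.1 ξ.2) = 0 := (mul_eq_zero.mp (show (ξ.1 - 1) * y (φ ξ.1 ξ.2) = 0 by
          linear_combination e1 - h0)).resolve_left (sub_ne_zero.mpr h1)
        rw [hy0, mul_zero, add_zero] at e1
        exact mem_sp.mp (hφL _ _) e1
      have := Finset.card_le_card hsub
      rw [Finset.card_insert_of_notMem (fun h => hm (Finset.mem_of_mem_erase h)),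
        Finset.card_erase_of_mem (hφL _ _), ha] at this
      have := hsmall a b (Ne.symm hab) 1 hξ1
      omega
    obtain ⟨m, -, hm⟩ := Finset.exists_mem_notMem_of_card_lt_card (s := L) (t := univ)
      (by rw [Finset.card_univ, Fintype.card_fin]; omega)
    have h0 : (g⁻¹ : GL (Fin n) F) ◆ e m = 0 := funext fun b => by
      rw [← S.f_e ((g⁻¹ : GL (Fin n) F) ◆ e m) b, ← mem_isom.mp hgi, mulVec_inv_mulVec, S.e_f,
        sub b m hm, map_zero]
      rfl
    have := congrArg (fun w => g ◆ w) h0
    simp only [mulVec_inv_mulVec, mulVec_zero] at this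
    simpa [e] using congrFun this m
  · simp only [not_exists] at hthree
    have h1 : ∀ a, ∃ p, sp (g ◆ e a) = {p} := fun a =>
      Finset.card_eq_one.mp ((key a).resolve_right (hthree a))
    choose p hp using h1
    refine hgH ⟨p, fun a b hab => ?_⟩
    have := mem_sp.mpr hab
    rwa [hp, Finset.mem_singleton] at this

/-- From six coordinates to four. -/
theorem six_to_four (h2 : q = 2) (hn : 10 ≤ n) (hH : ∀ h ∈ su f, Mono h → h ∈ M)
    (hMG : M ≤ su f) {v : Fin n → F} (hv : SwapC f M v) (h6 : (sp v).card = 6) :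
    ∃ w, SwapC f M w ∧ (sp w).card = 4 := by
  classical
  have hc2 := two_char S h2
  obtain ⟨T, hT, hTc⟩ := Finset.exists_subset_card_eq (show 4 ≤ (sp v).card by omega)
  obtain ⟨a, ha⟩ := Finset.card_pos.mp (show 0 < T.card by omega)
  obtain ⟨z, -, hz⟩ := Finset.exists_mem_notMem_of_card_lt_card (s := sp v) (t := univ)
    (by rw [Finset.card_univ, Fintype.card_fin]; omega)
  obtain ⟨l, hl, hl1⟩ := Finset.exists_mem_notMem_of_card_lt_card (s := ({1} : Finset F))
    (t := S.circ) (by rw [S.card_circ]; simp; omega)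
  rw [Finset.mem_singleton] at hl1
  have hlN := S.mem_circ.mp hl
  have hσl : σ l = l * l := by rw [S.pow, h2, pow_two]
  have hrel : l + σ l + 1 = 0 := (mul_eq_zero.mp (show (l - 1) * (l + σ l + 1) = 0 by
    rw [hσl] at hlN ⊢; linear_combination hlN)).resolve_left (sub_ne_zero.mpr hl1)
  set ν : Fin n → F := fun i => if i = a then l else if i ∈ T then σ l else 1 with hν
  have hνN : ∀ i, ν i * σ (ν i) = 1 := fun i => by
    simp only [hν]; split_ifs
    · exact hlN
    · rw [S.inv, mul_comm]; exact hlN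
    · simp
  obtain ⟨h, hh, hhm, hhe⟩ := S.exists_mono_su 1 ν hνN z
  have hhM := hH h hh (mono_of_perm 1 fun i => let ⟨μ, _, hμ⟩ := hhm i; ⟨μ, hμ⟩)
  have hvz : v z = 0 := not_not.mp (mt mem_sp.mpr hz)
  have hhv : ∀ i, (h ◆ v) i = ν i * v i := fun i => by
    choose μ hμ using fun i => (hhm i)
    rw [← Equiv.Perm.one_apply (α := Fin n) i, mono_ap_coord (fun j => (hμ j).2) v i,
      Equiv.Perm.one_apply]
    by_cases hi : i = z
    · subst hi; simp [hvz]
    · congr 1
      have := congrFun ((hμ i).2.symm.trans (hhe i hi)) i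
      simpa [e] using this
  have hf : f (h ◆ v) v = 1 := by
    have hT' : ∀ i, i ∉ T → (ν i - 1) * (v i * σ (v i)) = 0 := fun i hi => by
      have : i ≠ a := fun h => hi (h ▸ ha)
      simp [hν, this, hi]
    rw [S.sum, Finset.sum_congr rfl (fun i _ => show (h ◆ v) i * σ (v i) =
      v i * σ (v i) + (ν i - 1) * (v i * σ (v i)) by rw [hhv]; ring), Finset.sum_add_distrib,
      ← S.self_sum, hv.1, zero_add, ← Finset.sum_subset (Finset.subset_univ T)
        (fun i _ hi => hT' i hi),
      Finset.sum_congr rfl (fun i hi => show (ν i - 1) * (v i * σ (v i)) = ν i - 1 by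
        rw [norm_two S h2 (mem_sp.mp (hT hi)), mul_one]),
      ← Finset.add_sum_erase T _ ha,
      Finset.sum_congr rfl (fun i hi => show ν i - 1 = σ l - 1 by
        obtain ⟨h1, h2⟩ := Finset.mem_erase.mp hi; simp [hν, h1, h2]),
      Finset.sum_const, Finset.card_erase_of_mem ha, hTc]
    simp [hν]
    linear_combination hrel + (σ l - 3) * hc2
  have hw := SwapC.move S hc2 hv (SwapC.map S hv hhM hh.1)
  rw [hf, one_smul] at hw
  refine ⟨_, hw, ?_⟩
  rw [← hTc]
  congr 1
  ext i
  rw [mem_sp, Pi.add_apply, hhv, show ν i * v i + v i = (ν i - 1) * v i by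
    linear_combination (v i) * hc2]
  constructor
  · intro hi
    by_contra hiT
    have : i ≠ a := fun h => hiT (h ▸ ha)
    simp [hν, this, hiT] at hi
  · intro hi
    refine mul_ne_zero ?_ (mem_sp.mp (hT hi))
    simp only [hν]
    split_ifs
    · exact sub_ne_zero.mpr hl1
    · exact sub_ne_zero.mpr fun h => hl1 (by rw [← S.inv l, h, map_one])

/-- **`q = 2`.** -/
theorem centre_q2 (h2 : q = 2) (hn : 10 ≤ n) (hH : ∀ h ∈ su f, Mono h → h ∈ M) (hMG : M ≤ su f)
    {g : GL (Fin n) F} (hg : g ∈ M) (hgH : ¬ Mono g) :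
    ∀ v, f v v = 0 → Centre σ f M v := by
  classical
  have hc2 := two_char S h2
  have hR : Roots σ f M := by
    intro a b α β hab hαβ
    by_cases hα : α = 0
    · have hβ : β = 0 := by rw [hα] at hαβ; simpa using hαβ
      simpa [hα, hβ, two] using centre_zero (M := M) S.uf
    have hβ : β ≠ 0 := fun h => by rw [h] at hαβ; simp [hα] at hαβ
    have h1 := centre_smul S.uf (centre_of_swapC S h2 (swap_mem S hc2 hH hab
      (norm_two S h2 (div_ne_zero hβ hα)))) α
    convert h1 using 1
    simp [two, smul_add, smul_smul, mul_div_cancel₀ _ hα]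
  obtain ⟨a, b, ξ, hab, hξ, h4⟩ := exists_long S h2 hn (hMG hg).1 hgH
  have hv := SwapC.map S (swap_mem S hc2 hH hab hξ) hg (hMG hg).1
  obtain ⟨w, hw, hw4⟩ : ∃ w, SwapC f M w ∧ (sp w).card = 4 := by
    set v := g ◆ two a 1 b ξ
    by_cases h : (sp v).card = 4
    · exact ⟨v, hv, h⟩
    have h6 : 6 ≤ (sp v).card := by
      by_contra hc
      have h5 : (sp v).card = 5 := by omega
      have h0 := sp_cast S h2 v
      rw [hv.1, h5] at h0
      push_cast at h0
      exact one_ne_zero (α := F) (by linear_combination -h0 - 2 * hc2)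
    obtain ⟨T, hT, hTc⟩ := Finset.exists_subset_card_eq h6
    set p : Fin 6 → Fin n := fun i => (T.orderEmbOfFin hTc i : Fin n)
    have hp : Function.Injective p := (T.orderEmbOfFin hTc).injective
    have hpv : ∀ i, v (p i) ≠ 0 := fun i => mem_sp.mp (hT (T.orderEmbOfFin_mem hTc i))
    have ex : ∀ i j : Fin 6, ∃ ξ ∈ S.circ,
        (v (p i) + σ ξ * v (p j)) * σ (v (p i) + σ ξ * v (p j)) = 1 := fun i j => by
      obtain ⟨hR1, -⟩ := card_values S (by rw [h2]; exact even_two) (hpv i) (hpv j)
      obtain ⟨r, hr, hr0⟩ := Finset.exists_mem_notMem_of_card_lt_card (s := ({0} : Finset F))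
        (t := S.circ.image fun ξ => (v (p i) + σ ξ * v (p j)) * σ (v (p i) + σ ξ * v (p j)))
        (by rw [Finset.card_singleton]; omega)
      obtain ⟨ξ, hξ, rfl⟩ := Finset.mem_image.mp hr
      exact ⟨ξ, hξ, norm_two S h2 (left_ne_zero_of_mul (by simpa using hr0))⟩
    obtain ⟨ξ₁, hξ₁, e₁⟩ := ex 0 1
    obtain ⟨ξ₂, hξ₂, e₂⟩ := ex 2 3
    obtain ⟨ξ₃, hξ₃, e₃⟩ := ex 4 5
    have hC := six S hc2 hH hMG hv p hp (S.mem_circ.mp hξ₁) (S.mem_circ.mp hξ₂)
      (S.mem_circ.mp hξ₃) (by rw [e₁, e₂, e₃]; linear_combination hc2)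
    refine six_to_four S h2 hn hH hMG hC ?_
    set f₁ := v (p 0) + σ ξ₁ * v (p 1)
    set f₂ := v (p 2) + σ ξ₂ * v (p 3)
    set f₃ := v (p 4) + σ ξ₃ * v (p 5)
    refine Eq.trans ?_ (show (univ.image p).card = 6 by
      rw [Finset.card_image_of_injective _ hp]; simp)
    congr 1
    ext i
    rw [mem_sp, Finset.mem_image]
    constructor
    · intro hi
      by_contra hc
      simp only [Finset.mem_univ, true_and, not_exists] at hc
      exact hi (by simp [two, e, fun j => Ne.symm (hc j)])
    · rintro ⟨j, -, rfl⟩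
      have d : ∀ j k : Fin 6, (p j = p k) = (j = k) := fun j k => propext hp.eq_iff
      have g1 : f₁ ≠ 0 := fun h => by simp [h] at e₁
      have g2 : f₂ ≠ 0 := fun h => by simp [h] at e₂
      have g3 : f₃ ≠ 0 := fun h => by simp [h] at e₃
      fin_cases j <;> simp [two, e, Pi.single_apply, d, g1, g2, g3, S.circ_ne_zero hξ₁,
        S.circ_ne_zero hξ₂, S.circ_ne_zero hξ₃]
  exact centre_all S hR fun _ => four_all S h2 (by omega) hR (centre_of_swapC S h2 hw) hw4

end Cfsg.Agent.UDec18
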