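import Cfsg.Agent.UDec18.Lines
import Cfsg.Agent.Lib.Forms.Sesq
import Cfsg.Agent.Classical10.NotMax.Basic

/-!
Coordinates adapted to an orthogonal decomposition (helper18).
-/

set_option autoImplicit false
set_option linter.unusedSectionVars false

namespace Cfsg.Agent.UDec18

open Matrix Cfsg.Agent.MaxSub Cfsg.Agent.HermStab
open Finset (univ)

variable {F : Type*} [Field F] [Fintype F] {n q : ℕ}
variable {σ : F ≃+* F} {f : (Fin n → F) → (Fin n → F) → F}

local notation:73 g:74 " ◆ " x:73 => (Units.val g) *ᵥ x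

variable (S : Std q σ f)
include S

theorem exists_orth_family {W : Submodule F (Fin n → F)} (hW : Geo.IsNondegenerateOn f W) {k : ℕ}
    (hk : Module.finrank F W = k) :
    ∃ b : Fin k → Fin n → F, (∀ i, b i ∈ W) ∧ ∀ i j, f (b i) (b j) = if i = j then 1 else 0 := by
  let B : (Fin n → F) →ₛₗ[(σ : F →+* F)] (Fin n → F) →ₗ[F] F :=
    LinearMap.mk₂'ₛₗ (σ : F →+* F) (RingHom.id F) (fun x y => f y x)
      (fun x x' y => hadd_right S.uf y x x') (fun c x y => hsmul_right S.uf c y x)
      (fun x y y' => S.uf.add_left y y' x) (fun c x y => S.uf.smul_left c y x)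
  have hB : ∀ x y, B x y = f y x := fun x y => rfl
  have hσ : (σ : F →+* F) ≠ RingHom.id F := fun h =>
    S.uf.1 (RingEquiv.ext fun x => RingHom.congr_fun h x)
  obtain ⟨b, hb, hbo⟩ := Forms.exists_orthonormal_family hσ (fun a => S.inv a) B
    ⟨fun x y => by rw [hB, hB]; exact (S.uf.herm x y).symm⟩ k W
    (fun w hw hall => by
      by_contra h0
      obtain ⟨x, hx, hne⟩ := (hW w hw h0).1
      exact hne (by rw [← hB]; exact hall x hx)) hk
  exact ⟨b, hb, fun i j => by rw [← hB, hbo]; exact if_congr eq_comm rfl rfl⟩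

/-- An isometry carrying coordinate blocks to the members of the decomposition. -/
theorem exists_coords {t k : ℕ} {D : Fin t → Submodule F (Fin n → F)}
    (hD : Geo.IsNondegenerateMDecomposition f k D) :
    ∃ (U : GL (Fin n) F) (blk : Fin n → Fin t), U ∈ isom f ∧
      (∀ j, Nat.card {i // blk i = j} = k) ∧
      ∀ j x, x ∈ D j ↔ ∀ a, blk a ≠ j → ((U⁻¹ : GL (Fin n) F) ◆ x) a = 0 := by
  classical
  have hn : n = t * k := by
    have := NotMax.finrank_le_sum hD.decomp
    rwa [Fintype.card_fin] at this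
  choose b hb hbo using fun j => exists_orth_family S (hD.nondegenerate j) (hD.decomp.finrank_eq j)
  let idx : Fin n ≃ Fin t × Fin k := (finCongr hn).trans finProdFinEquiv.symm
  set col : Fin n → Fin n → F := fun a => b (idx a).1 (idx a).2 with hcol
  have hcc : ∀ a c, f (col a) (col c) = if a = c then 1 else 0 := by
    intro a c
    by_cases h : (idx a).1 = (idx c).1
    · have e : col c = b (idx a).1 (idx c).2 := by rw [hcol, h]
      rw [e, show col a = b (idx a).1 (idx a).2 from rfl, hbo]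
      exact if_congr ⟨fun h' => idx.injective (Prod.ext h h'), fun h' => by rw [h']⟩ rfl rfl
    · rw [if_neg fun h' => h (by rw [h'])]
      exact hD.orthogonal _ _ h _ (hb _ _) _ (hb _ _)
  set A : Matrix (Fin n) (Fin n) F := Matrix.of fun i a => col a i with hA
  have hAe : ∀ x, A *ᵥ x = ∑ a, x a • col a := fun x => by
    funext i
    simp [hA, mulVec, dotProduct, Finset.sum_apply, mul_comm]
  have hdot : ∀ x a, f (A *ᵥ x) (col a) = x a := fun x a => by
    show hl S.uf (col a) (A *ᵥ x) = _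
    rw [hAe, map_sum]
    simp only [map_smul, smul_eq_mul]
    rw [Finset.sum_eq_single a (fun c _ hc => by
      rw [show hl S.uf (col a) (col c) = f (col c) (col a) from rfl, hcc, if_neg hc, mul_zero])
      (by simp)]
    rw [show hl S.uf (col a) (col a) = f (col a) (col a) from rfl, hcc, if_pos rfl, mul_one]
  have hdet : A.det ≠ 0 := fun h => by
    obtain ⟨x, hx, hx0⟩ := Matrix.exists_mulVec_eq_zero_iff.mpr h
    exact hx (funext fun a => by rw [← hdot x a, hx0, hzero_left S.uf]; rfl)
  set U := GeneralLinearGroup.mkOfDetNeZero A hdet with hU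
  have hUx : ∀ x, U ◆ x = A *ᵥ x := fun x => rfl
  have hiso : U ∈ isom f := mem_isom.mpr fun x y => by
    show f (A *ᵥ x) (A *ᵥ y) = f x y
    rw [S.sum x y]
    conv_lhs => rw [hAe x]
    show hl S.uf (A *ᵥ y) (∑ a, x a • col a) = _
    rw [map_sum]
    refine Finset.sum_congr rfl fun a _ => ?_
    rw [map_smul, smul_eq_mul, show hl S.uf (A *ᵥ y) (col a) = f (col a) (A *ᵥ y) from rfl,
      S.uf.herm (col a) (A *ᵥ y), hdot]
  have hinv : ∀ x a, ((U⁻¹ : GL (Fin n) F) ◆ x) a = f x (col a) := fun x a => by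
    rw [← hdot ((U⁻¹ : GL (Fin n) F) ◆ x) a, ← hUx, mulVec_inv_mulVec]
  refine ⟨U, fun a => (idx a).1, hiso, fun j => ?_, fun j x => ⟨fun hx a ha => ?_, fun hx => ?_⟩⟩
  · rw [Nat.card_congr (show {i // (idx i).1 = j} ≃ Fin k from
      ((idx.subtypeEquiv (q := fun p : Fin t × Fin k => p.1 = j) fun i => Iff.rfl).trans
        ⟨fun p => p.1.2, fun m => ⟨(j, m), rfl⟩, fun p => by
          obtain ⟨⟨p1, p2⟩, hp⟩ := p; subst hp; rfl, fun m => rfl⟩))]
    simp
  · rw [hinv]
    exact hD.orthogonal _ _ (Ne.symm ha) x hx _ (hb _ _)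
  · rw [← mulVec_inv_mulVec U x, hUx, hAe]
    refine Submodule.sum_mem _ fun a _ => ?_
    by_cases ha : (idx a).1 = j
    · exact Submodule.smul_mem _ _ (ha ▸ hb _ _)
    · rw [hx a ha, zero_smul]; exact Submodule.zero_mem _

end Cfsg.Agent.UDec18
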