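import Mathlib.NumberTheory.LegendreSymbol.QuadraticChar.Basic

/-!
A sign count for two differences of shifted quadratic characters (helper24).
-/

set_option autoImplicit false

namespace Cfsg.Agent.UDec18.SixCount

open Finset

variable {K : Type*} [Field K] [Fintype K] [DecidableEq K]

/-- `η (n - B) - η (n - A)`. -/
def dchi (A B n : K) : ℤ := quadraticChar K (n - B) - quadraticChar K (n - A)

theorem chi_self {a : K} (ha : a ≠ 0) : quadraticChar K a * quadraticChar K a = 1 := by
  rw [← sq]; exact quadraticChar_sq_one ha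

theorem sum_shift (h2 : ringChar K ≠ 2) (x y : K) :
    ∑ n, quadraticChar K (n - x) * quadraticChar K (n - y) =
      (if x = y then (Fintype.card K : ℤ) else 0) - 1 := by
  by_cases hxy : x = y
  · subst hxy
    rw [← sum_erase_add (univ : Finset K) _ (mem_univ x), sum_congr rfl (fun n hn =>
      chi_self (K := K) (a := n - x) (sub_ne_zero.mpr (ne_of_mem_erase hn)) :
        ∀ n ∈ univ.erase x, quadraticChar K (n - x) * quadraticChar K (n - x) = (fun _ => (1 : ℤ)) n)]
    simp [card_erase_of_mem]
    have := Fintype.card_pos (α := K)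
    omega
  rw [if_neg hxy, ← sum_erase_add (univ : Finset K) _ (mem_univ y)]
  simp only [sub_self, MulChar.map_zero, mul_zero, add_zero, zero_sub]
  have hz : ∑ r ∈ univ.erase (1 : K), quadraticChar K r = -1 := by
    have h := quadraticChar_sum_zero h2 (F := K)
    rw [← sum_erase_add (univ : Finset K) _ (mem_univ (1 : K)), map_one] at h
    linear_combination h
  rw [← hz]
  have hyx : y - x ≠ 0 := sub_ne_zero.mpr (Ne.symm hxy)
  refine sum_nbij' (M := ℤ) (fun n : K => (n - x) / (n - y)) (fun r : K => (x - r * y) / (1 - r))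
    (fun n hn => ?_) (fun r hr => ?_) (fun n hn => ?_) (fun r hr => ?_) (fun n hn => ?_)
  · have hny : n - y ≠ 0 := sub_ne_zero.mpr (ne_of_mem_erase hn)
    refine mem_erase.mpr ⟨fun h => ?_, mem_univ _⟩
    rw [div_eq_one_iff_eq hny] at h
    exact hxy (by linear_combination -h)
  · have hr1 : (1 : K) - r ≠ 0 := sub_ne_zero.mpr (Ne.symm (ne_of_mem_erase hr))
    refine mem_erase.mpr ⟨fun h => ?_, mem_univ _⟩
    rw [div_eq_iff hr1] at h
    exact hxy (by linear_combination h)
  · have hny : n - y ≠ 0 := sub_ne_zero.mpr (ne_of_mem_erase hn)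
    have hxy' : x - y ≠ 0 := sub_ne_zero.mpr hxy
    have e : 1 - (n - x) / (n - y) = (x - y) / (n - y) := by field_simp; ring
    show (x - (n - x) / (n - y) * y) / (1 - (n - x) / (n - y)) = n
    rw [e]; field_simp; ring
  · have hr1 : (1 : K) - r ≠ 0 := sub_ne_zero.mpr (Ne.symm (ne_of_mem_erase hr))
    have e : (x - r * y) / (1 - r) - y = (x - y) / (1 - r) := by field_simp; ring
    have hxy' : x - y ≠ 0 := sub_ne_zero.mpr hxy
    show ((x - r * y) / (1 - r) - x) / ((x - r * y) / (1 - r) - y) = r
    rw [e]; field_simp; ring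
  · have hny : n - y ≠ 0 := sub_ne_zero.mpr (ne_of_mem_erase hn)
    rw [← map_mul, show (n - x) * (n - y) = (n - x) / (n - y) * ((n - y) * (n - y)) by field_simp,
      map_mul, map_mul (quadraticChar K) (n - y), chi_self hny, mul_one]

theorem card_support (h2 : ringChar K ≠ 2) {A B : K} (h : A ≠ B) :
    Fintype.card K + 3 ≤ 2 * (univ.filter fun n => dchi A B n ≠ 0).card := by
  have hsum : ∑ n, dchi A B n * dchi A B n = 2 * (Fintype.card K : ℤ) := by
    have e : ∀ n, dchi A B n * dchi A B n =
        quadraticChar K (n - B) * quadraticChar K (n - B) +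
          quadraticChar K (n - A) * quadraticChar K (n - A) -
          2 * (quadraticChar K (n - A) * quadraticChar K (n - B)) := fun n => by
      simp only [dchi]; ring
    simp only [e, sum_sub_distrib, sum_add_distrib, ← mul_sum, sum_shift h2, if_neg h, if_true]
    ring
  have hle : ∀ n, dchi A B n * dchi A B n ≤ 4 * (if dchi A B n ≠ 0 then 1 else 0) -
      3 * (if n = A then 1 else 0) - 3 * (if n = B then 1 else 0) := by
    intro n
    by_cases hA : n = A
    · subst hA
      have hd : dchi n B n = quadraticChar K (n - B) := by simp [dchi]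
      rw [hd, chi_self (sub_ne_zero.mpr h), if_pos rfl, if_neg h,
        if_pos (quadraticChar_eq_zero_iff.not.mpr (sub_ne_zero.mpr h))]
      norm_num
    by_cases hB : n = B
    · subst hB
      have hd : dchi A n n = -quadraticChar K (n - A) := by simp [dchi]
      rw [hd, neg_mul_neg, chi_self (sub_ne_zero.mpr hA), if_pos rfl, if_neg hA,
        if_pos (neg_ne_zero.mpr (quadraticChar_eq_zero_iff.not.mpr (sub_ne_zero.mpr hA)))]
      norm_num
    rw [if_neg hA, if_neg hB]
    simp only [dchi]
    rcases quadraticChar_dichotomy (sub_ne_zero.mpr hA) with e | e <;>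
      rcases quadraticChar_dichotomy (sub_ne_zero.mpr hB) with e' | e' <;> simp [e, e']
  have hh := sum_le_sum (s := univ) fun n _ => hle n
  rw [hsum, sum_sub_distrib, sum_sub_distrib, ← mul_sum, ← mul_sum, ← mul_sum, sum_boole,
    sum_ite_eq' univ A, sum_ite_eq' univ B, if_pos (mem_univ _), if_pos (mem_univ _)] at hh
  omega

/-- Two differences take opposite signs somewhere. -/
theorem exists_opp (h2 : ringChar K ≠ 2) {A B C D : K} (hAB : A ≠ B) (hCD : C ≠ D) (hAC : A ≠ C)
    (hBD : B ≠ D) : ∃ n, dchi A B n * dchi C D n < 0 := by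
  by_contra hc
  simp only [not_exists, not_lt] at hc
  have hsum : ∑ n, dchi A B n * dchi C D n ≤ 0 := by
    have e : ∀ n, dchi A B n * dchi C D n =
        quadraticChar K (n - B) * quadraticChar K (n - D) -
          quadraticChar K (n - B) * quadraticChar K (n - C) -
          quadraticChar K (n - A) * quadraticChar K (n - D) +
          quadraticChar K (n - A) * quadraticChar K (n - C) := fun n => by
      simp only [dchi]; ring
    simp only [e, sum_add_distrib, sum_sub_distrib, sum_shift h2, if_neg hBD, if_neg hAC]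
    split_ifs <;> omega
  have h0 := (sum_eq_zero_iff_of_nonneg fun n _ => hc n).mp
    (le_antisymm hsum (sum_nonneg fun n _ => hc n))
  have hd : Disjoint (univ.filter fun n => dchi A B n ≠ 0) (univ.filter fun n => dchi C D n ≠ 0) := by
    rw [disjoint_left]
    intro n h1 h3
    simp only [mem_filter, mem_univ, true_and] at h1 h3
    exact mul_ne_zero h1 h3 (h0 n (mem_univ n))
  have h1 := card_le_univ ((univ.filter fun n => dchi A B n ≠ 0) ∪
    (univ.filter fun n => dchi C D n ≠ 0))
  rw [card_union_of_disjoint hd] at h1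
  have := card_support h2 hAB
  have := card_support h2 hCD
  omega

end Cfsg.Agent.UDec18.SixCount
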