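import Cfsg.Agent.UDec18.Odd
import Cfsg.Agent.UDec18.SixCount

/-!
Six non-zero entries: a monomial map whose image of the vector is orthogonal to it, separately on
one pair of coordinates and on the other four (helper24).
-/

set_option autoImplicit false
set_option linter.unusedSectionVars false

namespace Cfsg.Agent.UDec18

open Matrix Cfsg.Agent.MaxSub Cfsg.Agent.HermStab
open Finset (univ)

variable {F : Type*} [Field F] [Fintype F] {n q : ℕ}
variable {σ : F ≃+* F} {f : (Fin n → F) → (Fin n → F) → F}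
variable (S : Std q σ f)
include S

/-- The fixed field. -/
def Std.fix (_ : Std q σ f) : Subfield F := (σ : F →+* F).eqLocusField (RingHom.id F)

noncomputable instance Std.fixFintype : Fintype S.fix := Fintype.ofFinite _

theorem Std.mem_fix {x : F} : x ∈ S.fix ↔ σ x = x := Iff.rfl

theorem Std.fix_coe (a : S.fix) : σ (a : F) = a := S.mem_fix.mp a.2

/-- The norm, valued in the fixed field. -/
def Std.nm (W : F) : S.fix := ⟨W * σ W, S.mem_fix.mpr (S.norm_real W)⟩

theorem Std.nm_mul (V W : F) : S.nm (V * W) = S.nm V * S.nm W :=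
  Subtype.ext (show V * W * σ (V * W) = V * σ V * (W * σ W) by rw [map_mul]; ring)

theorem Std.nm_ne {W : F} (hW : W ≠ 0) : S.nm W ≠ 0 := fun h =>
  mul_ne_zero hW ((map_ne_zero σ).mpr hW) (congrArg Subtype.val h)

/-- A quotient by the conjugate is the square of a norm-one element if the norm is a square. -/
theorem Std.exists_circ_sqrt {W : F} (hW : W ≠ 0) (h : IsSquare (S.nm W)) :
    ∃ z, z * σ z = 1 ∧ z * z = W / σ W := by
  obtain ⟨y, hy⟩ := h
  have hy' : W * σ W = (y : F) * y := congrArg Subtype.val hy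
  have hσW : σ W ≠ 0 := (map_ne_zero σ).mpr hW
  have hy0 : (y : F) ≠ 0 := fun h0 => mul_ne_zero hW hσW (by rw [hy', h0, mul_zero])
  refine ⟨W / y, ?_, ?_⟩
  · rw [map_div₀, S.fix_coe]
    field_simp
    linear_combination hy'
  · field_simp
    linear_combination hy'

variable [DecidableEq F]

theorem Std.two_coe_ne (h2 : ringChar S.fix ≠ 2) : (2 : F) ≠ 0 := fun h =>
  Ring.two_ne_zero h2 (Subtype.ext (by push_cast; exact h))

theorem Std.skew_sq {c : F} (hc : c + σ c = 0) : σ (c * c) = c * c := by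
  rw [map_mul, eq_neg_of_add_eq_zero_right hc]; ring

/-- The square of a skew element is not a square in the fixed field. -/
theorem Std.skew_not_square (h2 : ringChar S.fix ≠ 2) {c : F} (hc : c + σ c = 0) (hc0 : c ≠ 0) :
    quadraticChar S.fix ⟨c * c, S.mem_fix.mpr (S.skew_sq hc)⟩ = -1 := by
  refine quadraticChar_neg_one_iff_not_isSquare.mpr fun ⟨y, hy⟩ => ?_
  have hy' : c * c = (y : F) * y := congrArg Subtype.val hy
  refine S.not_real_of_skew (S.two_coe_ne h2) hc hc0 ?_
  rcases mul_self_eq_mul_self_iff.mp hy' with h | h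
  · rw [h, S.fix_coe]
  · rw [h, map_neg, S.fix_coe]

/-- Realising a value of `a + b s` with `s` on the circle and the class of `s`. -/
theorem Std.exists_term (h2 : ringChar S.fix ≠ 2) {a b k : S.fix} (ha : a ≠ 0) (hb : b ≠ 0)
    (hd : SixCount.dchi ((a + b) * (a + b)) ((a - b) * (a - b)) k ≠ 0) :
    ∃ W : F, W ≠ 0 ∧ ((a : F) + b * (W / σ W)) * σ ((a : F) + b * (W / σ W)) = k ∧
      0 < quadraticChar S.fix (a * b) * quadraticChar S.fix (S.nm W) *
        SixCount.dchi ((a + b) * (a + b)) ((a - b) * (a - b)) k := by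
  have hab : a * b ≠ 0 := mul_ne_zero ha hb
  have h2K : (2 : S.fix) ≠ 0 := Ring.two_ne_zero h2
  have h2F := S.two_coe_ne h2
  obtain ⟨c, hc0, hc⟩ := exists_skew S.uf
  have hσc : σ c = -c := eq_neg_of_add_eq_zero_right hc
  have hsk := S.skew_not_square h2 hc hc0
  set A := (a + b) * (a + b) with hA
  set B := (a - b) * (a - b) with hB
  have h4 : A - B = 2 * 2 * (a * b) := by rw [hA, hB]; ring
  have hχ4 : quadraticChar S.fix (2 * 2 : S.fix) = 1 := by
    rw [map_mul]; exact SixCount.chi_self h2K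
  by_cases hkA : k = A
  · refine ⟨1, one_ne_zero, ?_, ?_⟩
    · rw [hkA, hA]
      push_cast
      rw [map_one, div_one, mul_one, map_add, S.fix_coe, S.fix_coe]
    · rw [show S.nm 1 = 1 from Subtype.ext (show (1 : F) * σ 1 = 1 by simp), map_one, mul_one,
        SixCount.dchi, hkA, sub_self, MulChar.map_zero, sub_zero, h4, map_mul (quadraticChar S.fix) (2 * 2),
        hχ4, one_mul, SixCount.chi_self hab]
      norm_num
  by_cases hkB : k = B
  · refine ⟨c, hc0, ?_, ?_⟩
    · rw [hkB, hB]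
      push_cast
      rw [hσc, show c / -c = -1 by field_simp, mul_neg, mul_one, ← sub_eq_add_neg, map_sub,
        S.fix_coe, S.fix_coe]
    · rw [show S.nm c = -1 * ⟨c * c, S.mem_fix.mpr (S.skew_sq hc)⟩ from Subtype.ext (by
          show c * σ c = ((-1 : S.fix) : F) * (c * c)
          push_cast
          rw [hσc]; ring), map_mul (quadraticChar S.fix) (-1), hsk, SixCount.dchi, hkB, sub_self,
        MulChar.map_zero, zero_sub,
        show B - A = -1 * (2 * 2 * (a * b)) by linear_combination -h4,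
        map_mul (quadraticChar S.fix) (-1), map_mul (quadraticChar S.fix) (2 * 2),
        map_mul (quadraticChar S.fix) a, hχ4, one_mul]
      have e1 := SixCount.chi_self (neg_ne_zero.mpr (one_ne_zero (α := S.fix)))
      have e2 := SixCount.chi_self ha
      have e3 := SixCount.chi_self hb
      have : quadraticChar S.fix a * quadraticChar S.fix b *
          (quadraticChar S.fix (-1) * -1) *
            -(quadraticChar S.fix (-1) * (quadraticChar S.fix a * quadraticChar S.fix b)) = 1 := by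
        linear_combination (quadraticChar S.fix a * quadraticChar S.fix a *
            (quadraticChar S.fix b * quadraticChar S.fix b)) * e1 +
          (quadraticChar S.fix b * quadraticChar S.fix b) * e2 + e3
      rw [this]
      norm_num
  -- the general value
  have e₁ := quadraticChar_dichotomy (sub_ne_zero.mpr hkA)
  have e₂ := quadraticChar_dichotomy (sub_ne_zero.mpr hkB)
  simp only [SixCount.dchi] at hd ⊢
  have hpm : quadraticChar S.fix (k - A) = -quadraticChar S.fix (k - B) := by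
    rcases e₁ with h | h <;> rcases e₂ with h' | h' <;> rw [h, h'] at hd ⊢ <;> simp_all
  set τ := (k - a * a - b * b) / (a * b) with hτ
  have hτ2 : a * b * (2 + τ) = k - B := by rw [hτ, hB]; field_simp; ring
  have hdd : (a * b) * (a * b) * (τ * τ - 4) = (k - A) * (k - B) := by
    rw [hτ, hA, hB]; field_simp; ring
  have hd0 : τ * τ - 4 ≠ 0 := fun h => mul_ne_zero (sub_ne_zero.mpr hkA) (sub_ne_zero.mpr hkB)
    (by rw [← hdd, h, mul_zero])
  have hχd : quadraticChar S.fix (τ * τ - 4) = -1 := by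
    have h := congrArg (quadraticChar S.fix) hdd
    rw [map_mul, map_mul (quadraticChar S.fix) (a * b), SixCount.chi_self hab, one_mul, map_mul,
      hpm, neg_mul, SixCount.chi_self (sub_ne_zero.mpr hkB)] at h
    exact h
  set c2 : S.fix := ⟨c * c, S.mem_fix.mpr (S.skew_sq hc)⟩ with hc2
  have hc20 : c2 ≠ 0 := fun h => mul_ne_zero hc0 hc0 (congrArg Subtype.val h)
  have hcast4 : ((4 : S.fix) : F) = 4 := map_ofNat S.fix.subtype 4
  have hcast2 : ((2 : S.fix) : F) = 2 := map_ofNat S.fix.subtype 2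
  obtain ⟨y, hy⟩ : IsSquare ((τ * τ - 4) * c2) :=
    (quadraticChar_one_iff_isSquare (mul_ne_zero hd0 hc20)).mp (by rw [map_mul, hχd, hsk]; rfl)
  have hy' : ((τ : F) * τ - 4) * (c * c) = (y : F) * y := by
    have := congrArg Subtype.val hy
    push_cast at this
    simpa [hc2, hcast4] using this
  set δ := (y : F) / c with hδ
  have hδ2 : δ * δ = (τ : F) * τ - 4 := by
    rw [hδ]; field_simp; linear_combination -hy'
  have hσδ : σ δ = -δ := by rw [hδ, map_div₀, S.fix_coe, hσc, div_neg]
  set W := 2 + (τ : F) + δ with hWdef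
  have hσW : σ W = 2 + (τ : F) - δ := by
    rw [hWdef, map_add, map_add, map_ofNat, S.fix_coe, hσδ]; ring
  have hN : S.nm W = 2 * 2 * (2 + τ) := Subtype.ext (by
    show W * σ W = _
    rw [hσW, hWdef]; push_cast; simp only [hcast2]; linear_combination -hδ2)
  have h2τ : 2 + τ ≠ 0 := fun h => sub_ne_zero.mpr hkB (by rw [← hτ2, h, mul_zero])
  have hW : W ≠ 0 := fun h => by
    have h' := congrArg Subtype.val hN
    rw [show (S.nm W : F) = W * σ W from rfl, h, zero_mul] at h'
    exact mul_ne_zero (mul_ne_zero h2K h2K) h2τ (Subtype.ext (by simpa using h'.symm))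
  have hσW0 : σ W ≠ 0 := (map_ne_zero σ).mpr hW
  clear_value W
  refine ⟨W, hW, ?_, ?_⟩
  · have hk : (k : F) = a * a + b * b + a * b * τ := by
      have : k = a * a + b * b + a * b * τ := by rw [hτ]; field_simp; ring
      rw [this]; push_cast; rfl
    have hsum : W * W + σ W * σ W = (τ : F) * (W * σ W) := by
      rw [hσW, hWdef]; linear_combination (2 + (τ : F)) * hδ2
    rw [hk, map_add, map_mul, map_div₀, S.inv, S.fix_coe, S.fix_coe]
    field_simp
    linear_combination ((a : F) * b) * hsum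
  · rw [hN, map_mul (quadraticChar S.fix) (2 * 2), hχ4, one_mul, ← map_mul, hτ2, hpm,
      sub_neg_eq_add, mul_add, SixCount.chi_self (sub_ne_zero.mpr hkB)]
    norm_num

/-- Four non-zero reals with non-square product have a vanishing circle combination whose product
is the square of a norm-one element. -/
theorem Std.exists_four (h2 : ringChar S.fix ≠ 2) {a b c d : S.fix} (ha : a ≠ 0) (hb : b ≠ 0)
    (hc : c ≠ 0) (hd : d ≠ 0) (hχ : quadraticChar S.fix (a * b * (c * d)) = -1) :
    ∃ t₁ t₂ t₃ t₄ z : F, t₁ * σ t₁ = 1 ∧ t₂ * σ t₂ = 1 ∧ t₃ * σ t₃ = 1 ∧ t₄ * σ t₄ = 1 ∧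
      z * σ z = 1 ∧ (a : F) * t₁ + b * t₂ + c * t₃ + d * t₄ = 0 ∧
      t₁ * t₂ * t₃ * t₄ = z * z := by
  by_cases h₁ : a + b + c + d = 0
  · exact ⟨1, 1, 1, 1, 1, by simp, by simp, by simp, by simp, by simp,
      by simpa using congrArg Subtype.val h₁, by simp⟩
  by_cases h₂ : a + b = c + d
  · exact ⟨1, 1, -1, -1, 1, by simp, by simp, by simp, by simp, by simp, by
      have := congrArg Subtype.val h₂
      push_cast at this
      linear_combination this, by ring⟩
  by_cases h₃ : a + c = b + d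
  · exact ⟨1, -1, 1, -1, 1, by simp, by simp, by simp, by simp, by simp, by
      have := congrArg Subtype.val h₃
      push_cast at this
      linear_combination this, by ring⟩
  by_cases h₄ : a + d = b + c
  · exact ⟨1, -1, -1, 1, 1, by simp, by simp, by simp, by simp, by simp, by
      have := congrArg Subtype.val h₄
      push_cast at this
      linear_combination this, by ring⟩
  have h2K : (2 : S.fix) ≠ 0 := Ring.two_ne_zero h2
  have sq_ne : ∀ {x y : S.fix}, x ≠ 0 → y ≠ 0 → (x + y) * (x + y) ≠ (x - y) * (x - y) :=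
    fun {x y} hx hy h => mul_ne_zero (mul_ne_zero h2K h2K) (mul_ne_zero hx hy)
      (by linear_combination h)
  obtain ⟨k, hk⟩ := SixCount.exists_opp h2 (A := (a + b) * (a + b)) (B := (a - b) * (a - b))
    (C := (c + d) * (c + d)) (D := (c - d) * (c - d)) (sq_ne ha hb) (sq_ne hc hd)
    (fun h => by
      rcases mul_self_eq_mul_self_iff.mp h with h | h
      · exact h₂ h
      · exact h₁ (by linear_combination h))
    (fun h => by
      rcases mul_self_eq_mul_self_iff.mp h with h | h
      · exact h₄ (by linear_combination h)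
      · exact h₃ (by linear_combination h))
  obtain ⟨W, hW, hn, hpos⟩ := S.exists_term h2 ha hb (left_ne_zero_of_mul hk.ne)
  obtain ⟨V, hV, hn', hpos'⟩ := S.exists_term h2 hc hd (right_ne_zero_of_mul hk.ne)
  have hWV : quadraticChar S.fix (S.nm (W * V)) = 1 := by
    rw [S.nm_mul, map_mul]
    have h5 := mul_pos hpos hpos'
    rw [map_mul (quadraticChar S.fix) (a * b)] at hχ
    rcases quadraticChar_dichotomy (S.nm_ne hW) with e₁ | e₁ <;>
      rcases quadraticChar_dichotomy (S.nm_ne hV) with e₂ | e₂ <;> rw [e₁, e₂] at h5 ⊢ <;>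
        first | rfl | nlinarith
  obtain ⟨z, hz, hzz⟩ := S.exists_circ_sqrt (mul_ne_zero hW hV)
    ((quadraticChar_one_iff_isSquare (S.nm_ne (mul_ne_zero hW hV))).mp hWV)
  set s := W / σ W with hs
  set r := V / σ V with hr
  have hsN : s * σ s = 1 := by
    have := (map_ne_zero σ).mpr hW
    rw [hs, map_div₀, S.inv]; field_simp
  have hrN : r * σ r = 1 := by
    have := (map_ne_zero σ).mpr hV
    rw [hr, map_div₀, S.inv]; field_simp
  set u := (a : F) + b * s
  set v := (c : F) + d * r
  obtain ⟨l, hl, hlv⟩ : ∃ l, l * σ l = 1 ∧ u + l * v = 0 := by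
    by_cases hv : v = 0
    · refine ⟨1, by simp, ?_⟩
      have hu : u = 0 := by
        have h0 : u * σ u = 0 := by rw [hn, ← hn', hv, zero_mul]
        rcases mul_eq_zero.mp h0 with h | h
        · exact h
        · exact (map_eq_zero σ).mp h
      rw [hu, hv]; simp
    · refine ⟨-(u / v), ?_, by rw [neg_mul, div_mul_cancel₀ _ hv, add_neg_cancel]⟩
      have := (map_ne_zero σ).mpr hv
      rw [map_neg, map_div₀, neg_mul_neg, div_mul_div_comm, hn, ← hn', div_self]
      exact mul_ne_zero hv this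
  refine ⟨1, s, l, l * r, l * z, by simp, hsN, hl, ?_, ?_, ?_, ?_⟩
  · rw [map_mul]; linear_combination (r * σ r) * hl + hrN
  · rw [map_mul]; linear_combination (z * σ z) * hl + hz
  · linear_combination hlv
  · have hsr : s * r = z * z := by rw [hzz, hs, hr, map_mul, div_mul_div_comm]
    linear_combination (l * l) * hsr

omit S in
/-- A permutation with two prescribed values. -/
theorem exists_perm_two {i j : Fin 6} (hij : i ≠ j) :
    ∃ ρ : Equiv.Perm (Fin 6), ρ 0 = i ∧ ρ 1 = j := by
  refine ⟨Equiv.swap (Equiv.swap 0 i 1) j * Equiv.swap 0 i, ?_, by simp⟩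
  rw [Equiv.Perm.mul_apply, Equiv.swap_apply_left]
  refine Equiv.swap_apply_of_ne_of_ne (fun h => ?_) hij
  have := (Equiv.swap 0 i).injective ((Equiv.swap_apply_left 0 i).trans h)
  exact absurd this (by decide)

/-- The orthogonal monomial image of a vector with six non-zero entries. -/
theorem Std.exists_split {p : Fin 6 → F} (hp : ∀ a, p a ≠ 0) :
    ∃ (π : Equiv.Perm (Fin 6)) (μ : Fin 6 → F) (i j : Fin 6), i ≠ j ∧
      (∀ a, μ a * σ (μ a) = 1) ∧ ((Equiv.Perm.sign π : ℤ) : F) * ∏ a, μ a = 1 ∧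
      (∀ a, π a ∈ ({i, j} : Finset (Fin 6)) ↔ a ∈ ({i, j} : Finset (Fin 6))) ∧
      ∑ a ∈ ({i, j} : Finset (Fin 6)), μ (π a) * p a * σ (p (π a)) = 0 ∧
      ∑ a ∈ univ \ ({i, j} : Finset (Fin 6)), μ (π a) * p a * σ (p (π a)) = 0 := by
  classical
  have hσp : ∀ a, σ (p a) ≠ 0 := fun a => (map_ne_zero σ).mpr (hp a)
  have hinv : ∀ {z : F}, z * σ z = 1 → z⁻¹ * σ z⁻¹ = 1 := fun {z} hz => by
    rw [map_inv₀, ← mul_inv, hz, inv_one]
  have hmul : ∀ {x y : F}, x * σ x = 1 → y * σ y = 1 → -(x * y) * σ (-(x * y)) = 1 :=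
    fun {x y} hx hy => by
      rw [map_neg, map_mul]; linear_combination (y * σ y) * hx + hy
  have hcancel : ∀ a b, p a * σ (p b) / σ (p a * σ (p b)) * (σ (p a) * p b) = p a * σ (p b) :=
    fun a b => by
      rw [map_mul, S.inv, div_mul_cancel₀ _ (mul_ne_zero (hσp a) (hp b))]
  by_cases hsq : IsSquare (∏ a, S.nm (p a))
  · set w₁ := p 1 * σ (p 0)
    set w₂ := p 3 * σ (p 2)
    set w₃ := p 5 * σ (p 4)
    have hw : w₁ * w₂ * w₃ ≠ 0 := by
      simp only [w₁, w₂, w₃, ne_eq, mul_eq_zero, hp, hσp, or_self, not_false_iff]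
    obtain ⟨z, hz, hzz⟩ := S.exists_circ_sqrt hw (by
      rwa [show S.nm (w₁ * w₂ * w₃) = ∏ a, S.nm (p a) from Subtype.ext (by
        show w₁ * w₂ * w₃ * σ (w₁ * w₂ * w₃) = _
        rw [← S.fix.coe_subtype, map_prod]
        simp only [w₁, w₂, w₃, map_mul, S.inv, Fin.prod_univ_six]
        show _ = p 0 * σ (p 0) * (p 1 * σ (p 1)) * (p 2 * σ (p 2)) * (p 3 * σ (p 3)) *
          (p 4 * σ (p 4)) * (p 5 * σ (p 5))
        ring)])
    have hσw : σ w₁ ≠ 0 ∧ σ w₂ ≠ 0 ∧ σ w₃ ≠ 0 := by
      simp only [w₁, w₂, w₃, map_mul, S.inv, ne_eq, mul_eq_zero, hp, hσp, or_self, not_false_iff,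
        and_self]
    refine ⟨Equiv.swap 0 1 * Equiv.swap 2 3 * Equiv.swap 4 5,
      ![z⁻¹, -z⁻¹ * (w₁ / σ w₁), 1, -(w₂ / σ w₂), 1, -(w₃ / σ w₃)], 0, 1, by decide,
      fun a => ?_, ?_, by decide, ?_, ?_⟩
    · have hd : ∀ {w : F}, σ w ≠ 0 → w ≠ 0 → (w / σ w) * σ (w / σ w) = 1 := fun {w} h h' => by
        rw [map_div₀, S.inv]; field_simp
      have hw0 : w₁ ≠ 0 ∧ w₂ ≠ 0 ∧ w₃ ≠ 0 := by
        simp only [w₁, w₂, w₃, ne_eq, mul_eq_zero, hp, hσp, or_self, not_false_iff, and_self]
      have h1 := hd hσw.1 hw0.1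
      have h2 := hd hσw.2.1 hw0.2.1
      have h3 := hd hσw.2.2 hw0.2.2
      fin_cases a
      · simpa using hinv hz
      · simpa using hmul (hinv hz) h1
      · simp
      · simpa using h2
      · simp
      · simpa using h3
    · rw [map_mul, map_mul, Equiv.Perm.sign_swap (by decide), Equiv.Perm.sign_swap (by decide),
        Equiv.Perm.sign_swap (by decide)]
      have hz0 : z ≠ 0 := fun h => by simp [h] at hz
      simp [Fin.prod_univ_six]
      rw [map_mul, map_mul] at hzz
      field_simp at hzz ⊢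
      linear_combination -hzz
    · rw [Finset.sum_pair (by decide)]
      simp [Equiv.swap_apply_of_ne_of_ne, -map_mul, -map_inv₀]
      linear_combination (-z⁻¹) * hcancel 1 0
    · rw [show univ \ ({0, 1} : Finset (Fin 6)) = {2, 3, 4, 5} by decide]
      simp [Equiv.swap_apply_of_ne_of_ne, -map_mul, -map_inv₀]
      linear_combination -(hcancel 3 2) - hcancel 5 4
  -- the non-square case
  have h2 : ringChar S.fix ≠ 2 := fun h => hsq (FiniteField.isSquare_of_char_two h _)
  let χ := quadraticChar S.fix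
  have hP : χ (∏ a, S.nm (p a)) = -1 := quadraticChar_neg_one_iff_not_isSquare.mpr hsq
  obtain ⟨i, j, hij, hχij⟩ : ∃ i j : Fin 6, i ≠ j ∧ χ (S.nm (p i)) = χ (S.nm (p j)) := by
    rcases quadraticChar_dichotomy (S.nm_ne (hp 0)) with e₀ | e₀ <;>
      rcases quadraticChar_dichotomy (S.nm_ne (hp 1)) with e₁ | e₁ <;>
      rcases quadraticChar_dichotomy (S.nm_ne (hp 2)) with e₂ | e₂
    all_goals first
      | exact ⟨0, 1, by decide, e₀.trans e₁.symm⟩
      | exact ⟨0, 2, by decide, e₀.trans e₂.symm⟩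
      | exact ⟨1, 2, by decide, e₁.trans e₂.symm⟩
  obtain ⟨ρ, hρ0, hρ1⟩ := exists_perm_two hij
  have hsplit : χ (S.nm (p (ρ 2)) * S.nm (p (ρ 3)) * (S.nm (p (ρ 4)) * S.nm (p (ρ 5)))) = -1 := by
    rw [← Equiv.prod_comp ρ, Fin.prod_univ_six, hρ0, hρ1, mul_assoc, mul_assoc, mul_assoc,
      mul_assoc, map_mul, map_mul χ (S.nm (p j)), hχij, ← mul_assoc,
      SixCount.chi_self (S.nm_ne (hp j)), one_mul] at hP
    rw [← hP]
    congr 1
    ring
  obtain ⟨t₁, t₂, t₃, t₄, z, h₁, h₂, h₃, h₄, hz, hsum, hprod⟩ := S.exists_four h2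
    (S.nm_ne (hp _)) (S.nm_ne (hp _)) (S.nm_ne (hp _)) (S.nm_ne (hp _)) hsplit
  set w := p (ρ 1) * σ (p (ρ 0)) with hw
  have hw0 : w ≠ 0 := mul_ne_zero (hp _) (hσp _)
  have hσw : σ w ≠ 0 := (map_ne_zero σ).mpr hw0
  obtain ⟨z₀, hz₀, hzz₀⟩ := S.exists_circ_sqrt hw0 ((quadraticChar_one_iff_isSquare (S.nm_ne hw0)).mp
    (by
      rw [show S.nm w = S.nm (p i) * S.nm (p j) from Subtype.ext (by
        show w * σ w = p i * σ (p i) * (p j * σ (p j))
        rw [hw, hρ0, hρ1, map_mul, S.inv]; ring), map_mul, show quadraticChar S.fix (S.nm (p i)) =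
          quadraticChar S.fix (S.nm (p j)) from hχij]
      exact SixCount.chi_self (S.nm_ne (hp _))))
  set α := (z₀ * z)⁻¹ with hα
  have hαN : α * σ α = 1 := hinv (by rw [map_mul]; linear_combination (z * σ z) * hz₀ + hz)
  set ν : Fin 6 → F := ![α, -α * (w / σ w), t₁, t₂, t₃, t₄] with hν
  have hz00 : z₀ ≠ 0 := fun h => by simp [h] at hz₀
  have hz0 : z ≠ 0 := fun h => by simp [h] at hz
  refine ⟨Equiv.swap i j, fun a => ν (ρ.symm a), i, j, hij, fun a => ?_, ?_, fun a => ?_, ?_, ?_⟩
  · have h5 : (w / σ w) * σ (w / σ w) = 1 := by rw [map_div₀, S.inv]; field_simp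
    show ν (ρ.symm a) * σ (ν (ρ.symm a)) = 1
    generalize ρ.symm a = b
    fin_cases b <;> simp [hν, h₁, h₂, h₃, h₄, hαN, -map_mul]
    simpa using hmul hαN h5
  · rw [Equiv.Perm.sign_swap hij, ← Equiv.prod_comp ρ]
    simp [Fin.prod_univ_six, hν]
    rw [hα]
    field_simp at hzz₀ ⊢
    linear_combination (z * z) * hzz₀.symm + (w) * hprod
  · simp only [Finset.mem_insert, Finset.mem_singleton]
    by_cases hai : a = i
    · subst hai; simp
    by_cases haj : a = j
    · subst haj; simp
    rw [Equiv.swap_apply_of_ne_of_ne hai haj]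
  · rw [Finset.sum_pair hij, Equiv.swap_apply_left, Equiv.swap_apply_right]
    simp only [show ρ.symm i = 0 from by rw [← hρ0, Equiv.symm_apply_apply],
      show ρ.symm j = 1 from by rw [← hρ1, Equiv.symm_apply_apply]]
    simp [hν, hw, hρ0, hρ1, -map_mul]
    linear_combination (-α) * hcancel j i
  · have him : univ \ ({i, j} : Finset (Fin 6)) = ({2, 3, 4, 5} : Finset (Fin 6)).image ρ := by
      rw [show ({2, 3, 4, 5} : Finset (Fin 6)) = univ \ {0, 1} by decide,
        Finset.image_sdiff _ _ ρ.injective, Finset.image_univ_equiv, Finset.image_insert,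
        Finset.image_singleton, hρ0, hρ1]
    rw [him, Finset.sum_image (fun a _ b _ h => ρ.injective h)]
    have hfix : ∀ a, a ≠ 0 → a ≠ 1 → Equiv.swap i j (ρ a) = ρ a := fun a h0 h1 =>
      Equiv.swap_apply_of_ne_of_ne (fun h => h0 (ρ.injective (h.trans hρ0.symm)))
        (fun h => h1 (ρ.injective (h.trans hρ1.symm)))
    simp [hν, hfix]
    simp only [Std.nm] at hsum
    linear_combination hsum

end Cfsg.Agent.UDec18
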