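import Cfsg.Agent.UDec18.One

/-!
Lines (`k = 1`): conjugates of two-coordinate diagonal elements (helper18).
-/

set_option autoImplicit false
set_option linter.unusedSectionVars false

namespace Cfsg.Agent.UDec18

open Matrix Cfsg.Agent.MaxSub Cfsg.Agent.HermStab
open Finset (univ)

variable {F : Type*} [Field F] [Fintype F] {n q : ℕ}
variable {σ : F ≃+* F} {f : (Fin n → F) → (Fin n → F) → F} {M : Subgroup (GL (Fin n) F)}

local notation:73 g:74 " ◆ " x:73 => (Units.val g) *ᵥ x

/-- No element of `M` outside the monomial group sends a basis vector to a multiple of one. -/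
def NoCoord (M : Subgroup (GL (Fin n) F)) : Prop :=
  ∀ g ∈ M, ∀ (i a : Fin n) (c : F), g ◆ e i = c • e a → Mono g

/-- `u, v` span a coordinate plane. -/
def InPlane (f : (Fin n → F) → (Fin n → F) → F) (u v : Fin n → F) : Prop :=
  ∃ a b, a ≠ b ∧ (∀ l, l ≠ a → l ≠ b → u l = 0 ∧ v l = 0) ∧
    ∀ x, f x u = 0 → f x v = 0 → x a = 0 ∧ x b = 0

variable (S : Std q σ f)
include S

theorem exists_lam (h3 : 3 ≤ q) : ∃ l ∈ S.circ, l * l ≠ 1 ∧ l * l + l + 1 ≠ 0 := by
  classical
  by_contra hc
  simp only [not_exists, not_and, not_not] at hc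
  have hcov : ∀ l ∈ S.circ, l = 1 ∨ l = -1 ∨ l * l + l + 1 = 0 := fun l hl => by
    by_cases h : l * l = 1
    · exact (mul_self_eq_one_iff.mp h).imp id Or.inl
    · exact Or.inr (Or.inr (hc l hl h))
  by_cases hq : q = 3
  · have h30 : (3 : F) = 0 := by
      have := FiniteField.cast_card_eq_zero (K := F)
      rw [S.card, hq] at this
      push_cast at this
      exact mul_self_eq_zero.mp (by linear_combination this)
    have : S.circ ⊆ ({1, -1} : Finset F) := fun l hl => by
      rcases hcov l hl with h | h | h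
      · simp [h]
      · simp [h]
      · simp [sub_eq_zero.mp (mul_self_eq_zero.mp
          (show (l - 1) * (l - 1) = 0 by linear_combination h - l * h30))]
    have h := (Finset.card_le_card this).trans Finset.card_le_two
    rw [S.card_circ] at h
    omega
  · by_cases hr : ∃ r : F, r * r + r + 1 = 0
    · obtain ⟨r, hr⟩ := hr
      have : S.circ ⊆ ({1, -1, r, -1 - r} : Finset F) := fun l hl => by
        rcases hcov l hl with h | h | h
        · simp [h]
        · simp [h]
        · rcases mul_eq_zero.mp (show (l - r) * (l - (-1 - r)) = 0 by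
            linear_combination h - hr) with h' | h'
          · simp [sub_eq_zero.mp h']
          · simp [sub_eq_zero.mp h']
      have h := (Finset.card_le_card this).trans Finset.card_le_four
      rw [S.card_circ] at h
      omega
    · have : S.circ ⊆ ({1, -1} : Finset F) := fun l hl => by
        rcases hcov l hl with h | h | h
        · simp [h]
        · simp [h]
        · exact absurd ⟨l, h⟩ hr
      have h := (Finset.card_le_card this).trans Finset.card_le_two
      rw [S.card_circ] at h
      omega

theorem plane_of_two {u v : Fin n → F} {a b : Fin n} (hab : a ≠ b) {α β γ δ : F}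
    (ha : (e a : Fin n → F) = α • u + β • v) (hb : (e b : Fin n → F) = γ • u + δ • v) :
    InPlane f u v := by
  have a1 := congrFun ha a
  have a2 := congrFun ha b
  have b1 := congrFun hb a
  have b2 := congrFun hb b
  simp [e, hab, hab.symm] at a1 a2 b1 b2
  have hD : (α * δ - β * γ) * (u a * v b - u b * v a) = 1 := by
    linear_combination (-(γ * u b + δ * v b)) * a1 - b2 + (γ * u a + δ * v a) * a2
  refine ⟨a, b, hab, fun l hla hlb => ?_, fun x hu hv => ?_⟩
  · have e1 := congrFun ha l
    have e2 := congrFun hb l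
    simp [e, hla, hlb] at e1 e2
    have hD0 := left_ne_zero_of_mul_eq_one hD
    exact ⟨(mul_eq_zero.mp (show (α * δ - β * γ) * u l = 0 by
        linear_combination -δ * e1 + β * e2)).resolve_left hD0,
      (mul_eq_zero.mp (show (α * δ - β * γ) * v l = 0 by
        linear_combination γ * e1 - α * e2)).resolve_left hD0⟩
  · refine ⟨?_, ?_⟩
    · rw [← S.f_e x a, ha, hadd_right S.uf, hsmul_right S.uf, hsmul_right S.uf, hu, hv]; simp
    · rw [← S.f_e x b, hb, hadd_right S.uf, hsmul_right S.uf, hsmul_right S.uf, hu, hv]; simp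

/-- If the conjugate of a two-coordinate diagonal element fixes a coordinate line, the
corresponding images span a coordinate plane. -/
theorem plane_of_zero (h3 : 3 ≤ q) (hH : ∀ h ∈ su f, Mono h → h ∈ M) (hMG : M ≤ su f)
    (NC : NoCoord M) {g : GL (Fin n) F} (hg : g ∈ M) {i j m : Fin n} (hij : i ≠ j)
    (hi : (g ◆ e i) m = 0) (hj : (g ◆ e j) m = 0) : InPlane f (g ◆ e i) (g ◆ e j) := by
  classical
  obtain ⟨l, hl, hl2, hl3⟩ := exists_lam S h3
  have hlN := S.mem_circ.mp hl
  have hgi := (hMG hg).1
  set u := g ◆ e i with hu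
  set v := g ◆ e j with hv
  have huu : f u u = 1 := (mem_isom.mp hgi _ _).trans (by rw [S.e_e, if_pos rfl])
  have hvv : f v v = 1 := (mem_isom.mp hgi _ _).trans (by rw [S.e_e, if_pos rfl])
  have huv : f u v = 0 := (mem_isom.mp hgi _ _).trans (by rw [S.e_e, if_neg hij])
  have hvu : f v u = 0 := hswap_zero S.uf huv
  obtain ⟨t, hti, hte, htd⟩ := S.exists_mono 1
    (Function.update (Function.update (1 : Fin n → F) i l) j (σ l)) (fun a => by
      by_cases h : a = j
      · subst h; rw [Function.update_self, S.inv, mul_comm]; exact hlN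
      · by_cases h' : a = i
        · subst h'; simpa [h] using hlN
        · simp [h, h'])
  simp only [Equiv.Perm.coe_one, id_eq] at hte
  rw [Fintype.prod_eq_mul i j hij (fun x hx => by simp [hx.1, hx.2]), Function.update_self,
    Function.update_of_ne hij, Function.update_self, hlN] at htd
  have htsu : t ∈ su f := ⟨hti, (mem_special_iff S).mpr (by simpa using htd)⟩
  have htM : t ∈ M := hH t htsu (mono_of_perm 1 fun a => ⟨_, hte a⟩)
  have htx : ∀ y, t ◆ y = y + ((l - 1) * y i) • e i + ((σ l - 1) * y j) • e j := fun y => by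
    rw [ap_eq_sum]
    funext a
    simp only [hte, Finset.sum_apply, Pi.smul_apply, Pi.add_apply, smul_eq_mul]
    rw [Finset.sum_eq_single a (fun c _ hc => by simp [e, hc.symm]) (by simp)]
    by_cases h : a = j
    · subst h; simp [e, hij.symm]; ring
    · by_cases h' : a = i
      · subst h'; simp [e, h]; ring
      · simp [e, h, h']
  set h := g * t * g⁻¹ with hh
  have hhM : h ∈ M := mul_mem (mul_mem hg htM) (inv_mem hg)
  have hco : ∀ (x : Fin n → F) (a : Fin n),
      ((g⁻¹ : GL (Fin n) F) ◆ x) a = f x (g ◆ e a) := fun x a => by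
    rw [← S.f_e ((g⁻¹ : GL (Fin n) F) ◆ x) a, ← mem_isom.mp hgi, mulVec_inv_mulVec]
  have hap : ∀ x, h ◆ x = x + ((l - 1) * f x u) • u + ((σ l - 1) * f x v) • v := fun x => by
    rw [hh, ap_mul, ap_mul, htx, mulVec_add, mulVec_add, mulVec_smul, mulVec_smul,
      mulVec_inv_mulVec, hco, hco]
  have hm : h ◆ e m = (1 : F) • e m := by
    rw [hap, S.e_f, S.e_f, hi, hj]; simp
  obtain ⟨p, μ, hp⟩ := (NC h hhM m m 1 hm).exists_perm
  have hspan : ∀ a, h ◆ e a - e a =
      ((l - 1) * f (e a) u) • u + ((σ l - 1) * f (e a) v) • v := fun a => by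
    rw [hap]; abel
  by_cases hmove : ∃ a, p a ≠ a
  · obtain ⟨a, ha⟩ := hmove
    set b := p a with hb
    have hμa := (hp a).1
    have hfix : ∀ A B : F, h ◆ (A • u + B • v) = (l * A) • u + (σ l * B) • v := fun A B => by
      rw [hap, S.uf.add_left, S.uf.add_left, S.uf.smul_left, S.uf.smul_left, S.uf.smul_left,
        S.uf.smul_left, huu, hvv, huv, hvu]
      module
    set τ := 1 + l + σ l with hτ
    have hcub : h ◆ h ◆ h ◆ e a - τ • (h ◆ h ◆ e a) + τ • (h ◆ e a) - e a = 0 := by
      set A := (l - 1) * f (e a) u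
      set B := (σ l - 1) * f (e a) v
      have h1 : h ◆ e a = e a + (A • u + B • v) := by rw [← hspan]; abel
      rw [h1, mulVec_add, hfix, h1, mulVec_add, mulVec_add, hfix, hfix, h1, hτ]
      have e1 : l * (l * A) + -(l + σ l) * (l * A) + A = 0 := by linear_combination -A * hlN
      have e2 : σ l * (σ l * B) + -(l + σ l) * (σ l * B) + B = 0 := by
        linear_combination -B * hlN
      have : (l * (l * A) + -(l + σ l) * (l * A) + A) • u +
          (σ l * (σ l * B) + -(l + σ l) * (σ l * B) + B) • v = 0 := by rw [e1, e2]; simp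
      rw [← this]
      module
    obtain ⟨hμb, hb2⟩ := hp b
    rw [(hp a).2, ← hb, mulVec_smul, hb2, smul_smul, mulVec_smul, (hp (p b)).2, smul_smul] at hcub
    have hcb : p b ≠ b := fun h' => ha (p.injective h')
    have hba : b ≠ a := ha
    have hbb := congrFun hcub b
    have hca : p b = a := by
      by_contra hca
      have hd : p (p b) ≠ b := fun h' => hca (p.injective (h'.trans hb))
      simp [e, hd.symm, hcb.symm, hba] at hbb
      rcases hbb with h0 | h0
      · exact hl3 (by rw [hτ] at h0; linear_combination l * h0 - hlN)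
      · exact hμa h0
    rw [hca, ← hb] at hcub
    have eb := congrFun hcub b
    have ea := congrFun hcub a
    simp [e, hba, hba.symm] at eb ea
    set ν := μ a * μ b with hν
    have hν1 : ν = -τ := mul_left_cancel₀ hμa (by rw [hν]; linear_combination eb)
    have hτ1 : τ * τ = 1 := by
      rw [hν] at hν1; linear_combination ea + τ * hν1
    have hτ2 : τ = 1 := (mul_self_eq_one_iff.mp hτ1).resolve_right fun h' => hl2 (by
      rw [hτ] at h'
      have : (l + 1) * (l + 1) = 0 := by linear_combination l * h' - hlN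
      have := eq_neg_of_add_eq_zero_left (mul_self_eq_zero.mp this)
      rw [this]; ring)
    have h20 : (2 : F) ≠ 0 := fun h' => hl2 (by
      rw [hτ] at hτ2; linear_combination l * hτ2 - hlN - h')
    rw [hν1, hτ2] at hν
    set A := (l - 1) * f (e a) u
    set B := (σ l - 1) * f (e a) v
    set C := (l - 1) * f (e b) u
    set D := (σ l - 1) * f (e b) v
    have s1 := hspan a
    have s2 := hspan b
    rw [(hp a).2, ← hb] at s1
    rw [hb2, hca] at s2
    refine plane_of_two S ha.symm (α := -(A + μ a * C) / 2) (β := -(B + μ a * D) / 2)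
      (γ := -(C + μ b * A) / 2) (δ := -(D + μ b * B) / 2) ?_ ?_
    · apply smul_right_injective _ h20
      show (2 : F) • e a = (2 : F) • _
      have : (2 : F) • (e a : Fin n → F) =
          -((μ a • e b - e a) + μ a • (μ b • e a - e b)) := by
        rw [smul_sub, smul_smul, ← hν]; module
      rw [this, s1, s2]
      simp only [smul_add, smul_smul]
      match_scalars <;> field_simp <;> ring
    · apply smul_right_injective _ h20
      show (2 : F) • e b = (2 : F) • _
      have : (2 : F) • (e b : Fin n → F) =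
          -((μ b • e a - e b) + μ b • (μ a • e b - e a)) := by
        rw [smul_sub, smul_smul, mul_comm, ← hν]; module
      rw [this, s1, s2]
      simp only [smul_add, smul_smul]
      match_scalars <;> field_simp <;> ring
  · simp only [not_exists, not_not] at hmove
    have hl1 : l - 1 ≠ 0 := fun h' => hl2 (by rw [sub_eq_zero.mp h', one_mul])
    have hl1' : σ l - 1 ≠ 0 := fun h' => hl2 (by
      rw [show l = 1 by rw [← S.inv l, sub_eq_zero.mp h', map_one], one_mul])
    have key : ∀ a, u a ≠ 0 ∨ v a ≠ 0 →
        ∃ α β : F, (e a : Fin n → F) = α • u + β • v := by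
      intro a ha
      have s1 := hspan a
      rw [(hp a).2, hmove] at s1
      by_cases hμ : μ a = 1
      · rw [hμ, one_smul, sub_self] at s1
        have c1 := congrArg (fun x => f x u) s1
        have c2 := congrArg (fun x => f x v) s1
        simp [hzero_left S.uf, S.uf.add_left, S.uf.smul_left, huu, hvv, huv, hvu, hl1, hl1',
          S.e_f] at c1 c2
        rcases ha with ha | ha
        · exact absurd c1 ha
        · exact absurd c2 ha
      · refine ⟨(μ a - 1)⁻¹ * ((l - 1) * f (e a) u), (μ a - 1)⁻¹ * ((σ l - 1) * f (e a) v), ?_⟩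
        rw [mul_smul (μ a - 1)⁻¹, mul_smul (μ a - 1)⁻¹, ← smul_add, ← s1,
          show μ a • (e a : Fin n → F) - e a = (μ a - 1) • e a by module, smul_smul,
          inv_mul_cancel₀ (sub_ne_zero.mpr hμ), one_smul]
    obtain ⟨a, b, hab, ha, hb⟩ : ∃ a b, a ≠ b ∧ (u a ≠ 0 ∨ v a ≠ 0) ∧ (u b ≠ 0 ∨ v b ≠ 0) := by
      obtain ⟨a, ha⟩ := Function.ne_iff.mp (show u ≠ 0 from fun h' => by
        simp [h', hzero_left S.uf] at huu)
      by_contra hc
      simp only [not_exists, not_and, not_or, not_not] at hc
      have hv0 : ∀ b, b ≠ a → v b = 0 := fun b hb => (hc a b (Ne.symm hb) (Or.inl ha)).2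
      rw [S.sum, Finset.sum_eq_single a (fun b _ hb => by rw [hv0 b hb]; simp) (by simp)] at huv
      rw [S.self_sum, Finset.sum_eq_single a (fun b _ hb => by rw [hv0 b hb]; simp) (by simp)] at hvv
      have := (mul_eq_zero.mp huv).resolve_left ha
      rw [this, mul_zero] at hvv
      exact zero_ne_one hvv
    obtain ⟨α, β, h1⟩ := key a ha
    obtain ⟨γ, δ, h2⟩ := key b hb
    exact plane_of_two S hab h1 h2

/-- Two planes meet in a coordinate line. -/
theorem coord_of_planes {u v w : Fin n → F} (hww : f w w = 1) (hwu : f w u = 0) (hwv : f w v = 0)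
    (h1 : InPlane f u v) (h2 : InPlane f u w) : ∃ (a : Fin n) (c : F), u = c • e a := by
  obtain ⟨a, b, hab, h1, h1'⟩ := h1
  obtain ⟨c, d, hcd, h2, -⟩ := h2
  obtain ⟨hwa, hwb⟩ := h1' w hwu hwv
  have single : ∀ z, (∀ y, y ≠ z → u y = 0) → ∃ (a : Fin n) (c : F), u = c • e a := fun z hz =>
    ⟨z, u z, funext fun y => by
      by_cases h : y = z
      · subst h; simp [e]
      · simp [e, h, hz y h]⟩
  by_cases ha : u a = 0
  · exact single b fun y hy => if h : y = a then h ▸ ha else (h1 y h hy).1
  by_cases hb : u b = 0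
  · exact single a fun y hy => if h : y = b then h ▸ hb else (h1 y hy h).1
  exfalso
  have hw : w = 0 := funext fun y => by
    by_cases h : y = c ∨ y = d
    · have ha' : a = c ∨ a = d := by
        by_contra h'
        simp only [not_or] at h'
        exact ha (h2 a h'.1 h'.2).1
      have hb' : b = c ∨ b = d := by
        by_contra h'
        simp only [not_or] at h'
        exact hb (h2 b h'.1 h'.2).1
      rcases h with rfl | rfl <;> rcases ha' with rfl | rfl <;> rcases hb' with rfl | rfl <;>
        first
        | exact absurd rfl hab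
        | exact hwa
        | exact hwb
    · simp only [not_or] at h
      exact (h2 y h.1 h.2).2
  rw [hw, hzero_left S.uf] at hww
  exact zero_ne_one hww

/-- Three basis vectors with room left force a monomial element. -/
theorem mono_of_three (h3 : 3 ≤ q) (hH : ∀ h ∈ su f, Mono h → h ∈ M) (hMG : M ≤ su f)
    (NC : NoCoord M) {g : GL (Fin n) F} (hg : g ∈ M) {i j k m m' : Fin n} (hij : i ≠ j)
    (hik : i ≠ k) (hjk : j ≠ k) (hi : (g ◆ e i) m = 0) (hj : (g ◆ e j) m = 0)
    (hi' : (g ◆ e i) m' = 0) (hk : (g ◆ e k) m' = 0) : Mono g := by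
  have hgi := (hMG hg).1
  have o := fun a b => (mem_isom.mp hgi (e a) (e b)).trans (S.e_e a b)
  obtain ⟨a, c, h⟩ := coord_of_planes S ((o k k).trans (if_pos rfl))
    ((o k i).trans (if_neg hik.symm)) ((o k j).trans (if_neg hjk.symm))
    (plane_of_zero S h3 hH hMG NC hg hij hi hj) (plane_of_zero S h3 hH hMG NC hg hik hi' hk)
  exact NC g hg i a c h

end Cfsg.Agent.UDec18
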